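import Groth.Agent.L17.FSheaf.Coherent
import Groth.Agent.L16.AffineBC.Local

/-!
# Morphisms between modules of coherent systems
-/

set_option autoImplicit false
set_option linter.style.haveILetI false
set_option linter.unusedSectionVars false
set_option backward.isDefEq.respectTransparency false
set_option backward.isDefEq.respectTransparency.types false

universe u

open CategoryTheory CategoryTheory.Limits AlgebraicGeometry TopologicalSpace Opposite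

noncomputable section

namespace Groth.L17.FSheaf

open Groth.L18.Frame (rs ro rs_rs rs_self rs_smul)

section Gen

variable {Y : TopCat.{u}} {R : Sheaf (Opens.grothendieckTopology Y) RingCat.{u}} {B : Set (Opens Y)}

/-- Morphisms are determined on a basis. -/
theorem hom_ext_basis (hB : Opens.IsBasis B) {M N : SheafOfModules.{u} R} (φ ψ : M ⟶ N)
    (h : ∀ U ∈ B, ∀ m, (φ.val.app (op U)).hom m = (ψ.val.app (op U)).hom m) : φ = ψ := by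
  apply SheafOfModules.hom_ext
  apply PresheafOfModules.hom_ext
  intro W
  ext m
  refine TopCat.Presheaf.section_ext (⟨N.val.presheaf, N.isSheaf⟩ : TopCat.Sheaf Ab.{u} Y) W.unop _ _ fun x hx => ?_
  obtain ⟨V, hVB, hxV, hVW⟩ := Opens.isBasis_iff_nbhd.1 hB hx
  let P := N.val.presheaf
  show TopCat.Presheaf.germ P W.unop x hx ((φ.val.app W).hom m) =
    TopCat.Presheaf.germ P W.unop x hx ((ψ.val.app W).hom m)
  rw [← TopCat.Presheaf.germ_res_apply P (homOfLE hVW) x hxV, ← TopCat.Presheaf.germ_res_apply P (homOfLE hVW) x hxV]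
  refine congrArg (TopCat.Presheaf.germ P V x hxV) ?_
  exact (PresheafOfModules.naturality_apply φ.val (homOfLE hVW).op m).symm.trans
    ((h V hVB _).trans (PresheafOfModules.naturality_apply ψ.val (homOfLE hVW).op m))

/-- Maps surjective on a basis are epimorphisms. -/
theorem epi_of_surjective_basis (hB : Opens.IsBasis B) {M N : SheafOfModules.{u} R} (φ : M ⟶ N)
    (h : ∀ U ∈ B, Function.Surjective (φ.val.app (op U)).hom) : Epi φ :=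
  ⟨fun a b hab => hom_ext_basis hB a b fun U hU m => by
    obtain ⟨x, rfl⟩ := h U hU m
    exact LinearMap.congr_fun (congrArg (fun t => ((t : M ⟶ _).val.app (op U)).hom) hab) x⟩

end Gen

variable (𝔛 : FSch.Sys.{u}) (h : 𝔛.IsFormal)

theorem lvU_toX (k : ℕ) (W : (𝔛.X k).Opens) : 𝔛.lvU h k (𝔛.toX k ⁻¹ᵁ W) = W := by
  change (Opens.map (𝔛.gInv h k ≫ (𝔛.toX k).base)).obj W = W
  rw [𝔛.gInv_toX_base h k]
  rfl

include h in
theorem isAffineOpen_toX {k : ℕ} {W : (𝔛.X k).Opens} (hW : IsAffineOpen W) :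
    IsAffineOpen (𝔛.toX k ⁻¹ᵁ W) :=
  haveI := 𝔛.toX_isClosedImmersion h k
  hW.preimage _

/-- Sections of a morphism of direct images, on the corresponding open of the level. -/
abbrev lvApp {k : ℕ} {F G : (𝔛.X k).Modules}
    (ψ : (FSch.levelMor 𝔛 h k).push.obj F ⟶ (FSch.levelMor 𝔛 h k).push.obj G) (U : (𝔛.X 0).Opens)
    (m : Γ(F, 𝔛.lvU h k U)) : Γ(G, 𝔛.lvU h k U) :=
  (ψ.val.app (op U)).hom m

theorem push_injective {k : ℕ} {F G : (𝔛.X k).Modules} {φ φ' : F ⟶ G}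
    (he : (FSch.levelMor 𝔛 h k).push.map φ = (FSch.levelMor 𝔛 h k).push.map φ') : φ = φ' := by
  refine Groth.L16.AffineBC.hom_ext_affine φ φ' fun W _ m => ?_
  have key : ∀ (W' : (𝔛.X k).Opens), 𝔛.lvU h k (𝔛.toX k ⁻¹ᵁ W) = W' →
      ∀ m' : Γ(F, W'), φ.app W' m' = φ'.app W' m' := by
    rintro W' rfl m'
    exact LinearMap.congr_fun (congrArg (fun t => ((t : (FSch.levelMor 𝔛 h k).push.obj F ⟶ _).val.app
      (op (𝔛.toX k ⁻¹ᵁ W))).hom) he) m'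
  exact key W (lvU_toX 𝔛 h k W) m

/-- Direct images from the levels are full. -/
theorem exists_push_preimage {k : ℕ} {F G : (𝔛.X k).Modules}
    (ψ : (FSch.levelMor 𝔛 h k).push.obj F ⟶ (FSch.levelMor 𝔛 h k).push.obj G) :
    ∃ φ : F ⟶ G, (FSch.levelMor 𝔛 h k).push.map φ = ψ := by
  let e := fun W : (𝔛.X k).Opens => lvU_toX 𝔛 h k W
  let α : ∀ W : (𝔛.X k).Opens, IsAffineOpen W → (Γ(F, W) →+ Γ(G, W)) := fun W _ =>
    AddMonoidHom.mk' (fun m => rs G (e W).ge (lvApp 𝔛 h ψ (𝔛.toX k ⁻¹ᵁ W) (rs F (e W).le m))) fun a b => by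
      show (G.presheaf.map (homOfLE (e W).ge).op).hom ((ψ.val.app (op (𝔛.toX k ⁻¹ᵁ W))).hom
        ((F.presheaf.map (homOfLE (e W).le).op).hom (a + b))) = _
      rw [map_add]
      exact (congrArg _ (map_add (ψ.val.app (op (𝔛.toX k ⁻¹ᵁ W))).hom _ _)).trans (map_add _ _ _)
  have hnat : ∀ {U V : (𝔛.X 0).Opens} (hVU : V ≤ U) (m : Γ(F, 𝔛.lvU h k U)),
      lvApp 𝔛 h ψ V (rs F (lvU_mono 𝔛 h k hVU) m) = rs G (lvU_mono 𝔛 h k hVU) (lvApp 𝔛 h ψ U m) :=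
    fun hVU m => PresheafOfModules.naturality_apply ψ.val (homOfLE hVU).op m
  obtain ⟨φ, hφ⟩ := Groth.L16.AffineBC.exists_hom_affine α
    (fun W W' _ _ hW'W m => by
      show rs G _ (lvApp 𝔛 h ψ _ (rs F (e W').le (rs F hW'W m))) = rs G hW'W (rs G _ (lvApp 𝔛 h ψ _ (rs F _ m)))
      have hmono : 𝔛.toX k ⁻¹ᵁ W' ≤ 𝔛.toX k ⁻¹ᵁ W := (𝔛.toX k).preimage_mono hW'W
      rw [rs_rs, show rs F ((e W').le.trans hW'W) m =
        rs F (lvU_mono 𝔛 h k hmono) (rs F (e W).le m) from (rs_rs F _ _ _).symm, hnat hmono, rs_rs, rs_rs])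
    (fun W hW r m => by
      show rs G _ (lvApp 𝔛 h ψ _ (rs F _ (r • m))) = r • rs G _ (lvApp 𝔛 h ψ _ (rs F _ m))
      obtain ⟨b, hb⟩ := pR_surjective 𝔛 h (isAffineOpen_toX 𝔛 h hW) k (ro (e W).le r)
      rw [rs_smul, ← hb]
      have hlin : lvApp 𝔛 h ψ (𝔛.toX k ⁻¹ᵁ W) (pR 𝔛 h k (𝔛.toX k ⁻¹ᵁ W) b • rs F (e W).le m) =
          pR 𝔛 h k (𝔛.toX k ⁻¹ᵁ W) b • lvApp 𝔛 h ψ (𝔛.toX k ⁻¹ᵁ W) (rs F (e W).le m) :=
        map_smul (ψ.val.app (op (𝔛.toX k ⁻¹ᵁ W))).hom b _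
      rw [hlin, rs_smul, hb, Groth.L18.Frame.ro_ro, Groth.L18.Frame.ro_self])
  refine ⟨φ, hom_ext_basis (B := {V | IsAffineOpen (V : (𝔛.X 0).Opens)}) (𝔛.X 0).isBasis_affineOpens _ _
    fun U hU m => ?_⟩
  show φ.app (𝔛.lvU h k U) m = lvApp 𝔛 h ψ U m
  rw [hφ _ (isAffineOpen_lvU 𝔛 h hU k)]
  show rs G _ (lvApp 𝔛 h ψ _ (rs F _ m)) = _
  have key : ∀ (U' : (𝔛.X 0).Opens) (hU' : U' = U) (h1 : 𝔛.lvU h k U' ≤ 𝔛.lvU h k U)
      (h2 : 𝔛.lvU h k U ≤ 𝔛.lvU h k U'), rs G h2 (lvApp 𝔛 h ψ U' (rs F h1 m)) = lvApp 𝔛 h ψ U m := by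
    rintro U' rfl h1 h2
    rw [rs_self, rs_self]
  exact key _ (toX_preimage_lvU 𝔛 h k U) _ _

variable {𝔐 𝔑 : FSch.ModSys 𝔛}

/-- The projections are epimorphisms. -/
theorem epi_realProj (hX : 𝔛.IsLocNoethFormal) (h𝔐 : 𝔐.IsCoh) (k : ℕ) :
    Epi (FSch.realProj 𝔛 hX.1 𝔐.F 𝔐.toPush k) :=
  epi_of_surjective_basis (B := {V | IsAffineOpen (V : (𝔛.X 0).Opens)}) (𝔛.X 0).isBasis_affineOpens _
    fun _ hU => ((RM_spec 𝔛 𝔐 hX h𝔐 hU).2 k).1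

theorem realModMap_bijective (hX : 𝔛.IsLocNoethFormal) (h𝔐 : 𝔐.IsCoh) (h𝔑 : 𝔑.IsCoh) :
    Function.Bijective (fun φ : 𝔐 ⟶ 𝔑 => FSch.ModSys.realModMap hX.1 φ) := by
  constructor
  · intro φ φ' he
    refine FSch.ModSys.Hom.ext (funext fun k => push_injective 𝔛 hX.1 ?_)
    haveI := epi_realProj 𝔛 hX h𝔐 k
    rw [← cancel_epi (FSch.realProj 𝔛 hX.1 𝔐.F 𝔐.toPush k),
      ← FSch.realLimMap_realProj 𝔛 hX.1 φ.app (FSch.ModSys.Hom.toPush_comm φ) k,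
      ← FSch.realLimMap_realProj 𝔛 hX.1 φ'.app (FSch.ModSys.Hom.toPush_comm φ') k]
    exact congrArg (· ≫ FSch.realProj 𝔛 hX.1 𝔑.F 𝔑.toPush k) he
  · intro θ
    have hfac : ∀ k, ∃ φ : 𝔐.F k ⟶ 𝔑.F k, FSch.realProj 𝔛 hX.1 𝔐.F 𝔐.toPush k ≫
        (FSch.levelMor 𝔛 hX.1 k).push.map φ = θ ≫ FSch.realProj 𝔛 hX.1 𝔑.F 𝔑.toPush k := by
      intro k
      haveI := epi_realProj 𝔛 hX h𝔐 k
      have hz : kernel.ι (FSch.realProj 𝔛 hX.1 𝔐.F 𝔐.toPush k) ≫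
          (θ ≫ FSch.realProj 𝔛 hX.1 𝔑.F 𝔑.toPush k) = 0 := by
        refine hom_ext_basis (B := {V | IsAffineOpen (V : (𝔛.X 0).Opens)}) (𝔛.X 0).isBasis_affineOpens _ _
          fun U hU z => ?_
        let x : RM 𝔛 hX.1 𝔐 U := ((kernel.ι (FSch.realProj 𝔛 hX.1 𝔐.F 𝔐.toPush k)).val.app (op U)).hom z
        have hx : qM 𝔛 hX.1 𝔐 k U x = 0 := LinearMap.congr_fun
          (congrArg (fun t => ((t : _ ⟶ _).val.app (op U)).hom)
            (kernel.condition (FSch.realProj 𝔛 hX.1 𝔐.F 𝔐.toPush k))) z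
        show qM 𝔛 hX.1 𝔑 k U ((θ.val.app (op U)).hom x) = 0
        rw [((RM_spec 𝔛 𝔑 hX h𝔑 hU).2 k).2]
        have h1 := Submodule.mem_map_of_mem (f := (show RM 𝔛 hX.1 𝔐 U →ₗ[O 𝔛 hX.1 U] RM 𝔛 hX.1 𝔑 U from
          (θ.val.app (op U)).hom)) ((((RM_spec 𝔛 𝔐 hX h𝔐 hU).2 k).2 x).1 hx)
        rw [Submodule.map_smul''] at h1
        exact Submodule.smul_mono le_rfl le_top h1
      obtain ⟨φ, hφ⟩ := exists_push_preimage 𝔛 hX.1
        (Abelian.epiDesc (FSch.realProj 𝔛 hX.1 𝔐.F 𝔐.toPush k) _ hz)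
      exact ⟨φ, by rw [hφ, Abelian.comp_epiDesc]⟩
    choose φ hφ using hfac
    have hc : ∀ k, 𝔐.toPush k ≫ (Scheme.Modules.pushforward (𝔛.ι k)).map (φ k) = φ (k + 1) ≫ 𝔑.toPush k := by
      intro k
      refine push_injective 𝔛 hX.1 ?_
      haveI := epi_realProj 𝔛 hX h𝔐 (k + 1)
      haveI : Mono ((FSch.pushCompare 𝔛 hX.1 k).app (𝔑.F k)) :=
        (SplitMono.mk ((FSch.pushCompareInv 𝔛 hX.1 k).app (𝔑.F k))
          (FSch.pushCompare_pushCompareInv 𝔛 hX.1 k (𝔑.F k))).mono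
      rw [← cancel_mono ((FSch.pushCompare 𝔛 hX.1 k).app (𝔑.F k)),
        ← cancel_epi (FSch.realProj 𝔛 hX.1 𝔐.F 𝔐.toPush (k + 1))]
      have nat : (FSch.levelMor 𝔛 hX.1 (k + 1)).push.map ((Scheme.Modules.pushforward (𝔛.ι k)).map (φ k)) ≫
          (FSch.pushCompare 𝔛 hX.1 k).app (𝔑.F k) =
          (FSch.pushCompare 𝔛 hX.1 k).app (𝔐.F k) ≫ (FSch.levelMor 𝔛 hX.1 k).push.map (φ k) :=
        (FSch.pushCompare 𝔛 hX.1 k).naturality (φ k)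
      simp only [Functor.map_comp, Category.assoc]
      refine Eq.trans (congrArg (fun t => FSch.realProj 𝔛 hX.1 𝔐.F 𝔐.toPush (k + 1) ≫
        (FSch.levelMor 𝔛 hX.1 (k + 1)).push.map (𝔐.toPush k) ≫ t) nat) ?_
      rw [FSch.realProj_map_assoc, hφ, reassoc_of% hφ (k + 1), FSch.realProj_map]
    let Φ : 𝔐 ⟶ 𝔑 := ⟨φ, fun k => ((Scheme.Modules.pullbackPushforwardAdjunction (𝔛.ι k)).homEquiv _ _).injective (by
      rw [Adjunction.homEquiv_naturality_left, Adjunction.homEquiv_naturality_right]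
      exact (hc k).symm)⟩
    refine ⟨Φ, limit.hom_ext ?_⟩
    rintro ⟨k⟩
    exact (FSch.realLimMap_realProj 𝔛 hX.1 φ (FSch.ModSys.Hom.toPush_comm Φ) k).trans (hφ k)

end Groth.L17.FSheaf
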