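import Groth.Agent.L17.FSheaf.CompExact
import Groth.Agent.L17.FSheaf.HomEquiv
import Groth.Agent.L17.ThickZero
import Groth.Agent.L17.ComplLocFree
import Groth.Agent.L16.CohSupport
import Groth.Agent.L16.CohKernel
import Mathlib.AlgebraicGeometry.Morphisms.FiniteType

/-!
# Injectivity and surjectivity detected on completions
-/

set_option autoImplicit false
set_option linter.style.haveILetI false
set_option linter.unusedSectionVars false
set_option backward.isDefEq.respectTransparency false
set_option backward.isDefEq.respectTransparency.types false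

universe u

open CategoryTheory CategoryTheory.Limits AlgebraicGeometry TopologicalSpace Opposite

noncomputable section

namespace Groth.L17.FSheaf

variable {X : Scheme.{u}}

/-- A closed subset of a scheme with closed structure map to a complete affine base which misses the special fibre is empty. -/
theorem eq_empty_of_disjoint_support {A : Type u} [CommRing A] (J : Ideal A) [IsAdicComplete J A]
    (f : X ⟶ Spec (CommRingCat.of A)) (hf : IsClosedMap f.base) (C : Set X) (hC : IsClosed C)
    (h : ∀ x ∈ ((FSch.idealSpec A J).comap f).support, x ∉ C) : C = ∅ := by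
  refine Set.eq_empty_of_forall_notMem fun x hx => ?_
  obtain ⟨m, hm, hle⟩ := Ideal.exists_le_maximal (f x).asIdeal (f x).2.ne_top
  let q : Spec (CommRingCat.of A) := ⟨m, hm.isPrime⟩
  have hq : q ∈ closure {f x} :=
    specializes_iff_mem_closure.1 ((PrimeSpectrum.le_iff_specializes (f x) q).1 hle)
  obtain ⟨z, hz, hzq⟩ := closure_minimal ((Set.singleton_subset_iff (s := f '' C)).2 ⟨x, hx, rfl⟩) (hf C hC) hq
  refine h z ?_ hz
  rw [Scheme.IdealSheafData.support_comap]
  show f z ∈ (FSch.idealSpec A J).support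
  rw [hzq]
  exact Groth.L17.ComplLocFree.mem_support_idealSpec J q
    ((IsAdicComplete.le_jacobson_bot J).trans (sInf_le ⟨bot_le, hm⟩))

variable (𝓘 : X.IdealSheafData) [IsLocallyNoetherian X] (h : (FSch.completionAlong X 𝓘).IsFormal)

theorem complModMap_app_eq_zero {K F : X.Modules} (hK : Coh.IsCoh K) (hF : Coh.IsCoh F) (φ : K ⟶ F)
    (hz : FSch.ModSys.realModMap h (FSch.complModMap 𝓘 φ) = 0) (n : ℕ) :
    (Scheme.Modules.pullback (𝓘 ^ (n + 1)).subschemeι).map φ = 0 := by
  have hz0 : FSch.ModSys.realModMap h (FSch.complModMap 𝓘 (0 : K ⟶ F)) = 0 := by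
    refine limit.hom_ext ?_
    rintro ⟨k⟩
    refine (FSch.realLimMap_realProj _ h _ (FSch.ModSys.Hom.toPush_comm (FSch.complModMap 𝓘 (0 : K ⟶ F))) k).trans ?_
    rw [zero_comp]
    refine (congrArg (_ ≫ ·) ?_).trans comp_zero
    refine (congrArg (FSch.levelMor _ h k).push.map ?_).trans (CategoryTheory.Functor.map_zero _ _ _)
    exact (FSch.complModMap_app 𝓘 (0 : K ⟶ F) k).trans (CategoryTheory.Functor.map_zero _ _ _)
  have hcoh : ∀ {G : X.Modules}, Coh.IsCoh G → (FSch.complMod 𝓘 G).IsCoh := fun hG k =>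
    haveI := (Groth.Agent.S3854.result X 𝓘).2.2 k
    Groth.L16.AffineBC.isCoh_pullback (FSch.completionToX X 𝓘 k) hG
  have e : FSch.complModMap 𝓘 φ = FSch.complModMap 𝓘 (0 : K ⟶ F) :=
    (realModMap_bijective (FSch.completionAlong X 𝓘) (Groth.Agent.S3854.result X 𝓘) (hcoh hK) (hcoh hF)).1
      (hz.trans hz0.symm)
  exact (congrArg (fun t : FSch.complMod 𝓘 K ⟶ FSch.complMod 𝓘 F => t.app n) e).trans
    (CategoryTheory.Functor.map_zero _ _ _)

variable {F G : X.Modules} (hF : Coh.IsCoh F) (hG : Coh.IsCoh G) (u : F ⟶ G)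

include hF hG in
theorem mono_complModMap [Mono u] : Mono (FSch.ModSys.realModMap h (FSch.complModMap 𝓘 u)) := by
  let S := ShortComplex.mk u (cokernel.π u) (cokernel.condition u)
  have hS : S.ShortExact := { exact := ShortComplex.exact_cokernel u }
  haveI : Coh.IsQCoh F := hF.1
  haveI : Coh.IsQCoh G := hG.1
  exact (shortExact_complMod 𝓘 h S hS hF hG (Groth.L16.CohKernel.isCoh_kernel_cokernel hF hG u).2
    (realModMap_complModMap_comp 𝓘 h S)).mono_f

include hF hG in
theorem epi_complModMap [Epi u] : Epi (FSch.ModSys.realModMap h (FSch.complModMap 𝓘 u)) := by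
  let S := ShortComplex.mk (kernel.ι u) u (kernel.condition u)
  have hS : S.ShortExact := { exact := ShortComplex.exact_kernel u }
  haveI : Coh.IsQCoh G := hG.1
  exact (shortExact_complMod 𝓘 h S hS (Groth.L16.CohSupport.isCoh_kernel hF u) hF hG
    (realModMap_complModMap_comp 𝓘 h S)).epi_g

include hF hG in
theorem notMem_support_kernel [Mono (FSch.ModSys.realModMap h (FSch.complModMap 𝓘 u))] {x : X}
    (hx : x ∈ 𝓘.support) : x ∉ CohB1.support (kernel u) := by
  haveI : Coh.IsQCoh F := hF.1
  haveI : Coh.IsQCoh G := hG.1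
  have hK := Groth.L16.CohSupport.isCoh_kernel hF u
  have hz : FSch.ModSys.realModMap h (FSch.complModMap 𝓘 (kernel.ι u)) = 0 := by
    rw [← cancel_mono (FSch.ModSys.realModMap h (FSch.complModMap 𝓘 u)), zero_comp]
    exact realModMap_complModMap_comp 𝓘 h (ShortComplex.mk (kernel.ι u) u (kernel.condition u))
  refine Groth.L17.ThickZero.notMem_of_isZero ((IsZero.iff_id_eq_zero _).2 ?_)
  rw [← cancel_mono ((Groth.L21.Mod.stalkF X x).map (kernel.ι u))]
  simpa using Groth.L17.ThickZero.stalkF_map_eq_zero (kernel.ι u) 𝓘 hF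
    (complModMap_app_eq_zero 𝓘 h hK hF _ hz) x hx

include hF hG in
theorem notMem_support_cokernel [Epi (FSch.ModSys.realModMap h (FSch.complModMap 𝓘 u))] {x : X}
    (hx : x ∈ 𝓘.support) : x ∉ CohB1.support (cokernel u) := by
  haveI : Coh.IsQCoh F := hF.1
  haveI : Coh.IsQCoh G := hG.1
  have hC := (Groth.L16.CohKernel.isCoh_kernel_cokernel hF hG u).2
  have hz : FSch.ModSys.realModMap h (FSch.complModMap 𝓘 (cokernel.π u)) = 0 := by
    rw [← cancel_epi (FSch.ModSys.realModMap h (FSch.complModMap 𝓘 u)), comp_zero]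
    exact realModMap_complModMap_comp 𝓘 h (ShortComplex.mk u (cokernel.π u) (cokernel.condition u))
  refine Groth.L17.ThickZero.notMem_of_isZero ((IsZero.iff_id_eq_zero _).2 ?_)
  rw [← cancel_epi ((Groth.L21.Mod.stalkF X x).map (cokernel.π u))]
  simpa using Groth.L17.ThickZero.stalkF_map_eq_zero (cokernel.π u) 𝓘 hC
    (complModMap_app_eq_zero 𝓘 h hG hC _ hz) x hx

theorem isZero_of_support_eq_empty {M : X.Modules} (hM : CohB1.support M = ∅) : IsZero M :=
  (IsZero.iff_id_eq_zero M).2 ((Groth.L21.Mod.eq_zero_iff_stalk (𝟙 M)).2 fun x =>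
    (AddCommGrpCat.isZero_iff_subsingleton.2 (not_not.1 (show x ∉ {y | ¬ Subsingleton (M.presheaf.stalk y)} from
      fun hx => (Set.eq_empty_iff_forall_notMem.1 hM x) hx))).eq_of_src _ _)

include hF hG in
/-- Over a complete base, injectivity and surjectivity are detected on completions. -/
theorem mono_epi_complModMap_iff {A : Type u} [CommRing A] (J : Ideal A) [IsAdicComplete J A]
    (f : X ⟶ Spec (CommRingCat.of A)) (hf : IsClosedMap f.base) (h𝓘 : 𝓘 = (FSch.idealSpec A J).comap f) :
    (Mono (FSch.ModSys.realModMap h (FSch.complModMap 𝓘 u)) ↔ Mono u) ∧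
      (Epi (FSch.ModSys.realModMap h (FSch.complModMap 𝓘 u)) ↔ Epi u) := by
  haveI : Coh.IsQCoh F := hF.1
  haveI : Coh.IsQCoh G := hG.1
  refine ⟨⟨fun _ => ?_, fun _ => mono_complModMap 𝓘 h hF hG u⟩,
    ⟨fun _ => ?_, fun _ => epi_complModMap 𝓘 h hF hG u⟩⟩
  · refine Preadditive.mono_of_isZero_kernel _ (isZero_of_support_eq_empty ?_)
    refine eq_empty_of_disjoint_support J f hf _
      (Groth.L16.CohSupport.isClosed_support _ (Groth.L16.CohSupport.isCoh_kernel hF u).2) fun x hx => ?_
    exact notMem_support_kernel 𝓘 h hF hG u (h𝓘 ▸ hx)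
  · refine Preadditive.epi_of_isZero_cokernel _ (isZero_of_support_eq_empty ?_)
    refine eq_empty_of_disjoint_support J f hf _
      (Groth.L16.CohSupport.isClosed_support _ (Groth.L16.CohKernel.isCoh_kernel_cokernel hF hG u).2.2) fun x hx => ?_
    exact notMem_support_cokernel 𝓘 h hF hG u (h𝓘 ▸ hx)

end Groth.L17.FSheaf
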