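import Groth.Agent.L17.FSheaf.Alg
import Mathlib.RingTheory.Flat.Basic
import Mathlib.LinearAlgebra.TensorProduct.Pi

/-!
# Relations along flat base change
-/

set_option autoImplicit false
set_option linter.style.haveILetI false

universe u

open TensorProduct Submodule

noncomputable section

namespace Groth.L17.FSheaf

variable {R S : Type u} [CommRing R] [CommRing S] [Algebra R S] [Module.Flat R S] {M N : Type u} [AddCommGroup M]
  [Module R M] [AddCommGroup N] [Module R N] [Module S N] [IsScalarTower R S N] (g : M →ₗ[R] N) (hg : IsBaseChange S g)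

include hg in
/-- Relations among sections of a flat base change come from relations. -/
theorem rel_mem_span_of_flat_baseChange {n : ℕ} (m : Fin n → M) (a : Fin n → S) (ha : ∑ i, a i • g (m i) = 0) :
    a ∈ span S ((fun b i => algebraMap R S (b i)) '' {b : Fin n → R | ∑ i, b i • m i = 0}) := by
  classical
  let π : (Fin n → R) →ₗ[R] M := Fintype.linearCombination R m
  have hex : Function.Exact (LinearMap.ker π).subtype π := LinearMap.exact_subtype_ker_map π
  let z : S ⊗[R] (Fin n → R) := ∑ i, a i ⊗ₜ[R] Pi.single i 1
  have hz : LinearMap.lTensor S π z = 0 := by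
    refine hg.equiv.injective ?_
    rw [map_zero, map_sum, map_sum]
    refine Eq.trans (Finset.sum_congr rfl fun i _ => ?_) ha
    rw [LinearMap.lTensor_tmul, IsBaseChange.equiv_tmul]
    exact congrArg (a i • g ·) ((Fintype.linearCombination_apply_single R m i 1).trans (one_smul _ _))
  obtain ⟨w, hw⟩ := (Module.Flat.lTensor_exact S hex z).1 hz
  let L : S ⊗[R] (Fin n → R) →ₗ[S] (Fin n → S) := (piScalarRight R S S (Fin n)).toLinearMap
  have hL : ∀ (s : S) (b : Fin n → R), L (s ⊗ₜ b) = s • fun i => algebraMap R S (b i) := fun s b => by
    funext i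
    simp [L, Algebra.smul_def, mul_comm]
  have ha' : L z = a := by
    funext l
    simp [z, map_sum, hL, Pi.single_apply]
  rw [← ha', ← hw]
  clear hw
  induction w using TensorProduct.induction_on with
  | zero => rw [map_zero, map_zero]; exact zero_mem _
  | tmul s b =>
    rw [LinearMap.lTensor_tmul, hL]
    exact smul_mem _ _ (subset_span ⟨b.1, LinearMap.mem_ker.1 b.2, rfl⟩)
  | add x y hx hy => rw [map_add, map_add]; exact add_mem hx hy

end Groth.L17.FSheaf
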