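import Groth.Agent.L17.FSheaf.Coherent
import Mathlib.Algebra.Category.ModuleCat.Sheaf.PullbackFree

/-!
# The ideals of definition attached to the levels
-/

set_option autoImplicit false
set_option linter.style.haveILetI false
set_option linter.unusedSectionVars false
set_option backward.isDefEq.respectTransparency false
set_option backward.isDefEq.respectTransparency.types false

universe u

open CategoryTheory CategoryTheory.Limits AlgebraicGeometry TopologicalSpace Opposite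

noncomputable section

namespace Groth.L17.FSheaf

open Groth.L18.Frame (rs ro)

/-- Sections of kernels. -/
theorem exists_kernel_sect {Y : TopCat.{u}} {R : Sheaf (Opens.grothendieckTopology Y) RingCat.{u}}
    {A C : SheafOfModules.{u} R} (ψ : A ⟶ C) (W : (Opens Y)ᵒᵖ) :
    (∀ x : A.val.obj W, (ψ.val.app W).hom x = 0 → ∃ k : (kernel ψ).val.obj W, ((kernel.ι ψ).val.app W).hom k = x) ∧
      Function.Injective ((kernel.ι ψ).val.app W).hom := by
  let G : SheafOfModules.{u} R ⥤ _ := SheafOfModules.evaluation.{u} R W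
  haveI : G.Additive := inferInstanceAs (SheafOfModules.forget.{u} R ⋙ PresheafOfModules.evaluation _ W).Additive
  haveI : Mono (G.map (kernel.ι ψ)) := inferInstance
  refine ⟨fun x hx => ?_, (ModuleCat.mono_iff_injective (G.map (kernel.ι ψ))).1 inferInstance⟩
  let l : ModuleCat.of _ (R.obj.obj W) ⟶ G.obj A :=
    ModuleCat.ofHom (LinearMap.toSpanSingleton _ _ (show G.obj A from x))
  have hl : l ≫ G.map ψ = 0 := by
    refine ModuleCat.hom_ext (LinearMap.ext_ring ?_)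
    show G.map ψ ((1 : R.obj.obj W) • (show G.obj A from x)) = 0
    rw [one_smul]
    exact hx
  refine ⟨(kernel.lift (G.map ψ) l hl ≫ (PreservesKernel.iso G ψ).inv) (1 : R.obj.obj W), ?_⟩
  have e : (kernel.lift (G.map ψ) l hl ≫ (PreservesKernel.iso G ψ).inv) ≫ G.map (kernel.ι ψ) = l := by
    rw [Category.assoc, PreservesKernel.iso_inv_ι, kernel.lift_ι]
  refine (ConcreteCategory.congr_hom e _).trans ?_
  show (1 : R.obj.obj W) • (show G.obj A from x) = _
  exact one_smul _ _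

variable (𝔛 : FSch.Sys.{u})

theorem ker_vR_eq_ideal (h : 𝔛.IsFormal) {U : (𝔛.X 0).Opens} (hU : IsAffineOpen U) (k : ℕ) :
    RingHom.ker (vR 𝔛 h k U) = (𝔛.toX k).ker.ideal ⟨_, isAffineOpen_lvU 𝔛 h hU k⟩ := by
  haveI := 𝔛.toX_isClosedImmersion h k
  rw [Scheme.Hom.ker_apply]
  exact ker_appLE (𝔛.toX k) ((toX_preimage_lvU 𝔛 h 0 U).trans (toX_preimage_lvU 𝔛 h k U).symm)

theorem vR_pR (h : 𝔛.IsFormal) (k : ℕ) (U : (𝔛.X 0).Opens) :
    (vR 𝔛 h k U).comp (pR 𝔛 h k U) = pR 𝔛 h 0 U := by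
  induction k with
  | zero => rw [vR_zero, RingHom.id_comp]
  | succ k ih =>
    rw [← vR_tR, RingHom.comp_assoc, ← ih]
    exact congrArg _ (RingHom.ext (tR_pR 𝔛 h k U))

variable (hX : 𝔛.IsLocNoethFormal)

/-- The ideal of definition on a smaller affine open is generated by that on a bigger one. -/
theorem J_eq_map {U V : (𝔛.X 0).Opens} (hU : IsAffineOpen U) (hV : IsAffineOpen V) (hVU : V ≤ U) :
    J 𝔛 hX.1 V = (J 𝔛 hX.1 U).map (resO 𝔛 hX.1 hVU) := by
  haveI := (O_spec 𝔛 hX hV).1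
  haveI := (O_spec 𝔛 hX hV).2.1
  refine le_antisymm (fun x hx => ?_) (Ideal.map_le_iff_le_comap.2 fun x hx => ?_)
  · refine mem_of_forall_mem_sup (J 𝔛 hX.1 V) _ fun k => ?_
    have hv : ∀ (W : (𝔛.X 0).Opens) (y : O 𝔛 hX.1 W), vR 𝔛 hX.1 k W (pR 𝔛 hX.1 k W y) = pR 𝔛 hX.1 0 W y :=
      fun W y => RingHom.congr_fun (vR_pR 𝔛 hX.1 k W) y
    have hi : pR 𝔛 hX.1 k V x ∈ ((J 𝔛 hX.1 U).map (pR 𝔛 hX.1 k U)).map
        ((𝔛.X k).presheaf.map (homOfLE (lvU_mono 𝔛 hX.1 k hVU)).op).hom := by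
      have e : (J 𝔛 hX.1 U).map (pR 𝔛 hX.1 k U) = RingHom.ker (vR 𝔛 hX.1 k U) := by
        refine le_antisymm (Ideal.map_le_iff_le_comap.2 fun y hy => ?_) fun y hy => ?_
        · rw [Ideal.mem_comap, RingHom.mem_ker, hv]
          exact hy
        · obtain ⟨z, rfl⟩ := pR_surjective 𝔛 hX.1 hU k y
          refine Ideal.mem_map_of_mem _ ?_
          rw [RingHom.mem_ker, ← hv]
          exact hy
      rw [e, ker_vR_eq_ideal 𝔛 hX.1 hU k]
      refine ((𝔛.toX k).ker.map_ideal (U := ⟨𝔛.lvU hX.1 k V, isAffineOpen_lvU 𝔛 hX.1 hV k⟩)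
        (V := ⟨𝔛.lvU hX.1 k U, isAffineOpen_lvU 𝔛 hX.1 hU k⟩) (show _ from lvU_mono 𝔛 hX.1 k hVU)).ge ?_
      rw [← ker_vR_eq_ideal 𝔛 hX.1 hV k, RingHom.mem_ker, hv]
      exact hx
    rw [Ideal.map_map, show ((𝔛.X k).presheaf.map (homOfLE (lvU_mono 𝔛 hX.1 k hVU)).op).hom.comp
        (pR 𝔛 hX.1 k U) = (pR 𝔛 hX.1 k V).comp (resO 𝔛 hX.1 hVU) from
      RingHom.ext fun y => (pR_resO 𝔛 hX.1 hVU k y).symm, ← Ideal.map_map,
      Ideal.mem_map_iff_of_surjective _ (pR_surjective 𝔛 hX.1 hV k)] at hi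
    obtain ⟨y, hy, hyx⟩ := hi
    refine Submodule.mem_sup.2 ⟨y, hy, x - y, ?_, add_sub_cancel _ _⟩
    rw [smul_eq_mul, Ideal.mul_top]
    refine Ideal.pow_le_pow_right (Nat.le_succ k) ?_
    rw [← (O_spec 𝔛 hX hV).2.2 k, RingHom.mem_ker, map_sub, hyx, sub_self]
  · rw [Ideal.mem_comap, RingHom.mem_ker, pR_resO, RingHom.mem_ker.1 hx]
    exact map_zero _

/-- The unit of the level as a map to the level sheaf. -/
abbrev unitLevel (h : 𝔛.IsFormal) (n : ℕ) :
    FSch.unitF 𝔛 h ⟶ (FSch.levelMor 𝔛 h n).push.obj (SheafOfModules.unit (𝔛.X n).ringCatSheaf) :=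
  SheafOfModules.unitToPushforwardObjUnit (FSch.levelMor 𝔛 h n).sharpR

theorem final_levelMor (h : 𝔛.IsFormal) (n : ℕ) : (Opens.map (𝔛.gInv h n)).Final := by
  haveI : (Opens.map (𝔛.gInv h n)).IsEquivalence :=
    inferInstanceAs ((Opens.mapMapIso (TopCat.isoOfHomeo (𝔛.levelHomeo h n)).symm).functor.IsEquivalence)
  infer_instance

/-- The kernel of the reduction to a level is generated by a power of the ideal of definition. -/
theorem isFiniteType_kernel_unit (n : ℕ) :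
    SheafOfModules.IsFiniteType (R := ModSite.ringSh (𝔛.Osh hX.1))
      (kernel ((FSch.levelMor 𝔛 hX.1 n).adj.unit.app (FSch.unitF 𝔛 hX.1))) := by
  let f := FSch.levelMor 𝔛 hX.1 n
  haveI : f.fn.Final := final_levelMor 𝔛 hX.1 n
  let ε := SheafOfModules.pullbackObjUnitToUnit f.sharpR
  haveI : IsIso ε := inferInstance
  have hu : f.adj.unit.app (FSch.unitF 𝔛 hX.1) ≫ f.push.map ε = unitLevel 𝔛 hX.1 n := by
    exact (f.adj.homEquiv_unit _ _ ε).symm.trans
      (SheafOfModules.pullbackPushforwardAdjunction_homEquiv_pullbackObjUnitToUnit f.sharpR)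
  let ψ := f.adj.unit.app (FSch.unitF 𝔛 hX.1)
  -- sections of the kernel
  have hker : ∀ (W : (𝔛.X 0).Opens) (x : O 𝔛 hX.1 W),
      (ψ.val.app (op W)).hom x = 0 ↔ pR 𝔛 hX.1 n W x = 0 := by
    intro W x
    rw [← show ((ψ ≫ f.push.map ε).val.app (op W)).hom x = pR 𝔛 hX.1 n W x by rw [hu]; rfl]
    refine ⟨fun hx => ?_, fun hx => ?_⟩
    · show ((f.push.map ε).val.app (op W)).hom ((ψ.val.app (op W)).hom x) = 0
      rw [hx]
      exact map_zero _
    · have h2 : ((ψ ≫ f.push.map ε ≫ f.push.map (inv ε)).val.app (op W)).hom x = 0 := by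
        show ((f.push.map (inv ε)).val.app (op W)).hom (((ψ ≫ f.push.map ε).val.app (op W)).hom x) = 0
        rw [hx]
        exact map_zero _
      rw [← Functor.map_comp, IsIso.hom_inv_id, CategoryTheory.Functor.map_id] at h2
      exact h2
  refine isFiniteType_of_local (R := ModSite.ringSh (𝔛.Osh hX.1))
    (B := {V | IsAffineOpen (V : (𝔛.X 0).Opens)}) (𝔛.X 0).isBasis_affineOpens _ fun x => ?_
  obtain ⟨_, ⟨U, hU, rfl⟩, hxU, -⟩ :=
    (𝔛.X 0).isBasis_affineOpens.exists_subset_of_mem_open (Set.mem_univ x) isOpen_univ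
  haveI := (O_spec 𝔛 hX hU).1
  obtain ⟨m, a, ha⟩ := Submodule.fg_iff_exists_fin_generating_family.1
    (IsNoetherian.noetherian (J 𝔛 hX.1 U ^ (n + 1)) : (J 𝔛 hX.1 U ^ (n + 1)).FG)
  have hap : ∀ i, (ψ.val.app (op U)).hom (a i) = 0 := fun i => by
    rw [hker, ← RingHom.mem_ker, (O_spec 𝔛 hX hU).2.2 n, ← ha]
    exact Submodule.subset_span ⟨i, rfl⟩
  choose g hg using fun i => (exists_kernel_sect ψ (op U)).1 (a i) (hap i)
  refine ⟨U, hxU, m, g, fun V hV hVU => eq_top_iff.2 fun k _ => ?_⟩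
  have hinj : Function.Injective ((kernel.ι ψ).val.app (op V)).hom := (exists_kernel_sect ψ (op V)).2
  have h0 : (ψ.val.app (op V)).hom (((kernel.ι ψ).val.app (op V)).hom k) = 0 :=
    LinearMap.congr_fun (congrArg (fun φ => ((φ : _ ⟶ _).val.app (op V)).hom) (kernel.condition ψ)) k
  have h1 : ((kernel.ι ψ).val.app (op V)).hom k ∈
      Submodule.span (O 𝔛 hX.1 V) (Set.range fun i => resO 𝔛 hX.1 hVU (a i)) := by
    rw [hker, ← RingHom.mem_ker, (O_spec 𝔛 hX hV).2.2 n, J_eq_map 𝔛 hX hU hV hVU, ← Ideal.map_pow, ← ha] at h0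
    change _ ∈ Ideal.map (resO 𝔛 hX.1 hVU) (Ideal.span (Set.range a)) at h0
    rw [Ideal.map_span, ← Set.range_comp] at h0
    exact h0
  obtain ⟨c, hc⟩ := (Submodule.mem_span_range_iff_exists_fun _).1 h1
  refine (Submodule.mem_span_range_iff_exists_fun _).2 ⟨c, hinj ?_⟩
  rw [map_sum, ← hc]
  refine Finset.sum_congr rfl fun i _ => ?_
  rw [map_smul]
  refine congrArg (c i • ·) ?_
  refine (PresheafOfModules.naturality_apply (kernel.ι ψ).val (homOfLE hVU).op (g i)).trans ?_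
  exact congrArg (resO 𝔛 hX.1 hVU) (hg i)

end Groth.L17.FSheaf
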