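import Groth.Agent.L17.FSheaf.LocPres

/-!
# Finite presentation from local presentations by sections
-/

set_option autoImplicit false
set_option linter.style.haveILetI false
set_option linter.unusedSectionVars false
set_option backward.isDefEq.respectTransparency false
set_option backward.isDefEq.respectTransparency.types false

universe u

open CategoryTheory CategoryTheory.Limits TopologicalSpace Opposite

noncomputable section

namespace Groth.L17.FSheaf

variable {X : TopCat.{u}} {R : Sheaf (Opens.grothendieckTopology X) RingCat.{u}} {U : Opens X}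

/-- Sections generating locally. -/
abbrev LocGen (G : SheafOfModules.{u} (R.over U)) {n : ℕ} (g : Fin n → G.val.obj (topO U)) : Prop :=
  ∀ ⦃W : Opens X⦄ (h : W ≤ U), ∀ x ∈ W, ∀ y : G.val.obj (objO h), ∃ (V : Opens X) (hV : V ≤ W), x ∈ V ∧
    ∃ c : Fin n → (R.over U).obj.obj (objO (hV.trans h)),
      G.val.map (show objO h ⟶ objO (hV.trans h) from (Over.homMk (homOfLE hV)).op) y =
        ∑ i, c i • (G.val.map (toO (objO (hV.trans h))) (g i) : G.val.obj (objO (hV.trans h)))

/-- A morphism out of a module locally generated by sections killed by it is zero. -/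
theorem hom_eq_zero_of_locGen {G H : SheafOfModules.{u} (R.over U)} (q : G ⟶ H) {n : ℕ}
    (g : Fin n → G.val.obj (topO U)) (hgen : LocGen G g) (hg : ∀ i, (q.val.app (topO U)).hom (g i) = 0) :
    q = 0 := by
  apply SheafOfModules.hom_ext
  apply PresheafOfModules.hom_ext
  intro W
  ext m
  show (q.val.app W).hom m = 0
  refine eq_zero_of_cover H _ fun x hx => ?_
  let h : W.unop.left ≤ U := leOfHom W.unop.hom
  let f₀ : W ⟶ objO h := (Over.homMk (homOfLE le_rfl)).op
  obtain ⟨V, hV, hxV, c, hc⟩ := hgen h x hx (G.val.map f₀ m)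
  refine ⟨V, hV, hxV, ?_⟩
  let f : W ⟶ objO (hV.trans h) := (Over.homMk (homOfLE hV)).op
  refine Eq.trans (PresheafOfModules.naturality_apply q.val f m).symm ?_
  have hm : G.val.map f m = ∑ i, c i • (G.val.map (toO (objO (hV.trans h))) (g i) : G.val.obj (objO (hV.trans h))) := by
    rw [← hc, show f = f₀ ≫ (Over.homMk (homOfLE hV)).op from Quiver.Hom.unop_inj (Over.OverMorphism.ext
      (Subsingleton.elim _ _)), PresheafOfModules.map_comp_apply]
  refine (congrArg (q.val.app (objO (hV.trans h))).hom hm).trans ?_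
  rw [map_sum]
  refine Finset.sum_eq_zero fun i _ => ?_
  rw [map_smul]
  let t : topO U ⟶ objO (hV.trans h) := toO (objO (hV.trans h))
  have hi : (q.val.app (objO (hV.trans h))).hom (G.val.map t (g i)) = 0 :=
    (PresheafOfModules.naturality_apply q.val t (g i)).trans
      ((congrArg (H.val.map t).hom (hg i)).trans (map_zero _))
  rw [hi, smul_zero]

/-- Finitely many generators from local generation. -/
theorem exists_generators_loc (G : SheafOfModules.{u} (R.over U)) {n : ℕ} (g : Fin n → G.val.obj (topO U))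
    (hgen : LocGen G g) :
    ∃ σ : G.GeneratingSections, σ.IsFiniteType ∧ ∃ e : ULift.{u} (Fin n) ≃ σ.I,
      ∀ i, (σ.s (e i)).val (topO U) = g i.down := by
  let s : ULift.{u} (Fin n) → G.sections := fun i => ofTop G (g i.down)
  have htop : ∀ z : G.val.obj (topO U), G.val.map (toO (topO U)) z = z := fun z => by
    rw [show toO (topO U) = 𝟙 (topO U) from Quiver.Hom.unop_inj (Over.mkIdTerminal.hom_ext _ _)]
    exact LinearMap.congr_fun (congrArg ModuleCat.Hom.hom (G.val.map_id (topO U))) z
  have hepi : Epi (G.freeHomEquiv.symm s) := ?_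
  · exact ⟨{ I := ULift.{u} (Fin n), s := s, epi := hepi }, ⟨(inferInstance : Finite (ULift.{u} (Fin n)))⟩,
      Equiv.refl _, fun i => htop _⟩
  refine Preadditive.epi_of_cancel_zero _ fun {H} q hq => hom_eq_zero_of_locGen q g hgen fun i => ?_
  have h1 : SheafOfModules.ιFree (⟨i⟩ : ULift.{u} (Fin n)) ≫ G.freeHomEquiv.symm s =
      G.unitHomEquiv.symm (s ⟨i⟩) := by
    rw [← SheafOfModules.unitHomEquiv_symm_freeHomEquiv_apply, Equiv.apply_symm_apply]
  have h2 : G.unitHomEquiv.symm (s ⟨i⟩) ≫ q = 0 := by
    rw [← h1, Category.assoc, hq, comp_zero]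
  rw [SheafOfModules.unitHomEquiv_symm_comp] at h2
  have h3 : SheafOfModules.sectionsMap q (s ⟨i⟩) = H.unitHomEquiv 0 := by
    rw [← h2, Equiv.apply_symm_apply]
  have h4 := congrArg (fun v => v.val (topO U)) h3
  refine Eq.trans ?_ (h4.trans rfl)
  exact congrArg _ (htop _).symm

variable (M : SheafOfModules.{u} R)

theorem LocPres.locGen {M : SheafOfModules.{u} R} {n m : ℕ} {s : Fin n → M.val.obj (op U)}
    {r : Fin m → Fin n → R.obj.obj (op U)} (hp : LocPres M s r) : LocGen (M.over U) s :=
  fun _ h x hx y => hp.gen h x hx y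

/-- A finite presentation over an open from a local presentation by sections. -/
theorem exists_presentation_loc {n m : ℕ} (g : Fin n → M.val.obj (op U))
    (r : Fin m → Fin n → R.obj.obj (op U)) (hp : LocPres M g r) :
    ∃ P : (M.over U).Presentation, P.IsFinite := by
  classical
  obtain ⟨σ, hσ, ε, hε⟩ := exists_generators_loc (M.over U) g hp.locGen
  haveI : Fintype σ.I := Fintype.ofEquiv _ ε
  have hgs : ∀ i, gsec σ i = g (ε.symm i).down := fun i => by
    show (σ.s i).val (topO U) = _
    rw [← hε, Equiv.apply_symm_apply]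
  let w : Fin m → (SheafOfModules.free (R := R.over U) σ.I).val.obj (topO U) := fun j =>
    ∑ i : σ.I, (show (R.over U).obj.obj (topO U) from r j (ε.symm i).down) • e (R := R) σ.I i (topO U)
  have hw : ∀ j, (σ.π.val.app (topO U)).hom (w j) = 0 := fun j => by
    refine (π_comb (σ := σ) (le_refl U) fun i => r j (ε.symm i).down).trans ?_
    refine Eq.trans ?_ (hp.rel_zero j)
    refine Fintype.sum_equiv (ε.symm.trans Equiv.ulift) _ (fun i => r j i • g i) fun i => ?_
    rw [res_self, hgs]
    rfl
  choose k hk using fun j => (exists_kernel_section σ.π (topO U) (w j) (hw j)).1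
  obtain ⟨τ, hτ, -⟩ := exists_generators_loc (kernel σ.π) k fun W h x hx z => by
    obtain ⟨a, ha⟩ := exists_coeff (objO h) (((kernel.ι σ.π).val.app (objO h)).hom z)
    have h0 : (σ.π.val.app (objO h)).hom (((kernel.ι σ.π).val.app (objO h)).hom z) = 0 :=
      LinearMap.congr_fun (congrArg (fun φ => ((φ : _ ⟶ M.over U).val.app (objO h)).hom) (kernel.condition σ.π)) z
    rw [ha] at h0
    replace h0 := (π_comb (σ := σ) h a).symm.trans h0
    obtain ⟨V, hV, hxV, d, hd⟩ := hp.rel h (fun i => a (ε ⟨i⟩)) (by
      refine Eq.trans ?_ h0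
      refine (Fintype.sum_equiv (ε.symm.trans Equiv.ulift) _ _ fun i => ?_).symm
      rw [hgs]
      show a i • _ = a (ε ⟨(ε.symm i).down⟩) • _
      rw [show ε ⟨(ε.symm i).down⟩ = i from ε.apply_symm_apply i]
      rfl) x hx
    let d' : Fin m → (R.over U).obj.obj (objO (hV.trans h)) := d
    refine ⟨V, hV, hxV, d', ?_⟩
    refine (exists_kernel_section σ.π (objO (hV.trans h)) 0 (map_zero _)).2 ?_
    let t : topO U ⟶ objO (hV.trans h) := toO (objO (hV.trans h))
    let f : objO h ⟶ objO (hV.trans h) := (Over.homMk (homOfLE hV)).op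
    refine Eq.trans (PresheafOfModules.naturality_apply (kernel.ι σ.π).val f z) ?_
    refine Eq.trans (congrArg ((SheafOfModules.free (R := R.over U) σ.I).val.map f).hom ha) ?_
    refine Eq.trans (comb_map f a) ?_
    have h1 : ∀ j, ((kernel.ι σ.π).val.app (objO (hV.trans h))).hom ((kernel σ.π).val.map t (k j)) =
        ∑ i : σ.I, (R.over U).obj.map t (show (R.over U).obj.obj (topO U) from r j (ε.symm i).down) •
          e (R := R) σ.I i (objO (hV.trans h)) := fun j =>
      (PresheafOfModules.naturality_apply (kernel.ι σ.π).val t (k j)).trans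
        ((congrArg ((SheafOfModules.free (R := R.over U) σ.I).val.map t).hom (hk j)).trans (comb_map _ _))
    rw [map_sum]
    refine Eq.trans ?_ (Finset.sum_congr rfl fun j _ => ((map_smul _ (d' j) _).trans (congrArg (d' j • ·) (h1 j))).symm)
    simp only [Finset.smul_sum, smul_smul]
    rw [Finset.sum_comm]
    refine Finset.sum_congr rfl fun i _ => ?_
    rw [← Finset.sum_smul]
    congr 1
    have hd' := hd (ε.symm i).down
    rw [show ε ⟨(ε.symm i).down⟩ = i from ε.apply_symm_apply i] at hd'
    exact hd'
  exact ⟨⟨σ, τ⟩, ⟨hσ, hτ⟩⟩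

/-- Finite presentation from local presentations by sections. -/
theorem isFinitePresentation_of_locPres (h : ∀ x : X, ∃ U : Opens X, x ∈ U ∧ ∃ (n m : ℕ)
    (g : Fin n → M.val.obj (op U)) (r : Fin m → Fin n → R.obj.obj (op U)), LocPres M g r) :
    M.IsFinitePresentation := by
  choose U hU n m g r hp using h
  choose P hP using fun x => exists_presentation_loc M (g x) (r x) (hp x)
  let q : SheafOfModules.QuasicoherentData.{u} (R := R) M :=
    SheafOfModules.QuasicoherentData.mk.{u, u, u, u} (R := R) (M := M) (↥X) U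
      (coversTop U fun x => ⟨x, hU x⟩) P
  refine SheafOfModules.IsFinitePresentation.mk (R := R) (M := M) ?_
  exact ⟨q, SheafOfModules.QuasicoherentData.IsFinitePresentation.mk (R := R) (M := M) (q := q) hP⟩

end Groth.L17.FSheaf
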