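import Groth.Agent.L17.FSheaf.CanonSys
import Groth.Agent.L17.FSheaf.Alg2
import Groth.Agent.L17.FSheaf.LevelIdeal
import Groth.Agent.L17.FSheaf.LocPresFP
import Mathlib.RingTheory.Filtration
import Mathlib.AlgebraicGeometry.Morphisms.Flat

/-!
# Sections of coherent modules on affine opens of a locally Noetherian formal scheme
-/

set_option autoImplicit false
set_option linter.style.haveILetI false
set_option linter.unusedSectionVars false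
set_option backward.isDefEq.respectTransparency false
set_option backward.isDefEq.respectTransparency.types false

universe u

open CategoryTheory CategoryTheory.Limits AlgebraicGeometry TopologicalSpace Opposite

noncomputable section

namespace Groth.L17.FSheaf

open Groth.L18.Frame (rs ro pull rs_rs rs_self)
open Groth.L16.AffineBC (pullRes isBaseChange_pull)

/-- Relations of restrictions of sections of a quasi-coherent module come from relations. -/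
theorem flat_rel_restrict {X : Scheme.{u}} (G : X.Modules) [Coh.IsQCoh G] {U V : X.Opens} (hU : IsAffineOpen U)
    (hV : IsAffineOpen V) (hVU : V ≤ U) {n : ℕ} (m : Fin n → Γ(G, U)) (a : Fin n → Γ(X, V))
    (ha : ∑ i, a i • rs G hVU (m i) = 0) :
    a ∈ Submodule.span Γ(X, V) ((fun (b : Fin n → Γ(X, U)) i => ro hVU (b i)) ''
      {b : Fin n → Γ(X, U) | ∑ i, b i • m i = 0}) := by
  let e : V ≤ (𝟙 X : X ⟶ X) ⁻¹ᵁ U := hVU
  let P := (Scheme.Modules.pullback (𝟙 X)).obj G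
  letI : Algebra Γ(X, U) Γ(X, V) := ((𝟙 X : X ⟶ X).appLE U V e).hom.toAlgebra
  letI := Module.compHom Γ(P, V) ((𝟙 X : X ⟶ X).appLE U V e).hom
  haveI : IsScalarTower Γ(X, U) Γ(X, V) Γ(P, V) := IsScalarTower.of_algebraMap_smul fun _ _ => rfl
  haveI : Module.Flat Γ(X, U) Γ(X, V) :=
    HasRingHomProperty.appLE @Flat (𝟙 X) inferInstance ⟨_, hU⟩ ⟨_, hV⟩ e
  have hg := isBaseChange_pull (𝟙 X) G hU hV e
  let ε := (Scheme.Modules.pullbackId X).app G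
  have hε : ∀ x, ε.hom.app V (pullRes (𝟙 X) G e x) = rs G hVU x := fun x => by
    show ε.hom.app V (rs P e (pull (𝟙 X) G U x)) = _
    refine (ConcreteCategory.congr_hom (ε.hom.mapPresheaf.naturality (homOfLE e).op) _).trans ?_
    exact congrArg (rs G hVU) (pullbackId_pull G U x)
  have hinj : Function.Injective (ε.hom.app V) := fun x y h => by
    have hx := congrArg (ε.inv.app V) h
    rwa [show ε.inv.app V (ε.hom.app V x) = x from
        ConcreteCategory.congr_hom (congrArg (fun φ => Scheme.Modules.Hom.app φ V) ε.hom_inv_id) x,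
      show ε.inv.app V (ε.hom.app V y) = y from
        ConcreteCategory.congr_hom (congrArg (fun φ => Scheme.Modules.Hom.app φ V) ε.hom_inv_id) y] at hx
  exact rel_mem_span_of_flat_baseChange _ hg m a (hinj (by
    rw [map_sum, map_zero]
    refine Eq.trans (Finset.sum_congr rfl fun i _ => ?_) ha
    rw [Scheme.Modules.Hom.app_smul, hε]))

variable (𝔛 : FSch.Sys.{u}) (hX : 𝔛.IsLocNoethFormal) {𝔉 : FSch.ModF 𝔛 hX.1} (h𝔉 : FSch.IsCohF 𝔛 hX.1 𝔉)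

/-- The comparison with the limit of the levels on sections. -/
abbrev canF (U : (𝔛.X 0).Opens) : SF 𝔛 hX.1 𝔉 U →ₗ[O 𝔛 hX.1 U] RM 𝔛 hX.1 (canonSys 𝔛 hX.1 𝔉) U :=
  ((toCanon 𝔛 hX.1 𝔉).val.app (op U)).hom

include h𝔉 in
theorem canF_bijective (U : (𝔛.X 0).Opens) : Function.Bijective (canF 𝔛 hX (𝔉 := 𝔉) U) := by
  haveI := isIso_toCanon 𝔛 hX 𝔉 h𝔉
  exact ConcreteCategory.bijective_of_isIso
    ((SheafOfModules.evaluation.{u} (ModSite.ringSh (𝔛.Osh hX.1)) (op U)).map (toCanon 𝔛 hX.1 𝔉))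

include h𝔉 in
/-- Sections over affine opens: finite, surjecting onto the levels with the adic kernels. -/
theorem SF_spec {U : (𝔛.X 0).Opens} (hU : IsAffineOpen U) :
    Module.Finite (O 𝔛 hX.1 U) (SF 𝔛 hX.1 𝔉 U) ∧
      ∀ k, Function.Surjective (ηF 𝔛 hX.1 𝔉 k U) ∧ ∀ x, ηF 𝔛 hX.1 𝔉 k U x = 0 ↔
        x ∈ J 𝔛 hX.1 U ^ (k + 1) • (⊤ : Submodule (O 𝔛 hX.1 U) (SF 𝔛 hX.1 𝔉 U)) := by
  obtain ⟨hf, hq⟩ := RM_spec 𝔛 (canonSys 𝔛 hX.1 𝔉) hX (isCoh_canonSys 𝔛 hX 𝔉 h𝔉) hU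
  let e := LinearEquiv.ofBijective (canF 𝔛 hX (𝔉 := 𝔉) U) (canF_bijective 𝔛 hX h𝔉 U)
  refine ⟨Module.Finite.equiv e.symm, fun k => ⟨fun y => ?_, fun x => ?_⟩⟩
  · obtain ⟨z, hz⟩ := (hq k).1 y
    obtain ⟨x, rfl⟩ := e.surjective z
    exact ⟨x, (qM_toCanon 𝔛 hX 𝔉 k U x).symm.trans hz⟩
  · rw [← qM_toCanon 𝔛 hX 𝔉 k U x]
    refine ((hq k).2 (e x)).trans ?_
    rw [show (J 𝔛 hX.1 U ^ (k + 1) • ⊤ : Submodule (O 𝔛 hX.1 U) (RM 𝔛 hX.1 (canonSys 𝔛 hX.1 𝔉) U)) =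
      (J 𝔛 hX.1 U ^ (k + 1) • (⊤ : Submodule (O 𝔛 hX.1 U) (SF 𝔛 hX.1 𝔉 U))).map e.toLinearMap by
        rw [Submodule.map_smul'', Submodule.map_top, LinearEquiv.range]]
    exact (Submodule.mem_map_equiv (e := e) (x := e x) _).trans (by rw [LinearEquiv.symm_apply_apply])

include h𝔉 in
/-- Finitely many generators and relations of the sections on an affine open, valid on all smaller ones. -/
theorem exists_gen_rel_SF {U : (𝔛.X 0).Opens} (hU : IsAffineOpen U) :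
    ∃ (n m : ℕ) (g : Fin n → SF 𝔛 hX.1 𝔉 U) (r : Fin m → Fin n → O 𝔛 hX.1 U),
      (∀ j, ∑ i, r j i • g i = 0) ∧ ∀ ⦃V : (𝔛.X 0).Opens⦄, IsAffineOpen V → ∀ hVU : V ≤ U,
        Submodule.span (O 𝔛 hX.1 V) (Set.range fun i => res (R := ModSite.ringSh (𝔛.Osh hX.1)) 𝔉 hVU (g i)) = ⊤ ∧
        ∀ a : Fin n → O 𝔛 hX.1 V, ∑ i, a i • res (R := ModSite.ringSh (𝔛.Osh hX.1)) 𝔉 hVU (g i) = 0 →
          ∃ d : Fin m → O 𝔛 hX.1 V, ∀ i, a i = ∑ j, d j * resO 𝔛 hX.1 hVU (r j i) := by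
  have hM := isCoh_canonSys 𝔛 hX 𝔉 h𝔉
  obtain ⟨n, m, g, r, hg, hrel, hr⟩ := exists_gen_rel 𝔛 hX hM hU
  let e := fun W => LinearEquiv.ofBijective (canF 𝔛 hX (𝔉 := 𝔉) W) (canF_bijective 𝔛 hX h𝔉 W)
  refine ⟨n, m, fun i => (e U).symm (g i), r, fun j => (e U).injective ?_, fun V hV hVU => ?_⟩
  · rw [map_sum, map_zero]
    refine Eq.trans (Finset.sum_congr rfl fun i _ => ?_) (hr j)
    rw [map_smul, LinearEquiv.apply_symm_apply]
  obtain ⟨hspan, hrelV⟩ := restrict_spec 𝔛 hX hM hU hV hVU g hg r hrel hr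
  have hnat : ∀ i, e V (res (R := ModSite.ringSh (𝔛.Osh hX.1)) 𝔉 hVU ((e U).symm (g i))) =
      resM 𝔛 hX.1 (canonSys 𝔛 hX.1 𝔉) hVU (g i) := fun i => by
    refine (PresheafOfModules.naturality_apply (toCanon 𝔛 hX.1 𝔉).val (homOfLE hVU).op _).trans ?_
    exact congrArg (resM 𝔛 hX.1 (canonSys 𝔛 hX.1 𝔉) hVU) ((e U).apply_symm_apply (g i))
  refine ⟨eq_top_iff.2 fun y _ => ?_, fun a ha => hrelV a ?_⟩
  · obtain ⟨c, hc⟩ := (Submodule.mem_span_range_iff_exists_fun _).1 (hspan ▸ Submodule.mem_top : e V y ∈ _)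
    refine (Submodule.mem_span_range_iff_exists_fun _).2 ⟨c, (e V).injective ?_⟩
    rw [map_sum, ← hc]
    exact Finset.sum_congr rfl fun i _ => by rw [map_smul, hnat]
  · refine Eq.trans (Finset.sum_congr rfl fun i _ => ?_) ((congrArg (e V) ha).trans (map_zero _) |>.symm.trans (map_sum (e V) _ _)).symm
    rw [map_smul, hnat]

include h𝔉 in
/-- Relations among restricted sections come from relations. -/
theorem rel_restrict_mod {U V : (𝔛.X 0).Opens} (hU : IsAffineOpen U) (hV : IsAffineOpen V) (hVU : V ≤ U)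
    {n m : ℕ} (f : Fin n → SF 𝔛 hX.1 𝔉 U) (r : Fin m → Fin n → O 𝔛 hX.1 U)
    (hrel : ∀ c : Fin n → O 𝔛 hX.1 U, ∑ i, c i • f i = 0 →
      ∃ d : Fin m → O 𝔛 hX.1 U, ∀ i, c i = ∑ j, d j * r j i)
    (a : Fin n → O 𝔛 hX.1 V) (ha : ∑ i, a i • res (R := ModSite.ringSh (𝔛.Osh hX.1)) 𝔉 hVU (f i) = 0) :
    ∃ d : Fin m → O 𝔛 hX.1 V, ∀ i, a i = ∑ j, d j * resO 𝔛 hX.1 hVU (r j i) := by
  classical
  haveI := (O_spec 𝔛 hX hU).1
  haveI := (O_spec 𝔛 hX hV).1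
  haveI := (O_spec 𝔛 hX hV).2.1
  obtain ⟨hfin, hq⟩ := SF_spec 𝔛 hX h𝔉 hU
  obtain ⟨c, hc⟩ := Ideal.exists_pow_inf_eq_pow_smul (J 𝔛 hX.1 U) (Submodule.span (O 𝔛 hX.1 U) (Set.range f))
  let r' : Fin m → Fin n → O 𝔛 hX.1 V := fun j i => resO 𝔛 hX.1 hVU (r j i)
  let P : Submodule (O 𝔛 hX.1 V) (Fin n → O 𝔛 hX.1 V) := Submodule.span (O 𝔛 hX.1 V) (Set.range r')
  have h1 : a ∈ P := by
    refine mem_of_forall_mem_sup (J 𝔛 hX.1 V) P fun s => ?_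
    let k := s + c
    haveI : Coh.IsQCoh (LF 𝔛 hX.1 𝔉 k) := (isCoh_canonSys 𝔛 hX 𝔉 h𝔉 k).1
    haveI : RingHomSurjective (pR 𝔛 hX.1 k V) := ⟨pR_surjective 𝔛 hX.1 hV k⟩
    let L : (Fin n → O 𝔛 hX.1 V) →ₛₗ[pR 𝔛 hX.1 k V] (Fin n → Γ(𝔛.X k, 𝔛.lvU hX.1 k V)) :=
      { toFun := fun v i => pR 𝔛 hX.1 k V (v i)
        map_add' := fun v w => funext fun i => map_add (pR 𝔛 hX.1 k V) (v i) (w i)
        map_smul' := fun x v => funext fun i => map_mul (pR 𝔛 hX.1 k V) x (v i) }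
    let T := P ⊔ J 𝔛 hX.1 V ^ s • (⊤ : Submodule (O 𝔛 hX.1 V) (Fin n → O 𝔛 hX.1 V))
    have hcoord : ∀ v : Fin n → O 𝔛 hX.1 V, (∀ i, v i ∈ J 𝔛 hX.1 V ^ s) →
        v ∈ J 𝔛 hX.1 V ^ s • (⊤ : Submodule (O 𝔛 hX.1 V) (Fin n → O 𝔛 hX.1 V)) := fun v hv => by
      rw [← Finset.univ_sum_single v]
      refine Submodule.sum_mem _ fun i _ => ?_
      rw [show (Pi.single i (v i) : Fin n → O 𝔛 hX.1 V) = v i • Pi.single i 1 by
        rw [← Pi.single_smul, smul_eq_mul, mul_one]]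
      exact Submodule.smul_mem_smul (hv i) Submodule.mem_top
    have hk : (fun i => pR 𝔛 hX.1 k V (a i)) ∈ T.map L := by
      refine (Submodule.span_le.2 ?_) (flat_rel_restrict (LF 𝔛 hX.1 𝔉 k) (isAffineOpen_lvU 𝔛 hX.1 hU k)
        (isAffineOpen_lvU 𝔛 hX.1 hV k) (lvU_mono 𝔛 hX.1 k hVU) (fun i => ηF 𝔛 hX.1 𝔉 k U (f i))
        (fun i => pR 𝔛 hX.1 k V (a i)) ?_)
      · rintro _ ⟨b, hb, rfl⟩
        choose B hB using fun i => pR_surjective 𝔛 hX.1 hU k (b i)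
        have h0 : ∑ i, B i • f i ∈ J 𝔛 hX.1 U ^ (k + 1) • (⊤ : Submodule (O 𝔛 hX.1 U) (SF 𝔛 hX.1 𝔉 U)) ⊓
            Submodule.span (O 𝔛 hX.1 U) (Set.range f) := by
          refine ⟨((hq k).2 _).1 ?_, Submodule.sum_mem _ fun i _ =>
            Submodule.smul_mem _ _ (Submodule.subset_span ⟨i, rfl⟩)⟩
          refine Eq.trans (map_sum (((FSch.levelMor 𝔛 hX.1 k).adj.unit.app 𝔉).val.app (op U)).hom _ _) ?_
          refine Eq.trans (Finset.sum_congr rfl fun i _ => ?_) hb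
          exact (ηF_smul 𝔛 hX.1 𝔉 k U (B i) (f i)).trans (congrArg (· • _) (hB i))
        rw [hc (k + 1) (by omega), show k + 1 - c = s + 1 by omega] at h0
        obtain ⟨z, hz, hzs⟩ := exists_coeff_of_mem_smul_span' f _ (Submodule.smul_mono le_rfl inf_le_right h0)
        obtain ⟨d, hd⟩ := hrel (fun i => B i - z i) (by
          simp only [sub_smul, Finset.sum_sub_distrib, hzs, sub_self])
        refine ⟨fun i => resO 𝔛 hX.1 hVU (B i), ?_, funext fun i => ?_⟩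
        · rw [show (fun i => resO 𝔛 hX.1 hVU (B i)) =
            ∑ j, resO 𝔛 hX.1 hVU (d j) • r' j + fun i => resO 𝔛 hX.1 hVU (z i) by
              funext i
              simp only [Pi.add_apply, Finset.sum_apply, Pi.smul_apply, smul_eq_mul, r', ← map_mul, ← map_sum,
                ← map_add, ← hd i, sub_add_cancel]]
          refine Submodule.add_mem_sup (Submodule.sum_mem _ fun j _ =>
            Submodule.smul_mem _ _ (Submodule.subset_span ⟨j, rfl⟩)) (hcoord _ fun i => ?_)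
          rw [J_eq_map 𝔛 hX hU hV hVU, ← Ideal.map_pow]
          exact Ideal.mem_map_of_mem _ (Ideal.pow_le_pow_right (Nat.le_succ s) (hz i))
        · show pR 𝔛 hX.1 k V (resO 𝔛 hX.1 hVU (B i)) = _
          rw [pR_resO, hB]
      · refine Eq.trans ?_ ((congrArg (((FSch.levelMor 𝔛 hX.1 k).adj.unit.app 𝔉).val.app (op V)).hom ha).trans
          (map_zero _))
        rw [map_sum]
        refine Finset.sum_congr rfl fun i _ => ?_
        refine Eq.trans ?_ (ηF_smul 𝔛 hX.1 𝔉 k V (a i) _).symm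
        exact congrArg (pR 𝔛 hX.1 k V (a i) • ·) (ηF_res 𝔛 hX.1 𝔉 k hVU (f i)).symm
    obtain ⟨q, hqT, hqa⟩ := hk
    rw [show a = q + (a - q) from (add_sub_cancel _ _).symm]
    refine add_mem hqT (Submodule.mem_sup_right (hcoord _ fun i => ?_))
    refine Ideal.pow_le_pow_right (show s ≤ k + 1 by omega) ?_
    rw [← (O_spec 𝔛 hX hV).2.2 k, RingHom.mem_ker, Pi.sub_apply, map_sub, sub_eq_zero]
    exact (congrFun hqa i).symm
  obtain ⟨d, hd⟩ := (Submodule.mem_span_range_iff_exists_fun _).1 h1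
  exact ⟨d, fun i => by simp [← hd, r']⟩
where
  exists_coeff_of_mem_smul_span' {R : Type u} [CommRing R] {M : Type u} [AddCommGroup M] [Module R M] {n : ℕ}
      (g : Fin n → M) (I : Ideal R) {x : M} (hx : x ∈ I • Submodule.span R (Set.range g)) :
      ∃ a : Fin n → R, (∀ i, a i ∈ I) ∧ ∑ i, a i • g i = x := by
    refine Submodule.smul_induction_on hx (fun r hr y hy => ?_) (fun a b ha hb => ?_)
    · obtain ⟨c, rfl⟩ := (Submodule.mem_span_range_iff_exists_fun R).1 hy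
      exact ⟨fun i => r * c i, fun i => I.mul_mem_right _ hr, by simp [Finset.smul_sum, mul_smul]⟩
    · obtain ⟨a, ha, rfl⟩ := ha
      obtain ⟨b, hb, rfl⟩ := hb
      exact ⟨a + b, fun i => add_mem (ha i) (hb i), by simp [add_smul, Finset.sum_add_distrib]⟩

section Hom

variable {𝔊 : FSch.ModF 𝔛 hX.1} (h𝔊 : FSch.IsCohF 𝔛 hX.1 𝔊) (θ : 𝔉 ⟶ 𝔊)

theorem ηF_map (k : ℕ) (U : (𝔛.X 0).Opens) (x : SF 𝔛 hX.1 𝔉 U) :
    ηF 𝔛 hX.1 𝔊 k U ((θ.val.app (op U)).hom x) =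
      Scheme.Modules.Hom.app (M := LF 𝔛 hX.1 𝔉 k) (N := LF 𝔛 hX.1 𝔊 k) ((FSch.levelMor 𝔛 hX.1 k).pull.map θ)
        (𝔛.lvU hX.1 k U) (ηF 𝔛 hX.1 𝔉 k U x) :=
  LinearMap.congr_fun (congrArg (fun t => ((t : 𝔉 ⟶ _).val.app (op U)).hom)
    ((FSch.levelMor 𝔛 hX.1 k).adj.unit.naturality θ)) x

include h𝔉 h𝔊 in
/-- A morphism which is surjective on the smallest level is surjective on affine sections. -/
theorem surjective_of_epi_zero [Epi ((FSch.levelMor 𝔛 hX.1 0).pull.map θ)] {U : (𝔛.X 0).Opens}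
    (hU : IsAffineOpen U) : Function.Surjective (θ.val.app (op U)).hom := by
  haveI := (O_spec 𝔛 hX hU).1
  haveI := (O_spec 𝔛 hX hU).2.1
  haveI := (isCoh_canonSys 𝔛 hX 𝔉 h𝔉 0).1
  haveI := (isCoh_canonSys 𝔛 hX 𝔊 h𝔊 0).1
  obtain ⟨-, hq⟩ := SF_spec 𝔛 hX h𝔊 hU
  haveI := (SF_spec 𝔛 hX h𝔊 hU).1
  haveI : Coh.IsQCoh (LF 𝔛 hX.1 𝔉 0) := (isCoh_canonSys 𝔛 hX 𝔉 h𝔉 0).1
  haveI : Coh.IsQCoh (LF 𝔛 hX.1 𝔊 0) := (isCoh_canonSys 𝔛 hX 𝔊 h𝔊 0).1
  let T : SF 𝔛 hX.1 𝔉 U →ₗ[O 𝔛 hX.1 U] SF 𝔛 hX.1 𝔊 U := (θ.val.app (op U)).hom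
  refine LinearMap.range_eq_top.1 (eq_top_of_sup (J 𝔛 hX.1 U) (LinearMap.range T) (eq_top_iff.2 fun y _ => ?_))
  obtain ⟨x₀, hx₀⟩ := Groth.L16.AffineBC.surjective_app_of_epi ((FSch.levelMor 𝔛 hX.1 0).pull.map θ)
    (isAffineOpen_lvU 𝔛 hX.1 hU 0) (ηF 𝔛 hX.1 𝔊 0 U y)
  obtain ⟨x, rfl⟩ := ((SF_spec 𝔛 hX h𝔉 hU).2 0).1 x₀
  refine Submodule.mem_sup.2 ⟨T x, ⟨x, rfl⟩, y - T x, ?_, add_sub_cancel _ _⟩
  have h0 := ((hq 0).2 (y - T x)).1 (by
    refine (map_sub (((FSch.levelMor 𝔛 hX.1 0).adj.unit.app 𝔊).val.app (op U)).hom y (T x)).trans ?_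
    rw [sub_eq_zero]
    exact hx₀.symm.trans (ηF_map 𝔛 hX θ 0 U x).symm)
  rwa [zero_add, pow_one] at h0

include h𝔉 h𝔊 in
theorem epi_of_epi_zero [Epi ((FSch.levelMor 𝔛 hX.1 0).pull.map θ)] : Epi θ :=
  epi_of_surjective_basis (𝔛.X 0).isBasis_affineOpens θ fun _ hU => surjective_of_epi_zero 𝔛 hX h𝔉 h𝔊 θ hU

include h𝔉 h𝔊 in
/-- Epimorphisms of coherent modules are surjective on affine sections. -/
theorem surjective_of_epi [Epi θ] {U : (𝔛.X 0).Opens} (hU : IsAffineOpen U) :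
    Function.Surjective (θ.val.app (op U)).hom :=
  haveI : (FSch.levelMor 𝔛 hX.1 0).pull.IsLeftAdjoint := (FSch.levelMor 𝔛 hX.1 0).adj.isLeftAdjoint
  surjective_of_epi_zero 𝔛 hX h𝔉 h𝔊 θ hU

end Hom

end Groth.L17.FSheaf
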