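import Groth.Agent.L17.FSheaf.RpushLim
import Groth.Agent.L17.FSheaf.Alg2

/-!
# Sections of quasi-coherent modules of the levels, on the formal scheme
-/

set_option autoImplicit false
set_option linter.style.haveILetI false
set_option linter.unusedSectionVars false
set_option backward.isDefEq.respectTransparency false
set_option backward.isDefEq.respectTransparency.types false

universe u

open CategoryTheory CategoryTheory.Limits AlgebraicGeometry TopologicalSpace Opposite

noncomputable section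

namespace Groth.L17.FSheaf

open Groth.L18.Frame (rs ro pull rs_rs rs_self)
open Groth.L16.AffineBC (pullRes isBaseChange_pull)

/-- Sections over a smaller affine open are spanned by restrictions. -/
theorem mem_span_rs {X : Scheme.{u}} (G : X.Modules) [Coh.IsQCoh G] {U V : X.Opens} (hU : IsAffineOpen U)
    (hV : IsAffineOpen V) (hVU : V ≤ U) (y : Γ(G, V)) :
    y ∈ Submodule.span Γ(X, V) (Set.range (rs G hVU)) := by
  let e : V ≤ (𝟙 X : X ⟶ X) ⁻¹ᵁ U := hVU
  let P := (Scheme.Modules.pullback (𝟙 X)).obj G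
  letI : Algebra Γ(X, U) Γ(X, V) := ((𝟙 X : X ⟶ X).appLE U V e).hom.toAlgebra
  letI := Module.compHom Γ(P, V) ((𝟙 X : X ⟶ X).appLE U V e).hom
  haveI : IsScalarTower Γ(X, U) Γ(X, V) Γ(P, V) := IsScalarTower.of_algebraMap_smul fun _ _ => rfl
  have hg := isBaseChange_pull (𝟙 X) G hU hV e
  let ε := (Scheme.Modules.pullbackId X).app G
  have hε : ∀ x, ε.hom.app V (pullRes (𝟙 X) G e x) = rs G hVU x := fun x => by
    show ε.hom.app V (rs P e (pull (𝟙 X) G U x)) = _
    refine (ConcreteCategory.congr_hom (ε.hom.mapPresheaf.naturality (homOfLE e).op) _).trans ?_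
    exact congrArg (rs G hVU) (pullbackId_pull G U x)
  have hy : ε.hom.app V (ε.inv.app V y) = y :=
    ConcreteCategory.congr_hom (congrArg (fun φ => Scheme.Modules.Hom.app φ V) ε.inv_hom_id) y
  rw [← hy]
  generalize ε.inv.app V y = z
  clear hy
  induction z using hg.inductionOn with
  | zero => rw [map_zero]; exact zero_mem _
  | tmul x => exact Submodule.subset_span ⟨x, (hε x).symm⟩
  | smul s z hz =>
    rw [Scheme.Modules.Hom.app_smul]
    exact Submodule.smul_mem _ _ hz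
  | add a b ha hb =>
    rw [map_add]
    exact add_mem ha hb

theorem mem_pow_smul_pi {R : Type u} [CommRing R] (I : Ideal R) {n : ℕ} (v : Fin n → R) (hv : ∀ i, v i ∈ I) :
    v ∈ I • (⊤ : Submodule R (Fin n → R)) := by
  classical
  rw [← Finset.univ_sum_single v]
  refine Submodule.sum_mem _ fun i _ => ?_
  rw [show (Pi.single i (v i) : Fin n → R) = v i • Pi.single i 1 by
    rw [← Pi.single_smul, smul_eq_mul, mul_one]]
  exact Submodule.smul_mem_smul (hv i) Submodule.mem_top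

variable {𝔜 : FSch.Sys.{u}} (hY : 𝔜.IsLocNoethFormal) {k : ℕ} {M : FSch.ModF 𝔜 hY.1} {N : (𝔜.X k).Modules}
  [Coh.IsQCoh N] (e : M ≅ (FSch.levelMor 𝔜 hY.1 k).push.obj N) {V W : (𝔜.X 0).Opens} (hV : IsAffineOpen V)
  (hW : IsAffineOpen W) (hWV : W ≤ V)

/-- Sections of the module as sections of the level. -/
abbrev toLev (e : M ≅ (FSch.levelMor 𝔜 hY.1 k).push.obj N) (W : (𝔜.X 0).Opens) (y : SF 𝔜 hY.1 M W) :
    Γ(N, 𝔜.lvU hY.1 k W) :=
  ((e.hom.val.app (op W)).hom y)

theorem toLev_injective (W : (𝔜.X 0).Opens) : Function.Injective (toLev hY e W) := fun a b h => by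
  have h1 := congrArg (e.inv.val.app (op W)).hom h
  have h2 : ∀ z, (e.inv.val.app (op W)).hom ((e.hom.val.app (op W)).hom z) = z := fun z =>
    LinearMap.congr_fun (congrArg (fun t => ((t : M ⟶ M).val.app (op W)).hom) e.hom_inv_id) z
  exact (h2 a).symm.trans (h1.trans (h2 b))

theorem toLev_surjective (W : (𝔜.X 0).Opens) : Function.Surjective (toLev hY e W) := fun z =>
  ⟨(e.inv.val.app (op W)).hom z,
    LinearMap.congr_fun (congrArg (fun t => ((t : _ ⟶ (FSch.levelMor 𝔜 hY.1 k).push.obj N).val.app (op W)).hom)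
      e.inv_hom_id) z⟩

theorem toLev_smul (W : (𝔜.X 0).Opens) (c : O 𝔜 hY.1 W) (y : SF 𝔜 hY.1 M W) :
    toLev hY e W (c • y) = pR 𝔜 hY.1 k W c • toLev hY e W y := map_smul (e.hom.val.app (op W)).hom c y

theorem toLev_sum (W : (𝔜.X 0).Opens) {n : ℕ} (c : Fin n → O 𝔜 hY.1 W) (y : Fin n → SF 𝔜 hY.1 M W) :
    toLev hY e W (∑ i, c i • y i) = ∑ i, pR 𝔜 hY.1 k W (c i) • toLev hY e W (y i) :=
  (map_sum (e.hom.val.app (op W)).hom _ _).trans (Finset.sum_congr rfl fun _ _ => toLev_smul hY e W _ _)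

theorem toLev_res {W' : (𝔜.X 0).Opens} (h : W' ≤ W) (y : SF 𝔜 hY.1 M W) :
    toLev hY e W' (res (R := ModSite.ringSh (𝔜.Osh hY.1)) M h y) =
      rs N (lvU_mono 𝔜 hY.1 k h) (toLev hY e W y) :=
  PresheafOfModules.naturality_apply e.hom.val (homOfLE h).op y

include e hV hW in
/-- Sections over a smaller affine open are spanned by restrictions. -/
theorem mem_span_res (y : SF 𝔜 hY.1 M W) :
    y ∈ Submodule.span (O 𝔜 hY.1 W) (Set.range (res (R := ModSite.ringSh (𝔜.Osh hY.1)) M hWV)) := by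
  have hmem := mem_span_rs N (isAffineOpen_lvU 𝔜 hY.1 hV k) (isAffineOpen_lvU 𝔜 hY.1 hW k)
    (lvU_mono 𝔜 hY.1 k hWV) (toLev hY e W y)
  revert hmem
  generalize hz : toLev hY e W y = z
  intro hmem
  induction hmem using Submodule.span_induction generalizing y with
  | mem z hz' =>
    obtain ⟨x, rfl⟩ := hz'
    obtain ⟨x', rfl⟩ := toLev_surjective hY e V x
    exact Submodule.subset_span ⟨x', toLev_injective hY e W ((toLev_res hY e hWV x').trans hz.symm)⟩
  | zero =>
    rw [toLev_injective hY e W (hz.trans (map_zero (e.hom.val.app (op W)).hom).symm)]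
    exact zero_mem _
  | add a b _ _ ha hb =>
    obtain ⟨a', rfl⟩ := toLev_surjective hY e W a
    obtain ⟨b', rfl⟩ := toLev_surjective hY e W b
    rw [toLev_injective hY e W (hz.trans (map_add (e.hom.val.app (op W)).hom a' b').symm)]
    exact add_mem (ha a' rfl) (hb b' rfl)
  | smul c a _ ha =>
    obtain ⟨c', rfl⟩ := pR_surjective 𝔜 hY.1 hW k c
    obtain ⟨a', rfl⟩ := toLev_surjective hY e W a
    rw [toLev_injective hY e W (hz.trans (toLev_smul hY e W c' a').symm)]
    exact Submodule.smul_mem _ _ (ha a' rfl)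

include e hV hW in
/-- Relations among restrictions come from relations, modulo the ideal of the level. -/
theorem mem_span_rel {n : ℕ} (g : Fin n → SF 𝔜 hY.1 M V) (a : Fin n → O 𝔜 hY.1 W)
    (ha : ∑ i, a i • res (R := ModSite.ringSh (𝔜.Osh hY.1)) M hWV (g i) = 0) :
    a ∈ Submodule.span (O 𝔜 hY.1 W) ((fun (b : Fin n → O 𝔜 hY.1 V) i => resO 𝔜 hY.1 hWV (b i)) ''
        {b | ∑ i, b i • g i = 0}) ⊔
      J 𝔜 hY.1 W ^ (k + 1) • (⊤ : Submodule (O 𝔜 hY.1 W) (Fin n → O 𝔜 hY.1 W)) := by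
  haveI : RingHomSurjective (pR 𝔜 hY.1 k W) := ⟨pR_surjective 𝔜 hY.1 hW k⟩
  let L : (Fin n → O 𝔜 hY.1 W) →ₛₗ[pR 𝔜 hY.1 k W] (Fin n → Γ(𝔜.X k, 𝔜.lvU hY.1 k W)) :=
    { toFun := fun v i => pR 𝔜 hY.1 k W (v i)
      map_add' := fun v w => funext fun i => map_add (pR 𝔜 hY.1 k W) (v i) (w i)
      map_smul' := fun x v => funext fun i => map_mul (pR 𝔜 hY.1 k W) x (v i) }
  let P := Submodule.span (O 𝔜 hY.1 W) ((fun (b : Fin n → O 𝔜 hY.1 V) i => resO 𝔜 hY.1 hWV (b i)) ''
    {b | ∑ i, b i • g i = 0})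
  have hk : (fun i => pR 𝔜 hY.1 k W (a i)) ∈ P.map L := by
    refine (Submodule.span_le.2 ?_) (flat_rel_restrict N (isAffineOpen_lvU 𝔜 hY.1 hV k)
      (isAffineOpen_lvU 𝔜 hY.1 hW k) (lvU_mono 𝔜 hY.1 k hWV) (fun i => toLev hY e V (g i))
      (fun i => pR 𝔜 hY.1 k W (a i)) ?_)
    · rintro _ ⟨b, hb, rfl⟩
      choose B hB using fun i => pR_surjective 𝔜 hY.1 hV k (b i)
      refine ⟨fun i => resO 𝔜 hY.1 hWV (B i), Submodule.subset_span ⟨B, ?_, rfl⟩, funext fun i => ?_⟩
      · refine toLev_injective hY e V ((toLev_sum hY e V B g).trans ?_)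
        refine Eq.trans ?_ (map_zero (e.hom.val.app (op V)).hom).symm
        exact (Finset.sum_congr rfl fun i _ => by rw [hB i]).trans hb
      · show pR 𝔜 hY.1 k W (resO 𝔜 hY.1 hWV (B i)) = _
        rw [pR_resO, hB]
    · refine Eq.trans ?_ ((congrArg (toLev hY e W) ha).trans (map_zero (e.hom.val.app (op W)).hom))
      refine Eq.trans ?_ (toLev_sum hY e W _ _).symm
      exact Finset.sum_congr rfl fun i _ => by rw [toLev_res]
  obtain ⟨p, hp, hpa⟩ := hk
  rw [show a = p + (a - p) from (add_sub_cancel _ _).symm]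
  refine Submodule.add_mem_sup hp (mem_pow_smul_pi _ _ fun i => ?_)
  rw [← (O_spec 𝔜 hY hW).2.2 k, RingHom.mem_ker, Pi.sub_apply, map_sub, sub_eq_zero]
  exact (congrFun hpa i).symm

end Groth.L17.FSheaf
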