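import Groth.Agent.L17.FSheaf.GrLim

/-!
# Finiteness of the cohomology of a coherent module on a proper adic formal scheme
-/

set_option autoImplicit false
set_option linter.style.haveILetI false
set_option linter.unusedSectionVars false
set_option backward.isDefEq.respectTransparency false
set_option backward.isDefEq.respectTransparency.types false

universe u

open CategoryTheory CategoryTheory.Limits AlgebraicGeometry TopologicalSpace Opposite Abelian Polynomial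

noncomputable section

namespace Groth.L17.GradedFinite

open Groth.L16 (CohLinear.hmap)

variable {A : Type u} [CommRing A] [IsNoetherianRing A] {I : Ideal A} {X : Scheme.{u}}
  [X.Over (Spec (CommRingCat.of A))] [IsProper (X ↘ Spec (CommRingCat.of A))] (𝒢 : GrMod A I X)

/-- A family of subgroups stable under the multiplications is generated by finitely many classes. -/
theorem exists_finite_generators (p : ℕ) (S : ∀ k, AddSubgroup (Coh.HH X (𝒢.E k) p)) :
    ∃ (N : ℕ) (d : Fin N → ℕ) (s : ∀ i, Coh.HH X (𝒢.E (d i)) p), (∀ i, s i ∈ S (d i)) ∧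
      ∀ l, ∀ y ∈ S l, ∃ b : Fin N → reesAlgebra I,
        y = ∑ i, CohLinear.hmap (𝒢.cmul (d i) l (b i)) p (s i) := by
  classical
  obtain ⟨M, _, _, hfin, φ, ψ, h⟩ := exists_model 𝒢 p
  haveI := hfin
  let T : Set M := {n | ∃ k, ∃ y ∈ S k, φ k y = n}
  obtain ⟨t, ht, hspan⟩ := (Submodule.fg_span_iff_fg_span_finset_subset T).1
    (IsNoetherian.noetherian (Submodule.span (reesAlgebra I) T))
  choose d s hs hds using fun i : Fin t.card => ht (t.equivFin.symm i).2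
  refine ⟨t.card, d, s, hs, fun l y hy => ?_⟩
  have hy' : φ l y ∈ Submodule.span (reesAlgebra I) (Set.range fun i : Fin t.card => φ (d i) (s i)) := by
    have : Set.range (fun i : Fin t.card => φ (d i) (s i)) = (t : Set M) := by
      ext z
      refine ⟨?_, fun hz => ⟨t.equivFin ⟨z, hz⟩, ?_⟩⟩
      · rintro ⟨i, rfl⟩
        show φ (d i) (s i) ∈ t
        rw [hds i]
        exact (t.equivFin.symm i).2
      · show φ _ _ = z
        rw [hds, Equiv.symm_apply_apply]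
    rw [this, ← hspan]
    exact Submodule.subset_span ⟨l, y, hy, rfl⟩
  obtain ⟨b, hb⟩ := (Submodule.mem_span_range_iff_exists_fun _).1 hy'
  refine ⟨b, ?_⟩
  have h1 := h l l 1 y
  rw [one_smul, GrMod.cmul, dif_pos le_rfl, 𝒢.mul_congr le_rfl (b := (1 : A)) (by simp) _ (by simp),
    𝒢.mul_one, Groth.L16.CohLinear.hmap_id] at h1
  refine h1.symm.trans ?_
  rw [← hb, map_sum]
  exact Finset.sum_congr rfl fun i _ => h (d i) l (b i) (s i)

end Groth.L17.GradedFinite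

namespace Groth.L17.FSheaf.GrQuot

open Groth.L17.FSheaf Groth.L17.FSheaf.AdicBase

variable {A : Type u} [CommRing A] [IsNoetherianRing A] {I : Ideal A} [IsAdicComplete I A] {𝔛 : FSch.Sys.{u}}
  {f : 𝔛 ⟶ FSch.spf A I} {hX : 𝔛.IsLocNoethFormal} {𝔉 : FSch.ModF 𝔛 hX.1}

theorem hF_add {h : 𝔛.IsFormal} {M N : FSch.ModF 𝔛 h} (φ ψ : M ⟶ N) (p : ℕ) (x : Sheaf.H ((TF h).obj M) p) :
    hF (φ + ψ) p x = hF φ p x + hF ψ p x := by
  show Sheaf.H.map ((TF h).map (φ + ψ)) p x = _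
  rw [Functor.map_add, Sheaf.H.map_add_apply]

theorem hF_zero {h : 𝔛.IsFormal} {M N : FSch.ModF 𝔛 h} (p : ℕ) (x : Sheaf.H ((TF h).obj M) p) :
    hF (0 : M ⟶ N) p x = 0 := by
  have := hF_add (0 : M ⟶ N) 0 p x
  rw [add_zero] at this
  exact left_eq_add.1 this

variable (D : Data f hX 𝔉) (hf : FSch.IsAdicHom f)

/-- The classes vanishing in a reduction. -/
def Data.Zsub (p n : ℕ) : AddSubgroup (Sheaf.H ((TF hX.1).obj 𝔉) p) := (hF (D.π n) p).ker

theorem Data.mem_Zsub {p n : ℕ} (x : Sheaf.H ((TF hX.1).obj 𝔉) p) : x ∈ D.Zsub p n ↔ hF (D.π n) p x = 0 :=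
  Iff.rfl

theorem Data.sc_mem_Zsub {p n m : ℕ} (a : A) (ha : a ∈ I ^ (m - n)) {x : Sheaf.H ((TF hX.1).obj 𝔉) p}
    (hx : x ∈ D.Zsub p n) : hF (sc f hX a 𝔉) p x ∈ D.Zsub p m := by
  rw [D.mem_Zsub, ← hF_comp, ← D.π_mul a ha, hF_comp, (D.mem_Zsub x).1 hx, map_zero]

include hf in
theorem Data.exists_step (h𝔉 : FSch.IsCohF 𝔛 hX.1 𝔉)
    (hproper : IsProper ((f : FSch.Hom 𝔛 (FSch.spf A I)).app 0)) (p : ℕ) :
    ∃ (N : ℕ) (d : Fin N → ℕ) (w : Fin N → Sheaf.H ((TF hX.1).obj 𝔉) p), (∀ i, w i ∈ D.Zsub p (d i)) ∧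
      ∀ k, ∀ x ∈ D.Zsub p k, ∃ c : Fin N → A, (∀ i, c i ∈ I ^ (k - d i)) ∧
        x - ∑ i, hF (sc f hX (c i) 𝔉) p (w i) ∈ D.Zsub p (k + 1) := by
  classical
  letI := overA f
  haveI : IsClosedImmersion (FSch.spfToSpec A I 0) :=
    IsClosedImmersion.spec_of_surjective _ Ideal.Quotient.mk_surjective
  haveI := hproper
  haveI : IsProper ((𝔛.X 0) ↘ Spec (CommRingCat.of A)) :=
    inferInstanceAs (IsProper (((f : FSch.Hom 𝔛 (FSch.spf A I)).app 0) ≫ FSch.spfToSpec A I 0))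
  let τ : ∀ k, Coh.HH (𝔛.X 0) (D.E k) p →+ Sheaf.H ((TF hX.1).obj (D.Q (k + 1))) p := fun k =>
    (hF (kernel.ι (D.tr k.le_succ)) p).comp (Sheaf.H.map (D.grIso hf k).inv p)
  obtain ⟨N, d, s, hs, hgen⟩ := Groth.L17.GradedFinite.exists_finite_generators (D.grMod h𝔉 hf) p
    fun k => ((hF (D.π (k + 1)) p).range.comap (τ k))
  choose w hw using hs
  have hτmul : ∀ {k l : ℕ} (hkl : k ≤ l) (a : A) (ha : a ∈ I ^ (l - k)) (y : Coh.HH (𝔛.X 0) (D.E k) p),
      τ l (Groth.L16.CohLinear.hmap ((D.grMod h𝔉 hf).mul hkl a ha) p y) =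
        hF (D.mul a (succ_sub_succ_mem ha)) p (τ k y) := by
    intro k l hkl a ha y
    have h1 : Sheaf.H.map (D.grIso hf l).inv p (Groth.L16.CohLinear.hmap ((D.grMod h𝔉 hf).mul hkl a ha) p y) =
        hF (D.grMul a ha) p (Sheaf.H.map (D.grIso hf k).inv p y) := by
      show Sheaf.H.map (D.grIso hf l).inv p (Sheaf.H.map (Groth.L16.CohLinear.tm (D.mulE a ha)) p y) = _
      rw [← Sheaf.H.map_comp_apply]
      refine Eq.trans ?_ (Sheaf.H.map_comp_apply _ _ _)
      congr 1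
      refine congrArg (fun t => Sheaf.H.map t p) ?_
      rw [Iso.comp_inv_eq, Category.assoc, D.grIso_natural hf a ha, Iso.inv_hom_id_assoc]
    show hF _ p (Sheaf.H.map (D.grIso hf l).inv p _) = _
    rw [h1, ← hF_comp, D.grMul_ι, hF_comp]
    rfl
  refine ⟨N, d, w, fun i => ?_, fun k x hx => ?_⟩
  · rw [D.mem_Zsub, ← D.π_tr (d i).le_succ, hF_comp]
    refine (congrArg (hF (D.tr (d i).le_succ) p) (hw i)).trans ?_
    show hF _ p (hF (kernel.ι (D.tr (d i).le_succ)) p _) = 0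
    rw [← hF_comp, kernel.condition, hF_zero]
  haveI : PreservesFiniteColimits (TF hX.1) := inferInstance
  haveI : PreservesFiniteLimits (TF hX.1) := inferInstance
  have hses : (ShortComplex.mk (kernel.ι (D.tr k.le_succ)) (D.tr k.le_succ) (kernel.condition _)).ShortExact :=
    { exact := ShortComplex.exact_of_f_is_kernel _ (kernelIsKernel _)
      mono_f := inferInstanceAs (Mono (kernel.ι (D.tr k.le_succ)))
      epi_g := D.epi_tr k.le_succ }
  have hx1 : hF (D.tr k.le_succ) p (hF (D.π (k + 1)) p x) = 0 := by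
    rw [← hF_comp, D.π_tr]
    exact hx
  obtain ⟨y₀, hy₀⟩ := Ext.covariant_sequence_exact₂ _ (hses.map_of_exact (TF hX.1)) (hF (D.π (k + 1)) p x) hx1
  let y : Coh.HH (𝔛.X 0) (D.E k) p := Sheaf.H.map (D.grIso hf k).hom p y₀
  have hy : τ k y = hF (D.π (k + 1)) p x := by
    show hF _ p (Sheaf.H.map (D.grIso hf k).inv p (Sheaf.H.map (D.grIso hf k).hom p y₀)) = _
    refine (congrArg (hF (kernel.ι (D.tr k.le_succ)) p) ?_).trans hy₀
    exact (Sheaf.H.map_comp_apply _ _ _).symm.trans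
      ((congrArg (fun t => Sheaf.H.map t p y₀) (D.grIso hf k).hom_inv_id).trans (Sheaf.H.map_id_apply _))
  obtain ⟨b, hb⟩ := hgen k y ⟨x, hy.symm⟩
  let c : Fin N → A := fun i => if d i ≤ k then ((b i : A[X])).coeff (k - d i) else 0
  have hc : ∀ i, c i ∈ I ^ (k - d i) := fun i => by
    simp only [c]
    split
    · exact (b i).2 _
    · exact zero_mem _
  refine ⟨c, hc, ?_⟩
  rw [D.mem_Zsub, map_sub, map_sum, sub_eq_zero, ← hy, hb, map_sum]
  refine Finset.sum_congr rfl fun i _ => ?_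
  rw [Groth.L17.GradedFinite.GrMod.cmul]
  by_cases hdk : d i ≤ k
  · rw [dif_pos hdk, hτmul hdk]
    refine (congrArg (hF _ p) (hw i).symm).trans ?_
    rw [← hF_comp, D.π_mul, hF_comp]
    simp only [c, if_pos hdk]
  · rw [dif_neg hdk, Groth.L16.Rees.hmap_zero, map_zero]
    simp only [c, if_neg hdk]
    rw [sc_zero, hF_zero, map_zero]

include hf in
theorem Data.eq_zero_of_forall_Zsub (h𝔉 : FSch.IsCohF 𝔛 hX.1 𝔉)
    (hproper : IsProper ((f : FSch.Hom 𝔛 (FSch.spf A I)).app 0)) (p : ℕ) (x : Sheaf.H ((TF hX.1).obj 𝔉) p)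
    (hx : ∀ n, x ∈ D.Zsub p n) : x = 0 := by
  obtain ⟨θ, hθ, -⟩ := D.exists_levelIso hf h𝔉
  refine (hF_levels_bijective (hX := hX) h𝔉 hf hproper p).1 x fun k => ?_
  show hF ((FSch.levelMor 𝔛 hX.1 k).adj.unit.app 𝔉) p x = 0
  rw [← hθ k, hF_comp]
  exact (congrArg (hF (θ k).hom p) ((D.mem_Zsub x).1 (hx (k + 1)))).trans (map_zero _)

theorem exists_limit_coeff {d n : ℕ} (c : ℕ → A) (hc : ∀ m, c m ∈ I ^ (n + m - d)) :
    ∃ L : A, ∀ M, L - ∑ m ∈ Finset.range M, c m ∈ I ^ (n + M - d) := by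
  have hstep : ∀ i j, i ≤ j → (∑ m ∈ Finset.range j, c m) - ∑ m ∈ Finset.range i, c m ∈ I ^ (n + i - d) := by
    intro i j hij
    rw [← Finset.sum_Ico_eq_sub _ hij]
    exact Ideal.sum_mem _ fun m hm =>
      Ideal.pow_le_pow_right (by have := (Finset.mem_Ico.1 hm).1; omega) (hc m)
  obtain ⟨L, hL⟩ := IsPrecomplete.prec (IsAdicComplete.toIsPrecomplete (I := I) (M := A))
    (f := fun j => ∑ m ∈ Finset.range (j + d), c m) fun {i j} hij => by
      rw [SModEq.sub_mem, smul_eq_mul, Ideal.mul_top, ← neg_sub, neg_mem_iff]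
      exact Ideal.pow_le_pow_right (show i ≤ n + (i + d) - d by omega) (hstep _ _ (Nat.add_le_add_right hij d))
  refine ⟨L, fun M => ?_⟩
  have h1 := hL (n + M)
  rw [SModEq.sub_mem, smul_eq_mul, Ideal.mul_top, ← neg_sub, neg_mem_iff] at h1
  rw [← sub_add_sub_cancel L (∑ m ∈ Finset.range (n + M + d), c m)]
  exact add_mem (Ideal.pow_le_pow_right (Nat.sub_le _ _) h1) (hstep M _ (by omega))

include hf in
/-- Finitely many classes generate, compatibly with the filtration by the reductions. -/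
theorem Data.exists_good_generators (h𝔉 : FSch.IsCohF 𝔛 hX.1 𝔉)
    (hproper : IsProper ((f : FSch.Hom 𝔛 (FSch.spf A I)).app 0)) (p : ℕ) :
    ∃ (N : ℕ) (d : Fin N → ℕ) (w : Fin N → Sheaf.H ((TF hX.1).obj 𝔉) p),
      ∀ n, ∀ x ∈ D.Zsub p n, ∃ c : Fin N → A, (∀ i, c i ∈ I ^ (n - d i)) ∧
        x = ∑ i, hF (sc f hX (c i) 𝔉) p (w i) := by
  classical
  obtain ⟨N, d, w, hw, hstep⟩ := D.exists_step hf h𝔉 hproper p
  refine ⟨N, d, w, fun n x hx => ?_⟩
  choose C hC hC' using hstep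
  let X' : ∀ m, {z // z ∈ D.Zsub p (n + m)} := fun m => Nat.rec ⟨x, hx⟩
    (fun m z => ⟨z.1 - ∑ i, hF (sc f hX (C (n + m) z.1 z.2 i) 𝔉) p (w i), hC' (n + m) z.1 z.2⟩) m
  let c : ℕ → Fin N → A := fun m => C (n + m) (X' m).1 (X' m).2
  have hc : ∀ m i, c m i ∈ I ^ (n + m - d i) := fun m i => hC _ _ _ i
  choose L hL using fun i => exists_limit_coeff (d := d i) (n := n) (fun m => c m i) fun m => hc m i
  refine ⟨L, fun i => by simpa using hL i 0, ?_⟩
  rw [← sub_eq_zero]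
  refine D.eq_zero_of_forall_Zsub hf h𝔉 hproper p _ fun M => ?_
  have hM : (X' M).1 = x - ∑ i, hF (sc f hX (∑ m ∈ Finset.range M, c m i) 𝔉) p (w i) := by
    induction M with
    | zero =>
      refine (sub_eq_self.2 (Finset.sum_eq_zero fun i _ => ?_)).symm
      rw [Finset.range_zero, Finset.sum_empty, sc_zero, hF_zero]
    | succ M ih =>
      show (X' M).1 - ∑ i, hF (sc f hX (c M i) 𝔉) p (w i) = _
      rw [ih, sub_sub, ← Finset.sum_add_distrib]
      refine congrArg (x - ·) (Finset.sum_congr rfl fun i _ => ?_)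
      rw [Finset.sum_range_succ, sc_add, hF_add]
  have hdiff : x - ∑ i, hF (sc f hX (L i) 𝔉) p (w i) =
      (X' M).1 - ∑ i, hF (sc f hX (L i - ∑ m ∈ Finset.range M, c m i) 𝔉) p (w i) := by
    rw [hM, sub_sub, ← Finset.sum_add_distrib]
    refine congrArg (x - ·) (Finset.sum_congr rfl fun i _ => ?_)
    rw [← hF_add, ← sc_add, add_sub_cancel]
  have hmono : D.Zsub p (n + M) ≤ D.Zsub p M := fun z hz => by
    rw [D.mem_Zsub, ← D.π_tr (Nat.le_add_left M n), hF_comp, (D.mem_Zsub z).1 hz, map_zero]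
  rw [hdiff]
  exact hmono (sub_mem (X' M).2 (sum_mem fun i _ => D.sc_mem_Zsub _ (hL i M) (hw i)))

end Groth.L17.FSheaf.GrQuot
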