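import Groth.Agent.L17.FSheaf.RpushML
import Groth.Agent.L17.FSheaf.GrFinite

/-!
# Coherence of the higher direct images of coherent modules under proper morphisms of formal schemes
-/

set_option autoImplicit false
set_option linter.style.haveILetI false
set_option linter.unusedSectionVars false
set_option backward.isDefEq.respectTransparency false
set_option backward.isDefEq.respectTransparency.types false

universe u

open CategoryTheory CategoryTheory.Limits AlgebraicGeometry TopologicalSpace Opposite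

noncomputable section

namespace Groth.L17.FSheaf.RpushF

open Groth.L17 Groth.L17.RpushSect Groth.L17.FSheaf Groth.L17.FSheaf.Restr
open Groth.L17.FSheaf.GrQuot (Data TF hF hF_comp hF_id hF_zero sc sc_one)

variable {𝔛 𝔜 : FSch.Sys.{u}} (hX : 𝔛.IsLocNoethFormal) (hY : 𝔜.IsLocNoethFormal) (f : 𝔛 ⟶ 𝔜)
  (𝔉 : FSch.ModF 𝔛 hX.1) (h𝔉 : FSch.IsCohF 𝔛 hX.1 𝔉) (hf : FSch.IsProperHom f)
  [HasInjectiveResolutions (FSch.ModF 𝔛 hX.1)] (q : ℕ)

section Affine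

variable {V : (𝔜.X 0).Opens} (hV : IsAffineOpen V) [IsNoetherianRing (O 𝔜 hY.1 V)]

include h𝔉 hf hV in
/-- Sections over an affine open are the classes over its preimage. -/
theorem bijective_Φs : Function.Bijective (Φs hX hY f q (V := V) 𝔉) := by
  refine ⟨fun x x' h => ?_, fun y => ?_⟩
  · rw [← sub_eq_zero]
    refine (pu_lim hX hY f 𝔉 hV h𝔉 hf q).1 _ fun k => ?_
    rw [pmap, map_sub, sub_eq_zero]
    apply (bijective_Φs_level hX hY f 𝔉 hV h𝔉 hf q k).1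
    rw [Φs_pmap, Φs_pmap, h]
  · choose w hw using fun k => (bijective_Φs_level hX hY f 𝔉 hV h𝔉 hf q k).2 (rmap hX hY f q (πk hX 𝔉 k) V y)
    obtain ⟨x, hx⟩ := (pu_lim hX hY f 𝔉 hV h𝔉 hf q).2 w fun k =>
      (bijective_Φs_level hX hY f 𝔉 hV h𝔉 hf q k).1 (by
        rw [Φs_pmap, hw, hw, rmap_comp]
        refine congrArg (fun g => rmap hX hY f q g V y) ?_
        rw [← trG_succ]
        exact πk_trG hX 𝔉 k.le_succ)
    refine ⟨x, sub_eq_zero.1 ((sect_lim hX hY f 𝔉 h𝔉 hf q hV).1 _ fun k => ?_)⟩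
    rw [map_sub, ← Φs_pmap, hx k, hw k, sub_self]

/-- Classes on the restriction as sections over the open. -/
def Esec : Sheaf.H ((ρT 𝔛 hX.1 (preU 𝔜 V f)).obj 𝔉) q →+ SF 𝔜 hY.1 ((RQ hX hY f q).obj 𝔉) V :=
  ((ΦV (FSch.homMor f hX.1 hY.1) q V).app 𝔉).hom.comp (eH hX hY f q 𝔉).symm.toAddMonoidHom

theorem Esec_smul (a : O 𝔜 hY.1 V) (z : Sheaf.H ((ρT 𝔛 hX.1 (preU 𝔜 V f)).obj 𝔉) q) :
    Esec hX hY f 𝔉 q (hF (sc (fV 𝔜 hY hV hX.1 f) (hXV hX f) a ((ρV hX f (V := V)).obj 𝔉)) q z) =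
      a • Esec hX hY f 𝔉 q z := by
  refine Eq.trans ?_ (ΦV_smul hX hY f q a 𝔉 ((eH hX hY f q 𝔉).symm z))
  refine congrArg (fun t => (ΦV (FSch.homMor f hX.1 hY.1) q V).app 𝔉 t) ?_
  apply (eH hX hY f q 𝔉).injective
  refine ((eH hX hY f q 𝔉).apply_symm_apply _).trans ?_
  refine Eq.trans ?_ (eH_smul hX hY f hV q a 𝔉 _).symm
  exact congrArg (fun t => hF (sc (fV 𝔜 hY hV hX.1 f) (hXV hX f) a ((ρV hX f (V := V)).obj 𝔉)) q t)
    ((eH hX hY f q 𝔉).apply_symm_apply z).symm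

include h𝔉 hf hV in
theorem sect_good_aux :
    Module.Finite (O 𝔜 hY.1 V) (SF 𝔜 hY.1 ((RQ hX hY f q).obj 𝔉) V) ∧
      ∀ j, ∃ k₀, ∀ k, k₀ ≤ k → ∀ y : SF 𝔜 hY.1 ((RQ hX hY f q).obj 𝔉) V,
        rmap hX hY f q (πk hX 𝔉 k) V y = 0 →
          y ∈ J 𝔜 hY.1 V ^ j • (⊤ : Submodule (O 𝔜 hY.1 V) (SF 𝔜 hY.1 ((RQ hX hY f q).obj 𝔉) V)) := by
  classical
  haveI := (O_spec 𝔜 hY hV).2.1
  obtain ⟨D, θ, hθ, -⟩ := exists_comparison hX hY f 𝔉 hV h𝔉 hf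
  obtain ⟨N, d, w, hw⟩ := D.exists_good_generators (isAdicHom_fV 𝔜 hY hV hX.1 f hf.1)
    (isCohF_ρ 𝔛 (preU 𝔜 V f) hX h𝔉) (isProper_fV 𝔜 hY hV hX.1 f hf.2) q
  have hsurj : ∀ y, ∃ x, Φs hX hY f q (V := V) 𝔉 x = y := (bijective_Φs hX hY f 𝔉 h𝔉 hf q hV).2
  have hE : ∀ x, Esec hX hY f 𝔉 q (eH hX hY f q 𝔉 x) = Φs hX hY f q (V := V) 𝔉 x := fun x =>
    congrArg (fun t => (ΦV (FSch.homMor f hX.1 hY.1) q V).app 𝔉 t) ((eH hX hY f q 𝔉).symm_apply_apply x)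
  have hspan : ∀ n x, hF (D.π n) q (eH hX hY f q 𝔉 x) = 0 → ∃ c : Fin N → O 𝔜 hY.1 V,
      (∀ i, c i ∈ J 𝔜 hY.1 V ^ (n - d i)) ∧
      Φs hX hY f q (V := V) 𝔉 x = ∑ i, c i • Esec hX hY f 𝔉 q (w i) := fun n x hx => by
    obtain ⟨c, hc, hsum⟩ := hw n _ hx
    refine ⟨c, hc, (hE x).symm.trans ((congrArg (Esec hX hY f 𝔉 q) hsum).trans ?_)⟩
    exact (map_sum (Esec hX hY f 𝔉 q) _ _).trans
      (Finset.sum_congr rfl fun i _ => Esec_smul hX hY f 𝔉 q hV (c i) (w i))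
  refine ⟨⟨⟨Finset.univ.image fun i => Esec hX hY f 𝔉 q (w i), ?_⟩⟩, fun j => ?_⟩
  · refine eq_top_iff.2 fun y _ => ?_
    obtain ⟨x, rfl⟩ := hsurj y
    have hπ0 : D.π 0 = 0 := by
      have := D.kills 0 1 (by rw [pow_zero, Ideal.one_eq_top]; exact Submodule.mem_top)
      rwa [sc_one, Category.id_comp] at this
    obtain ⟨c, -, hc⟩ := hspan 0 x (by rw [hπ0, hF_zero])
    rw [hc]
    exact Submodule.sum_mem _ fun i _ => Submodule.smul_mem _ _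
      (Submodule.subset_span (by simp))
  · refine ⟨Finset.univ.sup d + j, fun k hk y hy => ?_⟩
    obtain ⟨x, rfl⟩ := hsurj y
    have h0 : pmap hX hY f q (πk hX 𝔉 k) x = 0 :=
      (bijective_Φs_level hX hY f 𝔉 hV h𝔉 hf q k).1
        ((Φs_pmap hX hY f q _ x).trans (hy.trans (map_zero _).symm))
    have h1 : hF ((ρV hX f (V := V)).map (πk hX 𝔉 k)) q (eH hX hY f q 𝔉 x) = 0 := by
      rw [← eH_pmap, h0, map_zero]
    have h2 : hF (D.π (k + 1)) q (eH hX hY f q 𝔉 x) = 0 := by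
      rw [← (Iso.comp_inv_eq (θ k)).2 (hθ k).symm, hF_comp, h1, map_zero]
    obtain ⟨c, hc, hxc⟩ := hspan (k + 1) x h2
    rw [hxc]
    refine Submodule.sum_mem _ fun i _ => Submodule.smul_mem_smul ?_ Submodule.mem_top
    exact Ideal.pow_le_pow_right (show j ≤ k + 1 - d i by
      have := Finset.le_sup (f := d) (Finset.mem_univ i); omega) (hc i)

end Affine

include h𝔉 hf in
/-- On an affine open the sections are a finite module with the adic topology. -/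
theorem sect_good {W : (𝔜.X 0).Opens} (hW : IsAffineOpen W) :
    Module.Finite (O 𝔜 hY.1 W) (SF 𝔜 hY.1 ((RQ hX hY f q).obj 𝔉) W) ∧
      ∀ j, ∃ k₀, ∀ k, k₀ ≤ k → ∀ y : SF 𝔜 hY.1 ((RQ hX hY f q).obj 𝔉) W,
        rmap hX hY f q (πk hX 𝔉 k) W y = 0 →
          y ∈ J 𝔜 hY.1 W ^ j • (⊤ : Submodule (O 𝔜 hY.1 W) (SF 𝔜 hY.1 ((RQ hX hY f q).obj 𝔉) W)) :=
  haveI := (O_spec 𝔜 hY hW).1
  sect_good_aux hX hY f 𝔉 h𝔉 hf q hW

include h𝔉 hf in
/-- Stable sections of the levels lift. -/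
theorem exists_global_lift {V : (𝔜.X 0).Opens} (hV : IsAffineOpen V) :
    ∃ r, ∀ (i : ℕ) (y : SF 𝔜 hY.1 ((RQ hX hY f q).obj (Gk hX 𝔉 (i + r))) V),
      ∃ x, rmap hX hY f q (πk hX 𝔉 i) V x = rmap hX hY f q (trG hX 𝔉 (Nat.le_add_right i r)) V y := by
  obtain ⟨r, hr⟩ := sect_stable hX hY f 𝔉 h𝔉 hf q hV
  refine ⟨r, fun i y => ?_⟩
  let S := fun k => Set.range (rmap hX hY f q (trG hX 𝔉 (Nat.le_add_right k r)) V)
  have hmap : ∀ k, ∀ a ∈ S (k + 1), rmap hX hY f q (tk hX 𝔉 k) V a ∈ S k := by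
    rintro k _ ⟨z, rfl⟩
    refine ⟨rmap hX hY f q (trG hX 𝔉 (show k + r ≤ k + 1 + r by omega)) V z, ?_⟩
    rw [rmap_comp, trG_comp, rmap_comp, ← trG_succ, trG_comp]
  obtain ⟨F, hF', hFi⟩ := exists_family (B := fun k => {a // a ∈ S k}) (fun k a => ⟨_, hmap k a.1 a.2⟩)
    (fun k => by
      rintro ⟨_, ⟨z, rfl⟩⟩
      obtain ⟨z', hz'⟩ := hr k (k + 1 + r) (by omega) z
      refine ⟨⟨_, ⟨z', rfl⟩⟩, Subtype.ext ?_⟩
      show rmap hX hY f q (tk hX 𝔉 k) V (rmap hX hY f q _ V z') = _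
      rw [rmap_comp, ← trG_succ, trG_comp, hz'])
    i ⟨_, y, rfl⟩
  obtain ⟨x, hx⟩ := (sect_lim hX hY f 𝔉 h𝔉 hf q hV).2 (fun k => (F k).1) fun k => congrArg Subtype.val (hF' k)
  exact ⟨x, (hx i).trans (congrArg Subtype.val hFi)⟩

include h𝔉 hf in
/-- Generators over an affine open generate over the smaller ones. -/
theorem span_res_eq_top {V W : (𝔜.X 0).Opens} (hV : IsAffineOpen V) (hW : IsAffineOpen W) (hWV : W ≤ V) {n : ℕ}
    (g : Fin n → SF 𝔜 hY.1 ((RQ hX hY f q).obj 𝔉) V) (hg : Submodule.span (O 𝔜 hY.1 V) (Set.range g) = ⊤) :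
    Submodule.span (O 𝔜 hY.1 W) (Set.range fun i =>
      res (R := ModSite.ringSh (𝔜.Osh hY.1)) ((RQ hX hY f q).obj 𝔉) hWV (g i)) = ⊤ := by
  haveI := (O_spec 𝔜 hY hW).1
  haveI := (O_spec 𝔜 hY hW).2.1
  obtain ⟨hfin, hgood⟩ := sect_good hX hY f 𝔉 h𝔉 hf q hW
  haveI := hfin
  obtain ⟨k₀, hk₀⟩ := hgood 1
  obtain ⟨r, hr⟩ := exists_global_lift hX hY f 𝔉 h𝔉 hf q hV
  obtain ⟨N, hN, ⟨e⟩⟩ := exists_levelModule hX hY f 𝔉 h𝔉 hf q (k₀ + r)
  haveI := hN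
  let P := Submodule.span (O 𝔜 hY.1 W) (Set.range fun i =>
    res (R := ModSite.ringSh (𝔜.Osh hY.1)) ((RQ hX hY f q).obj 𝔉) hWV (g i))
  refine eq_top_of_sup (J 𝔜 hY.1 W) P (eq_top_iff.2 fun y _ => ?_)
  have hy : rmap hX hY f q (trG hX 𝔉 (Nat.le_add_right k₀ r)) W (rmap hX hY f q (πk hX 𝔉 (k₀ + r)) W y) ∈
      P.map (rmap hX hY f q (πk hX 𝔉 k₀) W) := by
    have hspan : Submodule.span (O 𝔜 hY.1 W) (Set.range (res (R := ModSite.ringSh (𝔜.Osh hY.1))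
        ((RQ hX hY f q).obj (Gk hX 𝔉 (k₀ + r))) hWV)) ≤
        (P.map (rmap hX hY f q (πk hX 𝔉 k₀) W)).comap
          (rmap hX hY f q (trG hX 𝔉 (Nat.le_add_right k₀ r)) W) := by
      refine Submodule.span_le.2 ?_
      rintro _ ⟨z, rfl⟩
      obtain ⟨x, hx⟩ := hr k₀ z
      obtain ⟨c, rfl⟩ := (Submodule.mem_span_range_iff_exists_fun _).1 (hg ▸ Submodule.mem_top : x ∈ _)
      refine ⟨_, ?_, (rmap_res hX hY f q (πk hX 𝔉 k₀) hWV _).trans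
        ((congrArg _ hx).trans (rmap_res hX hY f q _ hWV z).symm)⟩
      rw [res_sum]
      refine Submodule.sum_mem _ fun i _ => ?_
      rw [res_smul]
      exact Submodule.smul_mem _ _ (Submodule.subset_span ⟨i, rfl⟩)
    exact hspan (mem_span_res hY e hV hW hWV _)
  obtain ⟨y', hy', hyy'⟩ := hy
  rw [rmap_comp, πk_trG] at hyy'
  refine Submodule.mem_sup.2 ⟨y', hy', y - y', ?_, add_sub_cancel _ _⟩
  have := hk₀ k₀ le_rfl (y - y') (by rw [map_sub, hyy', sub_self])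
  rwa [pow_one] at this

include h𝔉 hf in
/-- Relations over an affine open generate the relations over the smaller ones. -/
theorem rel_res {V W : (𝔜.X 0).Opens} (hV : IsAffineOpen V) (hW : IsAffineOpen W) (hWV : W ≤ V) {n m : ℕ}
    (g : Fin n → SF 𝔜 hY.1 ((RQ hX hY f q).obj 𝔉) V) (hg : Submodule.span (O 𝔜 hY.1 V) (Set.range g) = ⊤)
    (r : Fin m → Fin n → O 𝔜 hY.1 V)
    (hrel : ∀ b : Fin n → O 𝔜 hY.1 V, ∑ i, b i • g i = 0 → ∃ d : Fin m → O 𝔜 hY.1 V, ∀ i, b i = ∑ j, d j * r j i)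
    (a : Fin n → O 𝔜 hY.1 W)
    (ha : ∑ i, a i • res (R := ModSite.ringSh (𝔜.Osh hY.1)) ((RQ hX hY f q).obj 𝔉) hWV (g i) = 0) :
    ∃ c : Fin m → O 𝔜 hY.1 W, ∀ i, a i = ∑ j, c j * resO 𝔜 hY.1 hWV (r j i) := by
  haveI := (O_spec 𝔜 hY hW).1
  haveI := (O_spec 𝔜 hY hW).2.1
  let P := Submodule.span (O 𝔜 hY.1 W) (Set.range fun j => fun i => resO 𝔜 hY.1 hWV (r j i))
  suffices hP : a ∈ P by
    obtain ⟨c, hc⟩ := (Submodule.mem_span_range_iff_exists_fun _).1 hP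
    exact ⟨c, fun i => by rw [← hc]; simp⟩
  refine mem_of_forall_mem_sup (J 𝔜 hY.1 W) P fun j => ?_
  obtain ⟨k₀, hk₀⟩ := (sect_good hX hY f 𝔉 h𝔉 hf q hV).2 j
  let k := k₀ + j
  obtain ⟨N, hN, ⟨e⟩⟩ := exists_levelModule hX hY f 𝔉 h𝔉 hf q k
  haveI := hN
  have h1 := mem_span_rel hY e hV hW hWV (fun i => rmap hX hY f q (πk hX 𝔉 k) V (g i)) a (by
    refine Eq.trans ?_ ((congrArg (rmap hX hY f q (πk hX 𝔉 k) W) ha).trans (map_zero _))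
    rw [map_sum]
    exact Finset.sum_congr rfl fun i _ => by rw [map_smul, rmap_res])
  refine (sup_le ?_ ?_ : _ ≤ P ⊔ J 𝔜 hY.1 W ^ j • ⊤) h1
  · refine Submodule.span_le.2 ?_
    rintro _ ⟨b, hb, rfl⟩
    have hy : rmap hX hY f q (πk hX 𝔉 k) V (∑ i, b i • g i) = 0 := by
      rw [map_sum]
      exact (Finset.sum_congr rfl fun i _ => map_smul _ _ _).trans hb
    have hmem := hk₀ k (Nat.le_add_right _ _) _ hy
    rw [← hg, Submodule.mem_ideal_smul_span_iff_exists_sum] at hmem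
    obtain ⟨ε, hε, hεsum⟩ := hmem
    rw [Finsupp.sum_fintype ε (fun i c => c • g i) fun i => zero_smul _ (g i)] at hεsum
    obtain ⟨d, hd⟩ := hrel (fun i => b i - ε i) (by
      rw [Finset.sum_congr rfl fun i _ => sub_smul (b i) (ε i) (g i), Finset.sum_sub_distrib, hεsum, sub_self])
    refine Submodule.mem_sup.2 ⟨∑ l, resO 𝔜 hY.1 hWV (d l) • fun i => resO 𝔜 hY.1 hWV (r l i),
      Submodule.sum_mem _ fun l _ => Submodule.smul_mem _ _ (Submodule.subset_span ⟨l, rfl⟩),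
      fun i => resO 𝔜 hY.1 hWV (ε i), mem_pow_smul_pi _ _ fun i => ?_, funext fun i => ?_⟩
    · rw [J_eq_map 𝔜 hY hV hW hWV, ← Ideal.map_pow]
      exact Ideal.mem_map_of_mem _ (hε i)
    · rw [Pi.add_apply, Finset.sum_apply]
      show ∑ l, resO 𝔜 hY.1 hWV (d l) * resO 𝔜 hY.1 hWV (r l i) + resO 𝔜 hY.1 hWV (ε i) = _
      rw [← Finset.sum_congr rfl fun l _ => map_mul (resO 𝔜 hY.1 hWV) (d l) (r l i), ← map_sum, ← hd i,
        ← map_add, sub_add_cancel]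
  · exact le_sup_of_le_right (Submodule.smul_mono_left (Ideal.pow_le_pow_right (by omega)))

include h𝔉 hf in
/-- The higher direct images are coherent. -/
theorem isCohF_rpushF : FSch.IsCohF 𝔜 hY.1 ((RQ hX hY f q).obj 𝔉) := by
  refine isFinitePresentation_of_local (R := ModSite.ringSh (𝔜.Osh hY.1))
    (B := {V | IsAffineOpen (V : (𝔜.X 0).Opens)}) (𝔜.X 0).isBasis_affineOpens _ fun x => ?_
  obtain ⟨_, ⟨V, hV, rfl⟩, hxV, -⟩ :=
    (𝔜.X 0).isBasis_affineOpens.exists_subset_of_mem_open (Set.mem_univ x) isOpen_univ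
  haveI := (sect_good hX hY f 𝔉 h𝔉 hf q hV).1
  obtain ⟨n, g, hg⟩ := Module.Finite.exists_fin (R := O 𝔜 hY.1 V) (M := SF 𝔜 hY.1 ((RQ hX hY f q).obj 𝔉) V)
  obtain ⟨m, r, hr, hrel⟩ := exists_relations 𝔜 hY hV g
  exact ⟨V, hxV, n, m, g, r, fun W hW hWV => span_res_eq_top hX hY f 𝔉 h𝔉 hf q hV hW hWV g hg, hr,
    fun W hW hWV a ha => rel_res hX hY f 𝔉 h𝔉 hf q hV hW hWV g hg r hrel a ha⟩

end Groth.L17.FSheaf.RpushF
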