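import Groth.Agent.L17.FSheaf.CohCat
import Groth.Agent.L17.BC.PullSec
import Groth.Agent.L20.ModStalk
import Groth.Agent.S3854

/-!
# Sections of completions of coherent modules
-/

set_option autoImplicit false
set_option linter.style.haveILetI false
set_option linter.unusedSectionVars false
set_option backward.isDefEq.respectTransparency false
set_option backward.isDefEq.respectTransparency.types false

universe u

open CategoryTheory CategoryTheory.Limits AlgebraicGeometry TopologicalSpace Opposite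

noncomputable section

namespace Groth.L17.FSheaf

open Groth.L18.Frame (rs ro pull pull_rs rs_rs rs_self)
open Groth.L17.BC.PullSec (app_rs map_pull comp_pull_rs congr_pull)
open Groth.L16.AffineBC (pullRes isBaseChange_pull)

section Gen

variable {A B C : Scheme.{u}}

theorem pull_sub (f : A ⟶ B) (M : B.Modules) (V : B.Opens) (a b : Γ(M, V)) :
    pull f M V (a - b) = pull f M V a - pull f M V b :=
  map_sub (((Scheme.Modules.pullbackPushforwardAdjunction f).unit.app M).app V).hom a b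

theorem pullTrans_app (f : A ⟶ B) (g : B ⟶ C) {r : A ⟶ C} (q : f ≫ g = r) (M : C.Modules) (W : C.Opens)
    (m : Γ(M, W)) {U : B.Opens} {V : A.Opens} (e1 : U ≤ g ⁻¹ᵁ W) (e0 : V ≤ f ⁻¹ᵁ U) (e2 : V ≤ r ⁻¹ᵁ W) :
    ((Scheme.Modules.pullbackComp f g ≪≫ Scheme.Modules.pullbackCongr q).app M).hom.app V
        (rs ((Scheme.Modules.pullback f).obj ((Scheme.Modules.pullback g).obj M)) e0
          (pull f ((Scheme.Modules.pullback g).obj M) U
            (rs ((Scheme.Modules.pullback g).obj M) e1 (pull g M W m)))) =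
      rs ((Scheme.Modules.pullback r).obj M) e2 (pull r M W m) := by
  rw [← pull_rs f ((Scheme.Modules.pullback g).obj M) e1 (pull g M W m)]
  refine Eq.trans (congrArg _ (rs_rs ((Scheme.Modules.pullback f).obj ((Scheme.Modules.pullback g).obj M))
    (f.preimage_mono e1) e0 _)) ?_
  refine Eq.trans (congrArg (((Scheme.Modules.pullbackCongr q).hom.app M).app V)
    (comp_pull_rs f g M W m V (e0.trans (f.preimage_mono e1)))) ?_
  exact congr_pull q M W m V _ e2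

theorem appLE_surjective_of_eq (p : A ⟶ B) {W : B.Opens} {U : A.Opens} (e : U = p ⁻¹ᵁ W)
    (hs : Function.Surjective (p.app W).hom) : Function.Surjective (p.appLE W U e.le).hom := by
  subst e
  rw [← Scheme.Hom.app_eq_appLE]
  exact hs

end Gen

variable {X : Scheme.{u}} (𝔛 : FSch.Sys.{u}) (h : 𝔛.IsFormal) (p : ∀ k, 𝔛.X k ⟶ X)
  (hp : ∀ k, 𝔛.ι k ≫ p (k + 1) = p k)

/-- The inverse images of a module along compatible morphisms from the levels. -/
def pullSys (F : X.Modules) : FSch.ModSys 𝔛 where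
  F k := (Scheme.Modules.pullback (p k)).obj F
  e k := (Scheme.Modules.pullbackComp (𝔛.ι k) (p (k + 1)) ≪≫ Scheme.Modules.pullbackCongr (hp k)).app F

/-- Morphisms of the inverse images. -/
def pullSysMap {F G : X.Modules} (φ : F ⟶ G) : pullSys 𝔛 p hp F ⟶ pullSys 𝔛 p hp G :=
  ⟨fun k => (Scheme.Modules.pullback (p k)).map φ, fun k =>
    (Scheme.Modules.pullbackComp (𝔛.ι k) (p (k + 1)) ≪≫ Scheme.Modules.pullbackCongr (hp k)).hom.naturality φ⟩

/-- The open of the system over an open of the scheme. -/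
abbrev pU (W : X.Opens) : (𝔛.X 0).Opens := p 0 ⁻¹ᵁ W

include hp in
theorem pU_le (k : ℕ) (W : X.Opens) : 𝔛.lvU h k (pU 𝔛 p W) ≤ p k ⁻¹ᵁ W :=
  (FSch.lvU_p 𝔛 h p hp k W).ge

theorem isAffineOpen_pU [IsClosedImmersion (p 0)] {W : X.Opens} (hW : IsAffineOpen W) :
    IsAffineOpen (pU 𝔛 p W) :=
  hW.preimage _

/-- The opens over affine opens form a basis. -/
theorem isBasis_pU [IsClosedImmersion (p 0)] :
    Opens.IsBasis {U : Opens (𝔛.X 0) | ∃ W : X.Opens, IsAffineOpen W ∧ U = pU 𝔛 p W} := by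
  refine Opens.isBasis_iff_nbhd.2 fun {U x} hx => ?_
  obtain ⟨V, hV, e⟩ := (p 0).isClosedEmbedding.isInducing.isOpen_iff.1 U.2
  obtain ⟨_, ⟨W, hW, rfl⟩, hxW, hWV⟩ := X.isBasis_affineOpens.exists_subset_of_mem_open
    (show p 0 x ∈ V from e.ge hx) hV
  exact ⟨_, ⟨W, hW, rfl⟩, hxW, fun y hy => e.le (hWV hy)⟩

variable (F : X.Modules)

/-- The image of a section on the sections of a level. -/
abbrev pW (k : ℕ) (W : X.Opens) (m : Γ(F, W)) :
    Γ((pullSys 𝔛 p hp F).F k, 𝔛.lvU h k (pU 𝔛 p W)) :=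
  rs ((Scheme.Modules.pullback (p k)).obj F) (pU_le 𝔛 h p hp k W) (pull (p k) F W m)

theorem pW_sub (k : ℕ) (W : X.Opens) (a b : Γ(F, W)) :
    pW 𝔛 h p hp F k W (a - b) = pW 𝔛 h p hp F k W a - pW 𝔛 h p hp F k W b := by
  show rs _ _ _ = _
  rw [pull_sub]
  exact map_sub (((Scheme.Modules.pullback (p k)).obj F).presheaf.map
    (homOfLE (pU_le 𝔛 h p hp k W)).op).hom _ _

/-- The images are compatible with the transition maps. -/
theorem tM_pW (k : ℕ) (W : X.Opens) (m : Γ(F, W)) :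
    (tM 𝔛 h (pullSys 𝔛 p hp F) k (pU 𝔛 p W) (pW 𝔛 h p hp F (k + 1) W m) :
      Γ((pullSys 𝔛 p hp F).F k, 𝔛.lvU h k (pU 𝔛 p W))) = pW 𝔛 h p hp F k W m := by
  rw [tM_apply]
  exact pullTrans_app (𝔛.ι k) (p (k + 1)) (hp k) F W m _ _ (pU_le 𝔛 h p hp k W)

/-- The images are natural in the module. -/
theorem pW_map {G : X.Modules} (φ : F ⟶ G) (k : ℕ) (W : X.Opens) (m : Γ(F, W)) :
    ((pullSysMap 𝔛 p hp φ).app k).app (𝔛.lvU h k (pU 𝔛 p W)) (pW 𝔛 h p hp F k W m) =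
      pW 𝔛 h p hp G k W (φ.app W m) := by
  show ((Scheme.Modules.pullback (p k)).map φ).app _ (rs _ _ _) = _
  rw [app_rs, map_pull]

/-- The levels are cut out by the powers of an ideal. -/
def CutBy (𝓘 : X.IdealSheafData) : Prop :=
  ∀ (k : ℕ) (W : X.affineOpens), Function.Surjective ((p k).app W).hom ∧
    RingHom.ker ((p k).app W).hom = 𝓘.ideal W ^ (k + 1)

/-- The images: surjective, with kernel the power of the ideal. -/
theorem pW_spec [IsClosedImmersion (p 0)] [Coh.IsQCoh F] {𝓘 : X.IdealSheafData} (hcut : CutBy 𝔛 p 𝓘)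
    {W : X.Opens} (hW : IsAffineOpen W) (k : ℕ) :
    Function.Surjective (pW 𝔛 h p hp F k W) ∧ ∀ m, pW 𝔛 h p hp F k W m = 0 ↔
      m ∈ (𝓘.ideal ⟨W, hW⟩) ^ (k + 1) • (⊤ : Submodule Γ(X, W) Γ(F, W)) := by
  have hU : IsAffineOpen (𝔛.lvU h k (pU 𝔛 p W)) := isAffineOpen_lvU _ h (isAffineOpen_pU 𝔛 p hW) k
  have hUeq : 𝔛.lvU h k (pU 𝔛 p W) = p k ⁻¹ᵁ W := (FSch.lvU_p 𝔛 h p hp k W).symm
  let U := 𝔛.lvU h k (pU 𝔛 p W)
  let e : U ≤ p k ⁻¹ᵁ W := pU_le 𝔛 h p hp k W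
  let P := (Scheme.Modules.pullback (p k)).obj F
  letI : Algebra Γ(X, W) Γ(𝔛.X k, U) := ((p k).appLE W U e).hom.toAlgebra
  letI := Module.compHom Γ(P, U) ((p k).appLE W U e).hom
  haveI : IsScalarTower Γ(X, W) Γ(𝔛.X k, U) Γ(P, U) := IsScalarTower.of_algebraMap_smul fun _ _ => rfl
  obtain ⟨hs, hk⟩ := surjective_of_baseChange _ (isBaseChange_pull (p k) F hW hU e)
    (appLE_surjective_of_eq (p k) hUeq (hcut k ⟨W, hW⟩).1)
  refine ⟨hs, fun m => ?_⟩
  rw [show RingHom.ker (algebraMap Γ(X, W) Γ(𝔛.X k, U)) = (𝓘.ideal ⟨W, hW⟩) ^ (k + 1) from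
    (ker_appLE (p k) hUeq).trans (hcut k ⟨W, hW⟩).2] at hk
  rw [← hk]
  exact Iff.rfl

include hp in
theorem isCoh_pullSys [∀ k, IsLocallyNoetherian (𝔛.X k)] (hF : Coh.IsCoh F) :
    (pullSys 𝔛 p hp F).IsCoh := fun k =>
  Groth.L16.AffineBC.isCoh_pullback (p k) hF

/-- Lifts of the components of a section. -/
theorem exists_lifts [IsClosedImmersion (p 0)] [Coh.IsQCoh F] {𝓘 : X.IdealSheafData} (hcut : CutBy 𝔛 p 𝓘)
    {W : X.Opens} (hW : IsAffineOpen W) (x : RM 𝔛 h (pullSys 𝔛 p hp F) (pU 𝔛 p W)) :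
    ∃ m : ℕ → Γ(F, W), (∀ k, pW 𝔛 h p hp F k W (m k) = qM 𝔛 h (pullSys 𝔛 p hp F) k (pU 𝔛 p W) x) ∧
      ∀ k, m (k + 1) - m k ∈ (𝓘.ideal ⟨W, hW⟩) ^ (k + 1) • (⊤ : Submodule Γ(X, W) Γ(F, W)) := by
  choose m hm using fun k => (pW_spec 𝔛 h p hp F hcut hW k).1 (qM 𝔛 h (pullSys 𝔛 p hp F) k (pU 𝔛 p W) x)
  refine ⟨m, hm, fun k => ((pW_spec 𝔛 h p hp F hcut hW k).2 _).1 ?_⟩
  rw [pW_sub, hm k, ← tM_pW, hm (k + 1), sub_eq_zero]
  exact LinearMap.congr_fun (tM_qM 𝔛 h (pullSys 𝔛 p hp F) k) x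

/-- The completion of a scheme. -/
theorem cutBy_completionToX (𝓘 : X.IdealSheafData) :
    CutBy (FSch.completionAlong X 𝓘) (FSch.completionToX X 𝓘) 𝓘 := fun k W =>
  ⟨(𝓘 ^ (k + 1)).subschemeι_app_surjective W, (𝓘 ^ (k + 1)).ker_subschemeι_app W⟩

theorem pullSys_completion (𝓘 : X.IdealSheafData) (F : X.Modules) :
    pullSys (FSch.completionAlong X 𝓘) (FSch.completionToX X 𝓘) (FSch.completionToX_comm X 𝓘) F =
      FSch.complMod 𝓘 F := rfl

theorem pullSysMap_completion (𝓘 : X.IdealSheafData) {F G : X.Modules} (φ : F ⟶ G) :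
    @Eq (FSch.complMod 𝓘 F ⟶ FSch.complMod 𝓘 G)
      (pullSysMap (FSch.completionAlong X 𝓘) (FSch.completionToX X 𝓘) (FSch.completionToX_comm X 𝓘) φ)
      (FSch.complModMap 𝓘 φ) :=
  FSch.ModSys.Hom.ext rfl

end Groth.L17.FSheaf
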