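import Groth.Agent.L17.FSheaf.SpfModules

/-!
# The completion of an affine scheme is cut out by the powers of the ideal
-/

set_option autoImplicit false
set_option linter.style.haveILetI false
set_option linter.unusedSectionVars false
set_option backward.isDefEq.respectTransparency false
set_option backward.isDefEq.respectTransparency.types false

universe u

open CategoryTheory CategoryTheory.Limits AlgebraicGeometry TopologicalSpace Opposite

noncomputable section

namespace Groth.L17.FSheaf

variable {A : Type u} [CommRing A]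

/-- The ideal of functions of `V(J)`. -/
theorem idealSpec_ideal_top (J : Ideal A) :
    (FSch.idealSpec A J).ideal ⟨⊤, isAffineOpen_top _⟩ =
      J.map (Scheme.ΓSpecIso (CommRingCat.of A)).inv.hom := by
  haveI : IsClosedImmersion (Spec.map (CommRingCat.ofHom (Ideal.Quotient.mk J))) :=
    IsClosedImmersion.spec_of_surjective _ Ideal.Quotient.mk_surjective
  have h : (Spec.map (CommRingCat.ofHom (Ideal.Quotient.mk J))).appTop =
      (Scheme.ΓSpecIso (CommRingCat.of A)).hom ≫ CommRingCat.ofHom (Ideal.Quotient.mk J) ≫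
        (Scheme.ΓSpecIso (CommRingCat.of (A ⧸ J))).inv := by
    rw [← Scheme.ΓSpecIso_naturality_assoc, Iso.hom_inv_id, Category.comp_id]
  rw [FSch.idealSpec, Scheme.Hom.ker_apply]
  change RingHom.ker (Spec.map (CommRingCat.ofHom (Ideal.Quotient.mk J))).appTop.hom = _
  ext x
  rw [h, RingHom.mem_ker]
  have hinj : Function.Injective (Scheme.ΓSpecIso (CommRingCat.of (A ⧸ J))).inv.hom :=
    (Scheme.ΓSpecIso (CommRingCat.of (A ⧸ J))).symm.commRingCatIsoToRingEquiv.injective
  simp only [CommRingCat.hom_comp, CommRingCat.hom_ofHom, RingHom.comp_apply]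
  have hsurj : Function.Surjective (Scheme.ΓSpecIso (CommRingCat.of A)).inv.hom :=
    (Scheme.ΓSpecIso (CommRingCat.of A)).symm.commRingCatIsoToRingEquiv.surjective
  rw [map_eq_zero_iff _ hinj, Ideal.Quotient.eq_zero_iff_mem, Ideal.mem_map_iff_of_surjective _ hsurj]
  constructor
  · exact fun hx => ⟨_, hx, by simp⟩
  · rintro ⟨y, hy, rfl⟩
    simpa using hy

theorem cutA_of_cutBy (J : Ideal A) (𝔛 : FSch.Sys.{u}) (p : ∀ k, 𝔛.X k ⟶ Spec (CommRingCat.of A))
    [hcl : ∀ k, IsClosedImmersion (p k)] (hcut : CutBy 𝔛 p (FSch.idealSpec A J)) : CutA J 𝔛 p := fun k => by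
  obtain ⟨hs, hk⟩ := hcut k ⟨⊤, isAffineOpen_top _⟩
  let e := (Scheme.ΓSpecIso (CommRingCat.of A)).symm.commRingCatIsoToRingEquiv
  refine ⟨hcl k, fun z => ?_, ?_⟩
  · obtain ⟨w, hw⟩ := hs z
    obtain ⟨a, ha⟩ := e.surjective w
    exact ⟨a, (congrArg (p k).appTop ha).trans hw⟩
  · have h2 : RingHom.ker ((p k).app ⊤).hom = (J ^ (k + 1)).map e.toRingHom := by
      refine hk.trans ?_
      rw [idealSpec_ideal_top, ← Ideal.map_pow]
      rfl
    calc RingHom.ker (cA 𝔛 p k)
        = (RingHom.ker ((p k).app ⊤).hom).comap e.toRingHom := (RingHom.comap_ker _ _).symm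
      _ = ((J ^ (k + 1)).map e.toRingHom).comap e.toRingHom := by rw [h2]
      _ = J ^ (k + 1) := Ideal.comap_map_of_bijective _ e.bijective

theorem cutA_completion (J : Ideal A) :
    CutA J (FSch.completionAlong (Spec (CommRingCat.of A)) (FSch.idealSpec A J))
      (FSch.completionToX (Spec (CommRingCat.of A)) (FSch.idealSpec A J)) :=
  haveI : ∀ k, IsClosedImmersion (FSch.completionToX (Spec (CommRingCat.of A)) (FSch.idealSpec A J) k) :=
    fun k => inferInstanceAs (IsClosedImmersion ((FSch.idealSpec A J) ^ (k + 1)).subschemeι)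
  cutA_of_cutBy J _ _ (cutBy_completionToX _)

/-- Transfer to the completion. -/
theorem bijective_complModMap_of {X : Scheme.{u}} (𝓘 : X.IdealSheafData) {F G : X.Modules} {ι : Type u}
    (f : ι → (F ⟶ G))
    (h : Function.Bijective fun i => pullSysMap (FSch.completionAlong X 𝓘) (FSch.completionToX X 𝓘)
      (FSch.completionToX_comm X 𝓘) (f i)) :
    Function.Bijective fun i => FSch.complModMap 𝓘 (f i) := by
  refine ⟨fun a b hab => h.1 ?_, fun Φ => ?_⟩
  · exact (pullSysMap_completion 𝓘 (f a)).trans (hab.trans (pullSysMap_completion 𝓘 (f b)).symm)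
  · obtain ⟨i, hi⟩ := h.2 Φ
    exact ⟨i, (pullSysMap_completion 𝓘 (f i)).symm.trans hi⟩

theorem complModMap_bijective (J : Ideal A) [IsNoetherianRing A] [IsAdicComplete J A] (M N : ModuleCat.{u} A)
    [Module.Finite A N] :
    Function.Bijective fun u : M ⟶ N =>
      FSch.complModMap (FSch.idealSpec A J) ((tilde.functor (CommRingCat.of A)).map u) :=
  bijective_complModMap_of (FSch.idealSpec A J) (fun u : M ⟶ N => (tilde.functor (CommRingCat.of A)).map u)
    (pullSysMap_bijective J _ _ (FSch.completionToX_comm (Spec (CommRingCat.of A)) (FSch.idealSpec A J)) M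
      (cutA_completion J) N)

/-- Transfer of isomorphisms to the completion. -/
theorem nonempty_iso_complMod_of {X : Scheme.{u}} (𝓘 : X.IdealSheafData) (F : X.Modules)
    (𝔐 : FSch.ModSys (FSch.completionAlong X 𝓘))
    (h : Nonempty (𝔐 ≅ pullSys (FSch.completionAlong X 𝓘) (FSch.completionToX X 𝓘)
      (FSch.completionToX_comm X 𝓘) F)) :
    Nonempty (𝔐 ≅ FSch.complMod 𝓘 F) := by
  rw [← pullSys_completion]
  exact h

theorem exists_iso_complMod (J : Ideal A) [IsNoetherianRing A] [IsAdicComplete J A]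
    (𝔐 : FSch.ModSys (FSch.completionAlong (Spec (CommRingCat.of A)) (FSch.idealSpec A J))) (h𝔐 : 𝔐.IsCoh) :
    ∃ M : ModuleCat.{u} A, Module.Finite A M ∧
      Nonempty (𝔐 ≅ FSch.complMod (FSch.idealSpec A J) (tilde (R := CommRingCat.of A) M)) := by
  obtain ⟨L, hL, e⟩ := exists_iso_mSys J _ _ (FSch.completionToX_comm _ (FSch.idealSpec A J)) 𝔐
    (cutA_completion J) h𝔐
  exact ⟨L, hL, nonempty_iso_complMod_of (FSch.idealSpec A J) (tilde (R := CommRingCat.of A) L) 𝔐 e⟩

end Groth.L17.FSheaf
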