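import Groth.Agent.L17.FSheaf.CompSect
import Mathlib.Algebra.Homology.ShortComplex.ShortExact

/-!
# Exactness of completion
-/

set_option autoImplicit false
set_option linter.style.haveILetI false
set_option linter.unusedSectionVars false
set_option backward.isDefEq.respectTransparency false
set_option backward.isDefEq.respectTransparency.types false

universe u

open CategoryTheory CategoryTheory.Limits AlgebraicGeometry TopologicalSpace Opposite

noncomputable section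

namespace Groth.L17.FSheaf

theorem sub_mem_of_le {R : Type u} [CommRing R] {M : Type u} [AddCommGroup M] [Module R M] (I : Ideal R)
    {m : ℕ → M} (hm : ∀ k, m (k + 1) - m k ∈ I ^ (k + 1) • (⊤ : Submodule R M)) {i j : ℕ} (hij : i ≤ j) :
    m j - m i ∈ I ^ (i + 1) • (⊤ : Submodule R M) := by
  induction j, hij using Nat.le_induction with
  | base => rw [sub_self]; exact Submodule.zero_mem _
  | succ j hij ih =>
    rw [show m (j + 1) - m i = (m (j + 1) - m j) + (m j - m i) by abel]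
    exact add_mem (Submodule.smul_mono (Ideal.pow_le_pow_right (by omega)) le_rfl (hm j)) ih

variable {X : Scheme.{u}} (𝔛 : FSch.Sys.{u}) (hX : 𝔛.IsLocNoethFormal) (p : ∀ k, 𝔛.X k ⟶ X)
  (hp : ∀ k, 𝔛.ι k ≫ p (k + 1) = p k)

theorem qM_map {𝔐 𝔑 : FSch.ModSys 𝔛} (φ : 𝔐 ⟶ 𝔑) (k : ℕ) (U : (𝔛.X 0).Opens) (x : RM 𝔛 hX.1 𝔐 U) :
    (qM 𝔛 hX.1 𝔑 k U (((FSch.ModSys.realModMap hX.1 φ).val.app (op U)).hom x) : Γ(𝔑.F k, 𝔛.lvU hX.1 k U)) =
      (φ.app k).app (𝔛.lvU hX.1 k U) (qM 𝔛 hX.1 𝔐 k U x) :=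
  LinearMap.congr_fun (congrArg (fun t => ((t : 𝔐.realMod hX.1 ⟶ _).val.app (op U)).hom)
    (FSch.realLimMap_realProj 𝔛 hX.1 φ.app (FSch.ModSys.Hom.toPush_comm φ) k)) x

variable [IsLocallyNoetherian X] [IsClosedImmersion (p 0)] {𝓘 : X.IdealSheafData} (hcut : CutBy 𝔛 p 𝓘)
  (S : ShortComplex X.Modules) (hS : S.ShortExact) (h1 : Coh.IsCoh S.X₁) (h2 : Coh.IsCoh S.X₂) (h3 : Coh.IsCoh S.X₃)

include hcut hS h1 h2 h3 in
/-- Completion of coherent modules is exact. -/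
theorem shortExact_pullSys
    (w : FSch.ModSys.realModMap hX.1 (pullSysMap 𝔛 p hp S.f) ≫
      FSch.ModSys.realModMap hX.1 (pullSysMap 𝔛 p hp S.g) = 0) :
    (ShortComplex.mk _ _ w).ShortExact := by
  haveI := h1.1
  haveI := h2.1
  haveI := h3.1
  haveI : ∀ k, IsLocallyNoetherian (𝔛.X k) := hX.2.2
  haveI := hS.mono_f
  haveI := hS.epi_g
  let F := FSch.ModSys.realModMap hX.1 (pullSysMap 𝔛 p hp S.f)
  let G := FSch.ModSys.realModMap hX.1 (pullSysMap 𝔛 p hp S.g)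
  let M₁ := pullSys 𝔛 p hp S.X₁
  let M₂ := pullSys 𝔛 p hp S.X₂
  have hf : ∀ (W : X.Opens), Function.Injective (S.f.app W) := fun W => by
    refine (injective_iff_map_eq_zero (S.f.app W).hom).2 fun a ha => ?_
    obtain ⟨k, hk⟩ := (exists_kernel_sect (R := X.ringCatSheaf) S.f (op W)).1 a ha
    rw [show kernel.ι S.f = 0 from (cancel_mono S.f).1 (by rw [kernel.condition, zero_comp])] at hk
    exact hk.symm
  have hmid : ∀ (W : X.Opens) (z : Γ(S.X₂, W)), S.g.app W z = 0 → ∃ a, S.f.app W a = z := fun W z hz => by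
    obtain ⟨k, hk⟩ := (exists_kernel_sect (R := X.ringCatSheaf) S.g (op W)).1 z hz
    let e := IsLimit.conePointUniqueUpToIso (kernelIsKernel S.g) hS.fIsKernel
    refine ⟨e.hom.app W k, ?_⟩
    have he : e.hom ≫ S.f = kernel.ι S.g :=
      IsLimit.conePointUniqueUpToIso_hom_comp (kernelIsKernel S.g) hS.fIsKernel WalkingParallelPair.zero
    refine (ConcreteCategory.congr_hom (congrArg (fun t => Scheme.Modules.Hom.app t W) he) k).trans ?_
    exact hk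
  -- Artin–Rees on an affine open
  have hAR : ∀ {W : X.Opens} (hW : IsAffineOpen W), ∃ c, ∀ N, c ≤ N → ∀ a : Γ(S.X₁, W),
      S.f.app W a ∈ 𝓘.ideal ⟨W, hW⟩ ^ N • (⊤ : Submodule Γ(X, W) Γ(S.X₂, W)) →
      a ∈ 𝓘.ideal ⟨W, hW⟩ ^ (N - c) • (⊤ : Submodule Γ(X, W) Γ(S.X₁, W)) := by
    intro W hW
    haveI : IsNoetherianRing Γ(X, W) := IsLocallyNoetherian.component_noetherian ⟨W, hW⟩
    haveI := Groth.L20.ModStalk.finite_sections S.X₂ h2 hW
    let L : Γ(S.X₁, W) →ₗ[Γ(X, W)] Γ(S.X₂, W) :=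
      { toFun := fun a => S.f.app W a
        map_add' := fun a b => map_add _ a b
        map_smul' := fun r a => S.f.app_smul r a }
    obtain ⟨c, hc⟩ := Ideal.exists_pow_inf_eq_pow_smul (𝓘.ideal ⟨W, hW⟩) (LinearMap.range L)
    refine ⟨c, fun N hN a ha => ?_⟩
    have h := Submodule.smul_mono le_rfl inf_le_right ((hc N hN).le ⟨ha, ⟨a, rfl⟩⟩)
    rw [← Submodule.map_top, ← Submodule.map_smul''] at h
    obtain ⟨b, hb, hba⟩ := h
    rwa [← hf W hba]
  have hB := isBasis_pU (X := X) 𝔛 p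
  haveI : Mono F := by
    refine Preadditive.mono_of_kernel_zero (hom_ext_basis hB _ _ ?_)
    rintro _ ⟨W, hW, rfl⟩ z
    let x : RM 𝔛 hX.1 M₁ (pU 𝔛 p W) := ((kernel.ι F).val.app (op (pU 𝔛 p W))).hom z
    have hx : (F.val.app (op (pU 𝔛 p W))).hom x = 0 := hom_comp_zero (kernel.condition F) _ z
    show x = 0
    clear_value x
    obtain ⟨m, hm, hd⟩ := exists_lifts 𝔛 hX.1 p hp S.X₁ hcut hW x
    obtain ⟨c, hc⟩ := hAR hW
    refine qM_ext 𝔛 hX.1 M₁ fun j => ?_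
    rw [map_zero]
    have h4 : S.f.app W (m (j + c)) ∈ 𝓘.ideal ⟨W, hW⟩ ^ (j + c + 1) • (⊤ : Submodule Γ(X, W) Γ(S.X₂, W)) := by
      refine ((pW_spec 𝔛 hX.1 p hp S.X₂ hcut hW _).2 _).1 ?_
      rw [← pW_map 𝔛 hX.1 p hp S.X₁ S.f, hm]
      exact (qM_map 𝔛 hX (pullSysMap 𝔛 p hp S.f) (j + c) _ x).symm.trans ((congrArg _ hx).trans (map_zero _))
    have h5 := hc (j + c + 1) (by omega) _ h4
    rw [show j + c + 1 - c = j + 1 by omega] at h5
    rw [← hm j]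
    refine ((pW_spec 𝔛 hX.1 p hp S.X₁ hcut hW j).2 _).2 ?_
    rw [show m j = m (j + c) - (m (j + c) - m j) by abel]
    exact sub_mem h5 (sub_mem_of_le _ hd (Nat.le_add_right j c))
  haveI : Epi G := by
    refine epi_of_surjective_basis hB G ?_
    rintro _ ⟨W, hW, rfl⟩
    have hU := isAffineOpen_pU (X := X) 𝔛 p hW
    haveI := (O_spec 𝔛 hX hU).1
    haveI := (O_spec 𝔛 hX hU).2.1
    obtain ⟨hfin, hq⟩ := RM_spec 𝔛 (pullSys 𝔛 p hp S.X₃) hX (isCoh_pullSys 𝔛 p hp S.X₃ h3) hU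
    obtain ⟨-, hq2⟩ := RM_spec 𝔛 M₂ hX (isCoh_pullSys 𝔛 p hp S.X₂ h2) hU
    let T : RM 𝔛 hX.1 M₂ (pU 𝔛 p W) →ₗ[O 𝔛 hX.1 (pU 𝔛 p W)] RM 𝔛 hX.1 (pullSys 𝔛 p hp S.X₃) (pU 𝔛 p W) :=
      (G.val.app (op (pU 𝔛 p W))).hom
    refine LinearMap.range_eq_top.1 (eq_top_of_sup (J 𝔛 hX.1 _) (LinearMap.range T) (eq_top_iff.2 fun y _ => ?_))
    obtain ⟨b, hb⟩ := (pW_spec 𝔛 hX.1 p hp S.X₃ hcut hW 0).1 (qM 𝔛 hX.1 (pullSys 𝔛 p hp S.X₃) 0 _ y)
    obtain ⟨a, rfl⟩ := Groth.L16.AffineBC.surjective_app_of_epi S.g hW b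
    obtain ⟨x, hx⟩ := (hq2 0).1 (pW 𝔛 hX.1 p hp S.X₂ 0 W a)
    refine Submodule.mem_sup.2 ⟨T x, ⟨x, rfl⟩, y - T x, ?_, add_sub_cancel _ _⟩
    have h0 := ((hq 0).2 (y - T x)).1 (by
      rw [map_sub, sub_eq_zero]
      refine hb.symm.trans ?_
      rw [← pW_map 𝔛 hX.1 p hp S.X₂ S.g, ← hx]
      exact (qM_map 𝔛 hX (pullSysMap 𝔛 p hp S.g) 0 _ x).symm)
    rwa [zero_add, pow_one] at h0
  haveI : Epi (kernel.lift G F w) := by
    refine epi_of_surjective_basis hB _ ?_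
    rintro _ ⟨W, hW, rfl⟩ z
    let x : RM 𝔛 hX.1 M₂ (pU 𝔛 p W) := ((kernel.ι G).val.app (op (pU 𝔛 p W))).hom z
    have hx : (G.val.app (op (pU 𝔛 p W))).hom x = 0 := hom_comp_zero (kernel.condition G) _ z
    suffices ∃ y : RM 𝔛 hX.1 M₁ (pU 𝔛 p W), (F.val.app (op (pU 𝔛 p W))).hom y = x by
      obtain ⟨y, hy⟩ := this
      refine ⟨y, (exists_kernel_sect G _).2 ?_⟩
      exact (LinearMap.congr_fun (congrArg (fun t => ((t : M₁.realMod hX.1 ⟶ _).val.app (op (pU 𝔛 p W))).hom)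
        (kernel.lift_ι G F w)) y).trans hy
    clear_value x
    obtain ⟨m, hm, hd⟩ := exists_lifts 𝔛 hX.1 p hp S.X₂ hcut hW x
    obtain ⟨c, hc⟩ := hAR hW
    let gL : Γ(S.X₂, W) →ₗ[Γ(X, W)] Γ(S.X₃, W) :=
      { toFun := fun a => S.g.app W a
        map_add' := fun a b => map_add _ a b
        map_smul' := fun r a => S.g.app_smul r a }
    have ha : ∀ k, ∃ a : Γ(S.X₁, W),
        m k - S.f.app W a ∈ 𝓘.ideal ⟨W, hW⟩ ^ (k + 1) • (⊤ : Submodule Γ(X, W) Γ(S.X₂, W)) := fun k => by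
      have h4 : gL (m k) ∈ (𝓘.ideal ⟨W, hW⟩ ^ (k + 1) • (⊤ : Submodule Γ(X, W) Γ(S.X₂, W))).map gL := by
        have hgs : LinearMap.range gL = ⊤ :=
          LinearMap.range_eq_top.2 (Groth.L16.AffineBC.surjective_app_of_epi S.g hW : Function.Surjective gL)
        rw [Submodule.map_smul'', Submodule.map_top, hgs]
        refine ((pW_spec 𝔛 hX.1 p hp S.X₃ hcut hW k).2 _).1 ?_
        show pW 𝔛 hX.1 p hp S.X₃ k W (S.g.app W (m k)) = 0
        rw [← pW_map 𝔛 hX.1 p hp S.X₂ S.g, hm]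
        exact (qM_map 𝔛 hX (pullSysMap 𝔛 p hp S.g) k _ x).symm.trans ((congrArg _ hx).trans (map_zero _))
      obtain ⟨z, hz, hzm⟩ := h4
      obtain ⟨a, hfa⟩ := hmid W (m k - z) (by
        show gL (m k - z) = 0
        rw [map_sub, hzm, sub_self])
      exact ⟨a, by rwa [hfa, sub_sub_cancel]⟩
    choose a ha using ha
    have hda : ∀ j, a (j + c + 1) - a (j + c) ∈ 𝓘.ideal ⟨W, hW⟩ ^ (j + 1) • (⊤ : Submodule Γ(X, W) Γ(S.X₁, W)) := by
      intro j
      have h4 : S.f.app W (a (j + c + 1) - a (j + c)) ∈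
          𝓘.ideal ⟨W, hW⟩ ^ (j + c + 1) • (⊤ : Submodule Γ(X, W) Γ(S.X₂, W)) := by
        rw [map_sub, show S.f.app W (a (j + c + 1)) - S.f.app W (a (j + c)) =
          (m (j + c + 1) - m (j + c)) - (m (j + c + 1) - S.f.app W (a (j + c + 1))) +
            (m (j + c) - S.f.app W (a (j + c))) by abel]
        exact add_mem (sub_mem (hd (j + c))
          (Submodule.smul_mono (Ideal.pow_le_pow_right (by omega)) le_rfl (ha (j + c + 1)))) (ha (j + c))
      have h5 := hc _ (by omega) _ h4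
      rwa [show j + c + 1 - c = j + 1 by omega] at h5
    obtain ⟨y, hy⟩ := exists_qM 𝔛 hX.1 M₁ (U := pU 𝔛 p W)
      (fun j => pW 𝔛 hX.1 p hp S.X₁ j W (a (j + c))) (fun j => by
      refine (tM_pW 𝔛 hX.1 p hp S.X₁ j W _).trans ?_
      rw [← sub_eq_zero, ← pW_sub, show j + 1 + c = j + c + 1 by omega]
      exact ((pW_spec 𝔛 hX.1 p hp S.X₁ hcut hW j).2 _).2 (hda j))
    refine ⟨y, qM_ext 𝔛 hX.1 M₂ fun j => ?_⟩
    refine (qM_map 𝔛 hX (pullSysMap 𝔛 p hp S.f) j _ y).trans ?_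
    rw [hy j, pW_map]
    refine Eq.trans ?_ (hm j)
    rw [← sub_eq_zero, ← pW_sub]
    refine ((pW_spec 𝔛 hX.1 p hp S.X₂ hcut hW j).2 _).2 ?_
    rw [show S.f.app W (a (j + c)) - m j = (m (j + c) - m j) - (m (j + c) - S.f.app W (a (j + c))) by abel]
    exact sub_mem (sub_mem_of_le _ hd (Nat.le_add_right j c))
      (Submodule.smul_mono (Ideal.pow_le_pow_right (by omega)) le_rfl (ha (j + c)))
  exact { exact := (ShortComplex.exact_iff_epi_kernel_lift (ShortComplex.mk F G w)).2 ‹_›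
          mono_f := ‹Mono F›
          epi_g := ‹Epi G› }

section Completion

/-- Completion is functorial on complexes. -/
theorem realModMap_pullSysMap_comp {Y : Scheme.{u}} (𝔛 : FSch.Sys.{u}) (h : 𝔛.IsFormal) (p : ∀ k, 𝔛.X k ⟶ Y)
  (hp : ∀ k, 𝔛.ι k ≫ p (k + 1) = p k) (S : ShortComplex Y.Modules) :
    FSch.ModSys.realModMap h (pullSysMap 𝔛 p hp S.f) ≫
      FSch.ModSys.realModMap h (pullSysMap 𝔛 p hp S.g) = 0 := by
  have hz : ∀ k, (Scheme.Modules.pullback (p k)).map S.f ≫ (Scheme.Modules.pullback (p k)).map S.g = 0 := fun k => by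
    rw [← Functor.map_comp, S.zero, CategoryTheory.Functor.map_zero]
  refine limit.hom_ext ?_
  rintro ⟨k⟩
  rw [zero_comp]
  have e1 := FSch.realLimMap_realProj 𝔛 h (pullSysMap 𝔛 p hp S.g).app
    (FSch.ModSys.Hom.toPush_comm (pullSysMap 𝔛 p hp S.g)) k
  have e2 := FSch.realLimMap_realProj 𝔛 h (pullSysMap 𝔛 p hp S.f).app
    (FSch.ModSys.Hom.toPush_comm (pullSysMap 𝔛 p hp S.f)) k
  refine (Category.assoc _ _ _).trans ((congrArg _ e1).trans ((Category.assoc _ _ _).symm.trans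
    ((congrArg (fun t => t ≫ _) e2).trans ((Category.assoc _ _ _).trans ?_))))
  refine (congrArg (fun t => _ ≫ t) ((CategoryTheory.Functor.map_comp _ _ _).symm.trans
    ((congrArg (FSch.levelMor 𝔛 h k).push.map (hz k)).trans (CategoryTheory.Functor.map_zero _ _ _)))).trans ?_
  exact comp_zero

variable {Z : Scheme.{u}} (𝓙 : Z.IdealSheafData)

/-- The composite of completed maps of a complex is zero. -/
theorem realModMap_complModMap_comp (h : (FSch.completionAlong Z 𝓙).IsFormal) (S : ShortComplex Z.Modules) :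
    FSch.ModSys.realModMap h (FSch.complModMap 𝓙 S.f) ≫ FSch.ModSys.realModMap h (FSch.complModMap 𝓙 S.g) = 0 := by
  rw [← pullSysMap_completion, ← pullSysMap_completion]
  exact realModMap_pullSysMap_comp _ h _ (FSch.completionToX_comm Z 𝓙) S

/-- Completion of coherent modules is exact. -/
theorem shortExact_complMod [IsLocallyNoetherian Z] (h : (FSch.completionAlong Z 𝓙).IsFormal) (S : ShortComplex Z.Modules)
    (hS : S.ShortExact) (h1 : Coh.IsCoh S.X₁) (h2 : Coh.IsCoh S.X₂) (h3 : Coh.IsCoh S.X₃)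
    (w : FSch.ModSys.realModMap h (FSch.complModMap 𝓙 S.f) ≫ FSch.ModSys.realModMap h (FSch.complModMap 𝓙 S.g) = 0) :
    (ShortComplex.mk _ _ w).ShortExact := by
  haveI : IsClosedImmersion (FSch.completionToX Z 𝓙 0) :=
    inferInstanceAs (IsClosedImmersion (𝓙 ^ (0 + 1)).subschemeι)
  revert w
  rw [← pullSysMap_completion, ← pullSysMap_completion]
  intro w
  exact shortExact_pullSys (FSch.completionAlong Z 𝓙) (Groth.Agent.S3854.result Z 𝓙)
    (FSch.completionToX Z 𝓙) (FSch.completionToX_comm Z 𝓙) (cutBy_completionToX 𝓙) S hS h1 h2 h3 w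

end Completion

end Groth.L17.FSheaf
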