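import Groth.Agent.L17.FSheaf.Sect
import Groth.Agent.L17.BC.Sheaf
import Groth.Agent.L17.BC.PullSec

/-!
# Morphisms of quasi-coherent modules on an affine scheme
-/

set_option autoImplicit false
set_option linter.style.haveILetI false
set_option linter.unusedSectionVars false
set_option backward.isDefEq.respectTransparency false
set_option backward.isDefEq.respectTransparency.types false

universe u

open CategoryTheory CategoryTheory.Limits AlgebraicGeometry TopologicalSpace Opposite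

noncomputable section

namespace Groth.L17.FSheaf

open Groth.L18.Frame (rs ro pull rs_rs rs_self)
open Groth.L17.BC.PullSec (app_rs map_pull)
open Groth.L16.AffineBC (pullRes isBaseChange_pull)
open scoped TensorProduct

variable {X : Scheme.{u}}

/-- A morphism bijective on global sections is bijective on affine opens. -/
theorem bijective_affine_of_top [IsAffine X] {M N : X.Modules} [Coh.IsQCoh M] [Coh.IsQCoh N] (φ : M ⟶ N)
    (hφ : Function.Bijective (φ.app ⊤)) {V : X.Opens} (hV : IsAffineOpen V) :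
    Function.Bijective (φ.app V) := by
  let e : V ≤ (𝟙 X : X ⟶ X) ⁻¹ᵁ ⊤ := le_top
  letI : Algebra Γ(X, ⊤) Γ(X, V) := ((𝟙 X : X ⟶ X).appLE ⊤ V e).hom.toAlgebra
  let P := fun G : X.Modules => (Scheme.Modules.pullback (𝟙 X)).obj G
  letI := Module.compHom Γ(P M, V) ((𝟙 X : X ⟶ X).appLE ⊤ V e).hom
  letI := Module.compHom Γ(P N, V) ((𝟙 X : X ⟶ X).appLE ⊤ V e).hom
  haveI : IsScalarTower Γ(X, ⊤) Γ(X, V) Γ(P M, V) := IsScalarTower.of_algebraMap_smul fun _ _ => rfl
  haveI : IsScalarTower Γ(X, ⊤) Γ(X, V) Γ(P N, V) := IsScalarTower.of_algebraMap_smul fun _ _ => rfl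
  have hM := isBaseChange_pull (𝟙 X) M (isAffineOpen_top X) hV e
  have hN := isBaseChange_pull (𝟙 X) N (isAffineOpen_top X) hV e
  let φl : Γ(M, ⊤) ≃ₗ[Γ(X, ⊤)] Γ(N, ⊤) := LinearEquiv.ofBijective
    { toFun := fun m => φ.app ⊤ m
      map_add' := map_add (φ.app ⊤).hom
      map_smul' := fun a m => Scheme.Modules.Hom.app_smul _ _ _ } hφ
  let ψ : Γ(P M, V) →ₗ[Γ(X, V)] Γ(P N, V) :=
    { toFun := fun m => ((Scheme.Modules.pullback (𝟙 X)).map φ).app V m
      map_add' := map_add (((Scheme.Modules.pullback (𝟙 X)).map φ).app V).hom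
      map_smul' := fun a m => Scheme.Modules.Hom.app_smul _ _ _ }
  let E : Γ(P M, V) ≃ₗ[Γ(X, V)] Γ(P N, V) :=
    hM.equiv.symm ≪≫ₗ (LinearEquiv.baseChange Γ(X, ⊤) Γ(X, V) _ _ φl ≪≫ₗ hN.equiv)
  have hE : ψ = E.toLinearMap := by
    refine hM.algHom_ext _ _ fun m => ?_
    refine Eq.trans ?_ (show _ = E (pullRes (𝟙 X) M e m) from rfl)
    rw [show E (pullRes (𝟙 X) M e m) = pullRes (𝟙 X) N e (φ.app ⊤ m) from ?_]
    · exact (app_rs _ e _).trans (congrArg (rs (P N) e) (map_pull (𝟙 X) φ ⊤ m))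
    · have h1 : hM.equiv.symm (pullRes (𝟙 X) M e m) = (1 : Γ(X, V)) ⊗ₜ[Γ(X, ⊤)] m :=
        hM.equiv.symm_apply_eq.2 ((IsBaseChange.equiv_tmul _ _ _).trans (one_smul _ _)).symm
      refine (congrArg (fun z => hN.equiv (LinearEquiv.baseChange Γ(X, ⊤) Γ(X, V) _ _ φl z)) h1).trans ?_
      exact (IsBaseChange.equiv_tmul _ _ _).trans (one_smul _ _)
  have hb : Function.Bijective (((Scheme.Modules.pullback (𝟙 X)).map φ).app V) :=
    (show ⇑(((Scheme.Modules.pullback (𝟙 X)).map φ).app V) = ⇑E from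
      funext fun m => LinearMap.congr_fun hE m) ▸ E.bijective
  let ε := Scheme.Modules.pullbackId X
  have hnat : ⇑(φ.app V) ∘ ⇑((ε.hom.app M).app V) =
      ⇑((ε.hom.app N).app V) ∘ ⇑(((Scheme.Modules.pullback (𝟙 X)).map φ).app V) := funext fun m =>
    (ConcreteCategory.congr_hom (congrArg (fun t => Scheme.Modules.Hom.app t V) (ε.hom.naturality φ)) m).symm
  haveI : ∀ G : X.Modules, IsIso ((ε.hom.app G).app V) := fun G =>
    (Scheme.Modules.Hom.isIso_iff_isIso_app.1 (inferInstance : IsIso (ε.hom.app G))) V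
  exact (Function.Bijective.of_comp_iff _ (ConcreteCategory.bijective_of_isIso ((ε.hom.app M).app V))).1
    (hnat ▸ (ConcreteCategory.bijective_of_isIso ((ε.hom.app N).app V)).comp hb)

/-- A morphism of quasi-coherent modules on an affine scheme is an isomorphism if it is one on global sections. -/
theorem isIso_of_bijective_top [IsAffine X] {M N : X.Modules} [Coh.IsQCoh M] [Coh.IsQCoh N] (φ : M ⟶ N)
    (hφ : Function.Bijective (φ.app ⊤)) : IsIso φ :=
  Groth.L17.BC.Classes.isIso_of_affine φ fun _ =>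
    ⟨⊤, trivial, fun _ _ hV => bijective_affine_of_top φ hφ hV⟩

end Groth.L17.FSheaf
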