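import Groth.Agent.L17.FSheaf.CompSect
import Groth.Agent.L17.FSheaf.AffineIso
import Groth.Agent.S2291
import Groth.Agent.S3866

/-!
# Coherent systems on a formal spectrum are completed finite modules
-/

set_option autoImplicit false
set_option linter.style.haveILetI false
set_option linter.unusedSectionVars false
set_option backward.isDefEq.respectTransparency false
set_option backward.isDefEq.respectTransparency.types false
set_option maxHeartbeats 400000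

universe u

open CategoryTheory CategoryTheory.Limits AlgebraicGeometry TopologicalSpace Opposite

noncomputable section

namespace Groth.L17.FSheaf

open Groth.L18.Frame (rs ro pull rs_rs rs_self ro_self)
open Groth.L17.BC.PullSec (app_rs map_pull)
open Groth.L16.AffineBC (pullRes isBaseChange_pull)

variable {A : Type u} [CommRing A] (J : Ideal A) (𝔛 : FSch.Sys.{u})
  (p : ∀ k, 𝔛.X k ⟶ Spec (CommRingCat.of A)) (hp : ∀ k, 𝔛.ι k ≫ p (k + 1) = p k)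

/-- The functions on a level. -/
abbrev cA (k : ℕ) : A →+* Γ(𝔛.X k, ⊤) :=
  ((Scheme.ΓSpecIso (CommRingCat.of A)).inv ≫ (p k).appTop).hom

/-- The levels are cut out by the powers of an ideal of the ring. -/
def CutA : Prop :=
  ∀ k, IsClosedImmersion (p k) ∧ Function.Surjective (cA 𝔛 p k) ∧ RingHom.ker (cA 𝔛 p k) = J ^ (k + 1)

variable (𝔐 : FSch.ModSys 𝔛)

/-- The global sections of a level. -/
abbrev lG (k : ℕ) : ModuleCat.{u} A :=
  (moduleSpecΓFunctor (R := CommRingCat.of A)).obj ((Scheme.Modules.pushforward (p k)).obj (𝔐.F k))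

theorem lG_smul (k : ℕ) (a : A) (y : lG 𝔛 p 𝔐 k) :
    (show Γ(𝔐.F k, ⊤) from a • y) = cA 𝔛 p k a • (show Γ(𝔐.F k, ⊤) from y) := by
  refine (Scheme.Modules.smul_Spec_def (M := (Scheme.Modules.pushforward (p k)).obj (𝔐.F k)) a _).trans ?_
  exact congrArg (fun z => (p k).appTop z • (show Γ(𝔐.F k, ⊤) from y)) (ro_self _ _)

theorem pull_smul_top {Y Z : Scheme.{u}} (f : Y ⟶ Z) (G : Z.Modules) (c : Γ(Z, ⊤)) (y : Γ(G, ⊤)) :
    pull f G ⊤ (c • y) = (f.appTop c • (show Γ((Scheme.Modules.pullback f).obj G, ⊤) from pull f G ⊤ y)) :=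
  Scheme.Modules.Hom.app_smul ((Scheme.Modules.pullbackPushforwardAdjunction f).unit.app G) c y

/-- The transition maps on global sections. -/
def lT (k : ℕ) : lG 𝔛 p 𝔐 (k + 1) →ₗ[A] lG 𝔛 p 𝔐 k where
  toFun y := (𝔐.e k).hom.app ⊤ (pull (𝔛.ι k) (𝔐.F (k + 1)) ⊤ (show Γ(𝔐.F (k + 1), ⊤) from y))
  map_add' a b := by
    refine (congrArg ((𝔐.e k).hom.app ⊤) (map_add
      (((Scheme.Modules.pullbackPushforwardAdjunction (𝔛.ι k)).unit.app _).app ⊤).hom _ _)).trans ?_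
    exact map_add ((𝔐.e k).hom.app ⊤).hom _ _
  map_smul' a y := by
    refine (congrArg (fun z => (𝔐.e k).hom.app ⊤ (pull (𝔛.ι k) (𝔐.F (k + 1)) ⊤ z))
      (lG_smul 𝔛 p 𝔐 (k + 1) a y)).trans ?_
    refine (congrArg ((𝔐.e k).hom.app ⊤) (pull_smul_top (𝔛.ι k) _ _ _)).trans ?_
    refine (Scheme.Modules.Hom.app_smul _ _ _).trans ?_
    refine Eq.trans ?_ (lG_smul 𝔛 p 𝔐 k a _).symm
    exact congrArg (fun c : Γ(𝔛.X k, ⊤) => c • (𝔐.e k).hom.app ⊤ _)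
      (congrArg (fun f : 𝔛.X k ⟶ Spec (CommRingCat.of A) =>
        f.appTop ((Scheme.ΓSpecIso (CommRingCat.of A)).inv a)) (hp k))

variable {𝔐} in
theorem app_lT {𝔑 : FSch.ModSys 𝔛} (Φ : 𝔐 ⟶ 𝔑) (k : ℕ) (y : lG 𝔛 p 𝔐 (k + 1)) :
    (Φ.app k).app ⊤ (lT 𝔛 p hp 𝔐 k y) =
      lT 𝔛 p hp 𝔑 k (show Γ(𝔑.F (k + 1), ⊤) from (Φ.app (k + 1)).app ⊤ y) := by
  refine (ConcreteCategory.congr_hom (congrArg (fun t => Scheme.Modules.Hom.app t ⊤) (Φ.comm k).symm)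
    (pull (𝔛.ι k) (𝔐.F (k + 1)) ⊤ (show Γ(𝔐.F (k + 1), ⊤) from y))).trans ?_
  exact congrArg ((𝔑.e k).hom.app ⊤) (map_pull (𝔛.ι k) (Φ.app (k + 1)) ⊤ y)

theorem lT_spec (hA : CutA J 𝔛 p) (h𝔐 : 𝔐.IsCoh) (k : ℕ) :
    Function.Surjective (lT 𝔛 p hp 𝔐 k) ∧
      ∀ y, lT 𝔛 p hp 𝔐 k y = 0 ↔ y ∈ J ^ (k + 1) • (⊤ : Submodule A (lG 𝔛 p 𝔐 (k + 1))) := by
  haveI := (hA k).1
  haveI := (hA (k + 1)).1
  haveI : IsAffine (𝔛.X k) := isAffine_of_isAffineHom (p k)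
  haveI : IsAffine (𝔛.X (k + 1)) := isAffine_of_isAffineHom (p (k + 1))
  haveI := (h𝔐 (k + 1)).1
  let e : (⊤ : (𝔛.X k).Opens) ≤ 𝔛.ι k ⁻¹ᵁ ⊤ := le_top
  let P := (Scheme.Modules.pullback (𝔛.ι k)).obj (𝔐.F (k + 1))
  letI : Algebra Γ(𝔛.X (k + 1), ⊤) Γ(𝔛.X k, ⊤) := ((𝔛.ι k).appLE ⊤ ⊤ e).hom.toAlgebra
  letI := Module.compHom Γ(P, ⊤) ((𝔛.ι k).appLE ⊤ ⊤ e).hom
  haveI : IsScalarTower Γ(𝔛.X (k + 1), ⊤) Γ(𝔛.X k, ⊤) Γ(P, ⊤) := IsScalarTower.of_algebraMap_smul fun _ _ => rfl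
  have hc : ∀ a, algebraMap Γ(𝔛.X (k + 1), ⊤) Γ(𝔛.X k, ⊤) (cA 𝔛 p (k + 1) a) = cA 𝔛 p k a := fun a => by
    show (𝔛.ι k).appLE ⊤ ⊤ e _ = _
    rw [show (𝔛.ι k).appLE ⊤ ⊤ e = (𝔛.ι k).appTop from (Scheme.Hom.app_eq_appLE _).symm]
    exact congrArg (fun f : 𝔛.X k ⟶ Spec (CommRingCat.of A) =>
      f.appTop ((Scheme.ΓSpecIso (CommRingCat.of A)).inv a)) (hp k)
  have hsur : Function.Surjective (algebraMap Γ(𝔛.X (k + 1), ⊤) Γ(𝔛.X k, ⊤)) := fun z => by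
    obtain ⟨a, ha⟩ := (hA k).2.1 z
    exact ⟨cA 𝔛 p (k + 1) a, (hc a).trans ha⟩
  have hkr : RingHom.ker (algebraMap Γ(𝔛.X (k + 1), ⊤) Γ(𝔛.X k, ⊤)) = (J ^ (k + 1)).map (cA 𝔛 p (k + 1)) := by
    rw [← (hA k).2.2]
    refine le_antisymm (fun z hz => ?_) (Ideal.map_le_iff_le_comap.2 fun a ha => ?_)
    · obtain ⟨a, rfl⟩ := (hA (k + 1)).2.1 z
      exact Ideal.mem_map_of_mem _ ((hc a).symm.trans hz)
    · exact (hc a).trans ha
  obtain ⟨hs, hk⟩ := surjective_of_baseChange _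
    (isBaseChange_pull (𝔛.ι k) (𝔐.F (k + 1)) (isAffineOpen_top _) (isAffineOpen_top _) e) hsur
  have hres : ∀ y, pullRes (𝔛.ι k) (𝔐.F (k + 1)) e y = pull (𝔛.ι k) (𝔐.F (k + 1)) ⊤ y := fun y => rs_self _ _ _
  have hbij := ConcreteCategory.bijective_of_isIso (C := Ab.{u})
    ((𝔐.e k).hom.app (⊤ : (𝔛.X k).Opens))
  refine ⟨fun z => ?_, fun y => ?_⟩
  · obtain ⟨w, hw⟩ := hbij.2 z
    obtain ⟨y, rfl⟩ := hs w
    exact ⟨y, (congrArg ((𝔐.e k).hom.app ⊤) (hres y).symm).trans hw⟩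
  · letI : Module Γ(𝔛.X (k + 1), ⊤) (lG 𝔛 p 𝔐 (k + 1)) :=
      inferInstanceAs (Module Γ(𝔛.X (k + 1), ⊤) Γ(𝔐.F (k + 1), ⊤))
    refine Iff.trans ?_ (mem_map_smul_top_iff (cA 𝔛 p (k + 1)) (hA (k + 1)).2.1 (lG_smul 𝔛 p 𝔐 (k + 1))
      (J ^ (k + 1)) y).symm
    rw [← hkr]
    refine Iff.trans ?_ (Iff.of_eq (congrArg (fun S : Submodule Γ(𝔛.X (k + 1), ⊤) Γ(𝔐.F (k + 1), ⊤) =>
      (show Γ(𝔐.F (k + 1), ⊤) from y) ∈ S) hk))
    constructor
    · intro hy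
      refine LinearMap.mem_ker.2 ((hres _).trans ?_)
      exact hbij.1 (hy.trans (map_zero ((𝔐.e k).hom.app (⊤ : (𝔛.X k).Opens)).hom).symm)
    · intro hy
      exact (congrArg ((𝔐.e k).hom.app ⊤) ((hres _).symm.trans (LinearMap.mem_ker.1 hy))).trans (map_zero _)

variable (M : ModuleCat.{u} A)

/-- The system of a module. -/
abbrev mSys : FSch.ModSys 𝔛 := pullSys 𝔛 p hp (tilde (R := CommRingCat.of A) M)

/-- The image of an element on a level. -/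
def qA (k : ℕ) : M →ₗ[A] lG 𝔛 p (mSys 𝔛 p hp M) k :=
  ((tilde.adjunction (R := CommRingCat.of A)).homEquiv M _ ((Scheme.Modules.pullbackPushforwardAdjunction (p k)).unit.app (tilde (R := CommRingCat.of A) M))).hom

theorem qA_eq (k : ℕ) (x : M) :
    (show Γ((mSys 𝔛 p hp M).F k, ⊤) from qA 𝔛 p hp M k x) =
      pull (p k) (tilde (R := CommRingCat.of A) M) ⊤ (show Γ(tilde (R := CommRingCat.of A) M, ⊤) from tilde.toOpen (R := CommRingCat.of A) M ⊤ x) := rfl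

theorem qA_spec (hA : CutA J 𝔛 p) (k : ℕ) :
    Function.Surjective (qA 𝔛 p hp M k) ∧
      ∀ x, qA 𝔛 p hp M k x = 0 ↔ x ∈ J ^ (k + 1) • (⊤ : Submodule A M) := by
  haveI := (hA k).1
  haveI : IsAffine (𝔛.X k) := isAffine_of_isAffineHom (p k)
  let X := Spec (CommRingCat.of A)
  let σ : A →+* Γ(X, ⊤) := (Scheme.ΓSpecIso (CommRingCat.of A)).inv.hom
  have hσ : Function.Surjective σ :=
    (Scheme.ΓSpecIso (CommRingCat.of A)).symm.commRingCatIsoToRingEquiv.surjective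
  let e : (⊤ : (𝔛.X k).Opens) ≤ p k ⁻¹ᵁ ⊤ := le_top
  let P := (Scheme.Modules.pullback (p k)).obj (tilde (R := CommRingCat.of A) M)
  letI : Algebra Γ(X, ⊤) Γ(𝔛.X k, ⊤) := ((p k).appLE ⊤ ⊤ e).hom.toAlgebra
  letI := Module.compHom Γ(P, ⊤) ((p k).appLE ⊤ ⊤ e).hom
  haveI : IsScalarTower Γ(X, ⊤) Γ(𝔛.X k, ⊤) Γ(P, ⊤) := IsScalarTower.of_algebraMap_smul fun _ _ => rfl
  have hc : ∀ a, algebraMap Γ(X, ⊤) Γ(𝔛.X k, ⊤) (σ a) = cA 𝔛 p k a := fun a => by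
    show (p k).appLE ⊤ ⊤ e _ = _
    rw [show (p k).appLE ⊤ ⊤ e = (p k).appTop from (Scheme.Hom.app_eq_appLE _).symm]
    rfl
  have hsur : Function.Surjective (algebraMap Γ(X, ⊤) Γ(𝔛.X k, ⊤)) := fun z => by
    obtain ⟨a, ha⟩ := (hA k).2.1 z
    exact ⟨σ a, (hc a).trans ha⟩
  have hkr : RingHom.ker (algebraMap Γ(X, ⊤) Γ(𝔛.X k, ⊤)) = (J ^ (k + 1)).map σ := by
    rw [← (hA k).2.2]
    refine le_antisymm (fun z hz => ?_) (Ideal.map_le_iff_le_comap.2 fun a ha => ?_)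
    · obtain ⟨a, rfl⟩ := hσ z
      exact Ideal.mem_map_of_mem _ ((hc a).symm.trans hz)
    · exact (hc a).trans ha
  obtain ⟨hs, hk⟩ := surjective_of_baseChange _
    (isBaseChange_pull (p k) (tilde (R := CommRingCat.of A) M) (isAffineOpen_top _) (isAffineOpen_top _) e) hsur
  let t : M → Γ(tilde (R := CommRingCat.of A) M, ⊤) := fun x => tilde.toOpen (R := CommRingCat.of A) M ⊤ x
  have ht : Function.Bijective t :=
    ConcreteCategory.bijective_of_isIso (tilde.isoTop (R := CommRingCat.of A) M).hom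
  have hlin : ∀ a x, t (a • x) = σ a • t x := fun a x => by
    refine ((tilde.toOpen (R := CommRingCat.of A) M ⊤).hom.map_smul _ _).trans ?_
    refine (Scheme.Modules.smul_Spec_def (M := tilde (R := CommRingCat.of A) M) a _).trans ?_
    exact congrArg (· • t x) (ro_self _ _)
  have hres : ∀ x, (show Γ(P, ⊤) from pullRes (p k) (tilde (R := CommRingCat.of A) M) e (t x)) =
      (show Γ(P, ⊤) from qA 𝔛 p hp M k x) := fun x => rs_self P e _
  refine ⟨fun z => ?_, fun x => ?_⟩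
  · obtain ⟨m, hm⟩ := hs z
    obtain ⟨x, rfl⟩ := ht.2 m
    exact ⟨x, (hres x).symm.trans hm⟩
  · have h0 : qA 𝔛 p hp M k x = 0 ↔ t x ∈ (J ^ (k + 1)).map σ • (⊤ : Submodule Γ(X, ⊤) Γ(tilde (R := CommRingCat.of A) M, ⊤)) := by
      rw [← hkr, ← hk, LinearMap.mem_ker]
      exact ⟨fun hx => (hres x).trans hx, fun hx => (hres x).symm.trans hx⟩
    rw [h0]
    constructor
    · intro hx
      have : ∃ y ∈ J ^ (k + 1) • (⊤ : Submodule A M), t y = t x := by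
        refine Submodule.smul_induction_on hx (fun c hc' m _ => ?_) ?_
        · obtain ⟨a, ha, rfl⟩ := (Ideal.mem_map_iff_of_surjective σ hσ).1 hc'
          obtain ⟨y, rfl⟩ := ht.2 m
          exact ⟨a • y, Submodule.smul_mem_smul ha trivial, hlin a y⟩
        · rintro _ _ ⟨y, hy, rfl⟩ ⟨y', hy', rfl⟩
          exact ⟨y + y', add_mem hy hy', map_add (tilde.toOpen (R := CommRingCat.of A) M ⊤).hom y y'⟩
      obtain ⟨y, hy, hyx⟩ := this
      exact ht.1 hyx ▸ hy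
    · intro hx
      refine Submodule.smul_induction_on hx (fun a ha y _ => ?_) fun y y' hy hy' => ?_
      · rw [hlin]
        exact Submodule.smul_mem_smul (Ideal.mem_map_of_mem σ ha) trivial
      · rw [show t (y + y') = t y + t y' from map_add (tilde.toOpen (R := CommRingCat.of A) M ⊤).hom y y']
        exact add_mem hy hy'

theorem lT_qA (k : ℕ) (x : M) : lT 𝔛 p hp (mSys 𝔛 p hp M) k (qA 𝔛 p hp M (k + 1) x) = qA 𝔛 p hp M k x := by
  have h := pullTrans_app (𝔛.ι k) (p (k + 1)) (hp k) (tilde (R := CommRingCat.of A) M) ⊤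
    (show Γ(tilde (R := CommRingCat.of A) M, ⊤) from tilde.toOpen (R := CommRingCat.of A) M ⊤ x) (U := (⊤ : (𝔛.X (k + 1)).Opens))
    (V := (⊤ : (𝔛.X k).Opens)) le_top le_top le_top
  rw [rs_self, rs_self, rs_self] at h
  exact h

/-- Morphisms out of the inverse image of the sheaf of a module. -/
theorem hom_ext_qA {k : ℕ} {T : (𝔛.X k).Modules} (α β : (mSys 𝔛 p hp M).F k ⟶ T)
    (h : ∀ x, α.app ⊤ (qA 𝔛 p hp M k x) = β.app ⊤ (qA 𝔛 p hp M k x)) : α = β := by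
  refine ((Scheme.Modules.pullbackPushforwardAdjunction (p k)).homEquiv _ _).injective ?_
  refine ((tilde.adjunction (R := CommRingCat.of A)).homEquiv _ _).injective ?_
  apply ModuleCat.hom_ext
  apply LinearMap.ext
  intro x
  exact h x

theorem exists_hom_of_compat (π : ∀ k, M →ₗ[A] lG 𝔛 p 𝔐 k)
    (hπ : ∀ k x, lT 𝔛 p hp 𝔐 k (π (k + 1) x) = π k x) :
    ∃ Φ : mSys 𝔛 p hp M ⟶ 𝔐, ∀ k x,
      (Φ.app k).app ⊤ (qA 𝔛 p hp M k x) = (show Γ(𝔐.F k, ⊤) from π k x) := by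
  let a : ∀ k, (mSys 𝔛 p hp M).F k ⟶ 𝔐.F k := fun k =>
    ((Scheme.Modules.pullbackPushforwardAdjunction (p k)).homEquiv _ _).symm
      (((tilde.adjunction (R := CommRingCat.of A)).homEquiv _ _).symm (ConcreteCategory.ofHom (X := M) (Y := lG 𝔛 p 𝔐 k) (π k)))
  have ha : ∀ k x, (a k).app ⊤ (qA 𝔛 p hp M k x) = (show Γ(𝔐.F k, ⊤) from π k x) := fun k x => by
    have h1 : (tilde.adjunction (R := CommRingCat.of A)).homEquiv M _
        ((Scheme.Modules.pullbackPushforwardAdjunction (p k)).homEquiv _ _ (a k)) =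
          (ConcreteCategory.ofHom (X := M) (Y := lG 𝔛 p 𝔐 k) (π k)) := by
      refine (congrArg _ (Equiv.apply_symm_apply _ _)).trans ?_
      exact Equiv.apply_symm_apply _ _
    exact LinearMap.congr_fun (congrArg ModuleCat.Hom.hom h1) x
  refine ⟨⟨a, fun k => ?_⟩, ha⟩
  refine (cancel_epi ((mSys 𝔛 p hp M).e k).inv).1 ?_
  rw [Iso.inv_hom_id_assoc]
  refine hom_ext_qA 𝔛 p hp M _ _ fun x => ?_
  have hinv : ((mSys 𝔛 p hp M).e k).inv.app ⊤ (qA 𝔛 p hp M k x) =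
      pull (𝔛.ι k) ((mSys 𝔛 p hp M).F (k + 1)) ⊤ (qA 𝔛 p hp M (k + 1) x) := by
    rw [← lT_qA 𝔛 p hp M k x]
    exact ConcreteCategory.congr_hom
      (congrArg (fun t => Scheme.Modules.Hom.app t ⊤) ((mSys 𝔛 p hp M).e k).hom_inv_id) _
  refine Eq.trans ?_ (ha k x).symm
  show (𝔐.e k).hom.app ⊤ (((Scheme.Modules.pullback (𝔛.ι k)).map (a (k + 1))).app ⊤
    (((mSys 𝔛 p hp M).e k).inv.app ⊤ (qA 𝔛 p hp M k x))) = _
  rw [hinv]
  refine (congrArg ((𝔐.e k).hom.app ⊤) (map_pull (𝔛.ι k) (a (k + 1)) ⊤ _)).trans ?_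
  refine (congrArg (fun z => (𝔐.e k).hom.app ⊤ (pull (𝔛.ι k) (𝔐.F (k + 1)) ⊤ z)) (ha (k + 1) x)).trans ?_
  exact hπ k x

theorem pullSysMap_qA {N : ModuleCat.{u} A} (u : M ⟶ N) (k : ℕ) (x : M) :
    ((pullSysMap 𝔛 p hp ((tilde.functor (CommRingCat.of A)).map u)).app k).app ⊤
        (show Γ((mSys 𝔛 p hp M).F k, ⊤) from qA 𝔛 p hp M k x) =
      (show Γ((mSys 𝔛 p hp N).F k, ⊤) from qA 𝔛 p hp N k (u.hom x)) := by
  have h1 : (tilde.map (R := CommRingCat.of A) u).app ⊤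
      (show Γ(tilde (R := CommRingCat.of A) M, ⊤) from tilde.toOpen (R := CommRingCat.of A) M ⊤ x) =
      (show Γ(tilde (R := CommRingCat.of A) N, ⊤) from tilde.toOpen (R := CommRingCat.of A) N ⊤ (u.hom x)) :=
    LinearMap.congr_fun (congrArg ModuleCat.Hom.hom (tilde.toOpen_map_app (R := CommRingCat.of A) u ⊤)) x
  rw [qA_eq, qA_eq]
  refine (map_pull (p k) (tilde.map (R := CommRingCat.of A) u) ⊤
    (show Γ(tilde (R := CommRingCat.of A) M, ⊤) from tilde.toOpen (R := CommRingCat.of A) M ⊤ x)).trans ?_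
  exact congrArg (pull (p k) (tilde (R := CommRingCat.of A) N) ⊤) h1

variable [IsNoetherianRing A] [IsAdicComplete J A]

include J in
theorem eq_of_qA (hA : CutA J 𝔛 p) (N : ModuleCat.{u} A) [Module.Finite A N] {a b : N}
    (h : ∀ k, qA 𝔛 p hp N k a = qA 𝔛 p hp N k b) : a = b := by
  haveI := Groth.Agent.S3866.result A J N
  refine sub_eq_zero.1 (IsHausdorff.haus (I := J) inferInstance _ fun n => ?_)
  rw [SModEq.zero]
  rcases n with _ | n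
  · rw [pow_zero, Ideal.one_eq_top, Submodule.top_smul]
    trivial
  · exact ((qA_spec J 𝔛 p hp N hA n).2 _).1 (by rw [map_sub, h n, sub_self])

include J in
/-- Completion is fully faithful on finite modules. -/
theorem pullSysMap_bijective (hA : CutA J 𝔛 p) (N : ModuleCat.{u} A) [Module.Finite A N] :
    Function.Bijective fun u : M ⟶ N => pullSysMap 𝔛 p hp ((tilde.functor (CommRingCat.of A)).map u) := by
  refine ⟨fun u v huv => ?_, fun Φ => ?_⟩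
  · ext x
    refine eq_of_qA J 𝔛 p hp hA N fun k => ?_
    refine Eq.trans (pullSysMap_qA 𝔛 p hp M u k x).symm (Eq.trans ?_ (pullSysMap_qA 𝔛 p hp M v k x))
    exact congrArg (fun t : mSys 𝔛 p hp M ⟶ mSys 𝔛 p hp N => (t.app k).app ⊤ (qA 𝔛 p hp M k x)) huv
  haveI := Groth.Agent.S3866.result A J N
  let π : ∀ k, M → lG 𝔛 p (mSys 𝔛 p hp N) k := fun k x =>
    (show Γ((mSys 𝔛 p hp N).F k, ⊤) from (Φ.app k).app ⊤ (qA 𝔛 p hp M k x))
  have hπT : ∀ k x, lT 𝔛 p hp (mSys 𝔛 p hp N) k (π (k + 1) x) = π k x := fun k x => by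
    refine (app_lT 𝔛 p hp Φ k (qA 𝔛 p hp M (k + 1) x)).symm.trans ?_
    exact congrArg ((Φ.app k).app ⊤) (lT_qA 𝔛 p hp M k x)
  have hex : ∀ x, ∃ n : N, ∀ k, qA 𝔛 p hp N k n = π k x := by
    intro x
    choose n hn using fun k => (qA_spec J 𝔛 p hp N hA k).1 (π k x)
    have hstep : ∀ k, qA 𝔛 p hp N k (n (k + 1)) = qA 𝔛 p hp N k (n k) := fun k => by
      rw [← lT_qA, hn, hπT, hn]
    have hcau : ∀ {i j : ℕ}, i ≤ j → n i ≡ n j [SMOD (J ^ i • ⊤ : Submodule A N)] := by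
      intro i j hij
      rw [SModEq.sub_mem]
      induction j, hij using Nat.le_induction with
      | base => rw [sub_self]; exact zero_mem _
      | succ j hij ih =>
        rw [← sub_sub_sub_cancel_right (n i) (n (j + 1)) (n j)]
        refine sub_mem ih ?_
        refine Submodule.smul_mono_left (Ideal.pow_le_pow_right (show i ≤ j + 1 by omega)) ?_
        exact ((qA_spec J 𝔛 p hp N hA j).2 _).1 (by rw [map_sub, hstep j, sub_self])
    obtain ⟨L, hL⟩ := IsPrecomplete.prec (I := J) (M := N) inferInstance (f := n) hcau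
    refine ⟨L, fun k => ?_⟩
    rw [← hn k, ← hstep k]
    refine sub_eq_zero.1 ?_
    rw [← map_sub, (qA_spec J 𝔛 p hp N hA k).2, ← Submodule.neg_mem_iff, neg_sub]
    exact SModEq.sub_mem.1 (hL (k + 1))
  choose f hf using hex
  have hlin : ∀ k, ∀ x y : M, π k (x + y) = π k x + π k y := fun k x y => by
    show (Φ.app k).app ⊤ (qA 𝔛 p hp M k (x + y)) = _
    rw [map_add]
    exact map_add ((Φ.app k).app ⊤).hom _ _
  have hsm : ∀ k (a : A) (x : M), π k (a • x) = a • π k x := fun k a x => by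
    refine Eq.trans ?_ (lG_smul 𝔛 p (mSys 𝔛 p hp N) k a (π k x)).symm
    show (Φ.app k).app ⊤ (qA 𝔛 p hp M k (a • x)) = _
    rw [map_smul]
    refine (congrArg ((Φ.app k).app ⊤) (lG_smul 𝔛 p (mSys 𝔛 p hp M) k a _)).trans ?_
    exact Scheme.Modules.Hom.app_smul _ _ _
  refine ⟨ModuleCat.ofHom
    { toFun := f
      map_add' := fun x y => eq_of_qA J 𝔛 p hp hA N fun k => by rw [map_add, hf, hf, hf, hlin]
      map_smul' := fun a x => eq_of_qA J 𝔛 p hp hA N fun k => by rw [map_smul, hf, hsm, RingHom.id_apply, hf] },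
    FSch.ModSys.Hom.ext (funext fun k => hom_ext_qA 𝔛 p hp M _ _ fun x => ?_)⟩
  refine (pullSysMap_qA 𝔛 p hp M _ k x).trans ?_
  exact hf x k

include J in
/-- Coherent systems are completions of finite modules. -/
theorem exists_iso_mSys (hA : CutA J 𝔛 p) (h𝔐 : 𝔐.IsCoh) :
    ∃ L : ModuleCat.{u} A, Module.Finite A L ∧ Nonempty (𝔐 ≅ mSys 𝔛 p hp L) := by
  let L₀ : Submodule A (∀ k, lG 𝔛 p 𝔐 k) :=
    ⨅ k, LinearMap.eqLocus ((lT 𝔛 p hp 𝔐 k).comp (LinearMap.proj (k + 1))) (LinearMap.proj k)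
  let π : ∀ k, L₀ →ₗ[A] lG 𝔛 p 𝔐 k := fun k => (LinearMap.proj k).comp L₀.subtype
  have hmem : ∀ (x : L₀) k, lT 𝔛 p hp 𝔐 k (π (k + 1) x) = π k x := fun x k =>
    (Submodule.mem_iInf _).1 x.2 k
  obtain ⟨-, hπ, hfin⟩ := Groth.Agent.S2291.result A J (IsNoetherian.noetherian J)
    (fun k => lG 𝔛 p 𝔐 k) (lT 𝔛 p hp 𝔐) (fun k => (lT_spec J 𝔛 p hp 𝔐 hA h𝔐 k).1)
    (fun k => Submodule.ext fun x => LinearMap.mem_ker.trans ((lT_spec J 𝔛 p hp 𝔐 hA h𝔐 k).2 x))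
    L₀ π (fun k => LinearMap.ext fun x => hmem x k)
    (fun x hx => Subtype.ext (funext hx))
    (fun y hy => ⟨⟨y, (Submodule.mem_iInf _).2 hy⟩, fun _ => rfl⟩)
  have h0 : Module.Finite A (lG 𝔛 p 𝔐 0) := by
    haveI := (hA 0).1
    haveI : IsAffine (𝔛.X 0) := isAffine_of_isAffineHom (p 0)
    haveI := Groth.L20.ModStalk.finite_sections _ (h𝔐 0) (isAffineOpen_top (𝔛.X 0))
    obtain ⟨n, g, hg⟩ := Module.Finite.exists_fin (R := Γ(𝔛.X 0, ⊤)) (M := Γ(𝔐.F 0, ⊤))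
    refine ⟨Submodule.fg_def.2 ⟨Set.range g, Set.finite_range _, eq_top_iff.2 fun x _ => ?_⟩⟩
    obtain ⟨c, hc⟩ := (Submodule.mem_span_range_iff_exists_fun _).1 (hg ▸ Submodule.mem_top :
      (show Γ(𝔐.F 0, ⊤) from x) ∈ Submodule.span _ (Set.range g))
    choose b hb using fun i => (hA 0).2.1 (c i)
    refine (Submodule.mem_span_range_iff_exists_fun _).2 ⟨b, Eq.trans (Finset.sum_congr rfl fun i _ => ?_) hc⟩
    rw [← hb i]
    exact lG_smul 𝔛 p 𝔐 0 _ _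
  haveI : Module.Finite A L₀ := hfin inferInstance h0
  refine ⟨ModuleCat.of A L₀, inferInstance, ?_⟩
  obtain ⟨Φ, hΦ⟩ := exists_hom_of_compat 𝔛 p hp 𝔐 (ModuleCat.of A L₀) π fun k x => hmem x k
  haveI : ∀ k, IsIso (Φ.app k) := fun k => by
    haveI := (hA k).1
    haveI : IsAffine (𝔛.X k) := isAffine_of_isAffineHom (p k)
    haveI := (h𝔐 k).1
    haveI : Coh.IsQCoh ((mSys 𝔛 p hp (ModuleCat.of A L₀)).F k) :=
      Groth.L16.AffineBC.isQCoh_pullback (p k) _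
    have hq := qA_spec J 𝔛 p hp (ModuleCat.of A L₀) hA k
    refine isIso_of_bijective_top (Φ.app k) ⟨fun a b hab => ?_, fun z => ?_⟩
    · obtain ⟨x, rfl⟩ := hq.1 a
      obtain ⟨y, rfl⟩ := hq.1 b
      rw [hΦ, hΦ] at hab
      refine sub_eq_zero.1 (Eq.trans (map_sub (qA 𝔛 p hp (ModuleCat.of A L₀) k) x y).symm ?_)
      refine (hq.2 _).2 ?_
      exact (hπ k).2 ▸ LinearMap.mem_ker.2 ((map_sub (π k) x y).trans (sub_eq_zero.2 hab))
    · obtain ⟨x, rfl⟩ := (hπ k).1 z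
      exact ⟨_, hΦ k x⟩
  refine ⟨Iso.symm ⟨Φ, ⟨fun k => inv (Φ.app k), fun k => ?_⟩,
    FSch.ModSys.Hom.ext (funext fun k => IsIso.hom_inv_id (Φ.app k)),
    FSch.ModSys.Hom.ext (funext fun k => IsIso.inv_hom_id (Φ.app k))⟩⟩
  rw [CategoryTheory.Functor.map_inv, IsIso.inv_comp_eq, ← Category.assoc, Φ.comm k, Category.assoc,
    IsIso.hom_inv_id]
  exact (Category.comp_id _).symm

end Groth.L17.FSheaf
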