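import Groth.Agent.L17.FSheaf.Osh
import Groth.Agent.L17.ThickSys

/-!
# Formal systems induced on opens
-/

set_option autoImplicit false
set_option linter.style.haveILetI false
set_option backward.isDefEq.respectTransparency false
set_option backward.isDefEq.respectTransparency.types false

universe u

open CategoryTheory CategoryTheory.Limits AlgebraicGeometry TopologicalSpace Opposite

noncomputable section

namespace Groth.L17.FSheaf

theorem isPullback_resLE {X Y : Scheme.{u}} (f : X ⟶ Y) {U : Y.Opens} {V : X.Opens} (e : V = f ⁻¹ᵁ U) :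
    IsPullback (f.resLE U V e.le) V.ι U.ι f := by
  subst e
  rw [Scheme.Hom.resLE_eq_morphismRestrict]
  exact isPullback_morphismRestrict f U

variable (𝔛 : FSch.Sys.{u}) (h : 𝔛.IsFormal) (U : (𝔛.X 0).Opens)

theorem isAdicHom_restrictOpenι : FSch.IsAdicHom (𝔛.restrictOpenι h U) := fun n =>
  isPullback_resLE (𝔛.ι n) (𝔛.lvU_succ h n U).symm

theorem isFormal_restrictOpen : (𝔛.restrictOpen h U).IsFormal :=
  Groth.L17.Thick.isFormal_of_isAdicHom _ h (isAdicHom_restrictOpenι 𝔛 h U)

theorem isLocNoethFormal_restrictOpen (hN : 𝔛.IsLocNoethFormal) : (𝔛.restrictOpen h U).IsLocNoethFormal := by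
  haveI := hN.2.2 0
  haveI : IsLocallyNoetherian ((𝔛.restrictOpen h U).X 0) :=
    isLocallyNoetherian_of_isOpenImmersion (𝔛.lvU h 0 U).ι
  exact Groth.L17.Thick.isLocNoethFormal_of_isAdicHom _ hN (isAdicHom_restrictOpenι 𝔛 h U)

theorem compactSpace_restrictOpen (hN : 𝔛.IsLocNoethFormal) [CompactSpace (𝔛.X 0)] :
    CompactSpace ((𝔛.restrictOpen h U).X 0) := by
  haveI := hN.2.2 0
  haveI : AlgebraicGeometry.IsNoetherian (𝔛.X 0) := AlgebraicGeometry.IsNoetherian.mk
  exact isCompact_iff_compactSpace.1 (NoetherianSpace.isCompact (𝔛.lvU h 0 U : Set (𝔛.X 0)))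

end Groth.L17.FSheaf
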