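import Groth.Agent.L17.FSheaf.LevelIdeal
import Groth.Agent.L17.FSheaf.RestrictOpen
import Mathlib.RingTheory.Flat.EquationalCriterion
import Mathlib.RingTheory.Filtration
import Mathlib.AlgebraicGeometry.Morphisms.Flat

/-!
# The structure sheaf of a locally Noetherian formal scheme is coherent
-/

set_option autoImplicit false
set_option linter.style.haveILetI false
set_option linter.unusedSectionVars false
set_option backward.isDefEq.respectTransparency false
set_option backward.isDefEq.respectTransparency.types false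

universe u

open CategoryTheory CategoryTheory.Limits AlgebraicGeometry TopologicalSpace Opposite

noncomputable section

namespace Groth.L17.FSheaf

open Groth.L18.Frame (rs ro)

section Free

variable {Y : TopCat.{u}} {R : Sheaf (Opens.grothendieckTopology Y) RingCat.{u}} {I : Type u} [Fintype I]

/-- The standard sections of a free module. -/
def e₀ (I : Type u) (i : I) (W : (Opens Y)ᵒᵖ) : (SheafOfModules.free (R := R) I).val.obj W :=
  ((SheafOfModules.ιFree i).val.app W).hom (1 : R.obj.obj W)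

theorem e₀_map (i : I) {W W' : (Opens Y)ᵒᵖ} (f : W ⟶ W') :
    (SheafOfModules.free (R := R) I).val.map f (e₀ I i W) = e₀ I i W' := by
  refine (PresheafOfModules.naturality_apply (SheafOfModules.ιFree i).val f _).symm.trans ?_
  exact congrArg ((SheafOfModules.ιFree i).val.app W').hom (map_one (R.obj.map f).hom)

/-- Sections of finite free modules are combinations of the standard ones. -/
theorem exists_coeff₀ (W : (Opens Y)ᵒᵖ) (z : (SheafOfModules.free (R := R) I).val.obj W) :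
    ∃ a : I → R.obj.obj W, z = ∑ i, a i • e₀ I i W := by
  classical
  let F : SheafOfModules.{u} R := SheafOfModules.free I
  let p : I → (F ⟶ SheafOfModules.unit R) := fun i =>
    Cofan.IsColimit.desc (SheafOfModules.isColimitFreeCofan I) fun j => if j = i then 𝟙 _ else 0
  have hp : (∑ i, p i ≫ SheafOfModules.ιFree i) = 𝟙 F := by
    refine Cofan.IsColimit.hom_ext (SheafOfModules.isColimitFreeCofan I) _ _ fun j => ?_
    rw [Preadditive.comp_sum, Finset.sum_eq_single j]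
    · rw [← Category.assoc, Cofan.IsColimit.fac, if_pos rfl, Category.id_comp]
      exact (Category.comp_id _).symm
    · intro i _ hij
      rw [← Category.assoc, Cofan.IsColimit.fac, if_neg (Ne.symm hij), zero_comp]
    · exact fun h => absurd (Finset.mem_univ j) h
  refine ⟨fun i => ((p i).val.app W).hom z, ?_⟩
  let φ : (F ⟶ F) →+ F.val.obj W :=
    { toFun := fun f => (f.val.app W).hom z
      map_zero' := rfl
      map_add' := fun _ _ => rfl }
  have hz : z = ∑ i, φ (p i ≫ SheafOfModules.ιFree i) := by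
    rw [← map_sum, hp]; rfl
  refine hz.trans (Finset.sum_congr rfl fun i _ => ?_)
  refine Eq.trans ?_ (map_smul ((SheafOfModules.ιFree i).val.app W).hom _ _)
  show ((SheafOfModules.ιFree i).val.app W).hom (((p i).val.app W).hom z) = _
  let a : R.obj.obj W := ((p i).val.app W).hom z
  exact congrArg _ (mul_one a).symm

end Free

theorem exists_coeff_of_mem_smul_span {R : Type u} [CommRing R] {M : Type u} [AddCommGroup M] [Module R M] {n : ℕ}
    (g : Fin n → M) (I : Ideal R) {x : M} (hx : x ∈ I • Submodule.span R (Set.range g)) :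
    ∃ a : Fin n → R, (∀ i, a i ∈ I) ∧ ∑ i, a i • g i = x := by
  refine Submodule.smul_induction_on hx (fun r hr y hy => ?_) (fun a b ha hb => ?_)
  · obtain ⟨c, rfl⟩ := (Submodule.mem_span_range_iff_exists_fun R).1 hy
    exact ⟨fun i => r * c i, fun i => I.mul_mem_right _ hr, by simp [Finset.smul_sum, mul_smul]⟩
  · obtain ⟨a, ha, rfl⟩ := ha
    obtain ⟨b, hb, rfl⟩ := hb
    exact ⟨a + b, fun i => add_mem (ha i) (hb i), by simp [add_smul, Finset.sum_add_distrib]⟩

variable (𝔛 : FSch.Sys.{u}) (hX : 𝔛.IsLocNoethFormal)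

/-- Linear relations of functions restrict. -/
theorem rel_restrict {U V : (𝔛.X 0).Opens} (hU : IsAffineOpen U) (hV : IsAffineOpen V) (hVU : V ≤ U)
    {n m : ℕ} (f : Fin n → O 𝔛 hX.1 U) (r : Fin m → Fin n → O 𝔛 hX.1 U)
    (hrel : ∀ c : Fin n → O 𝔛 hX.1 U, ∑ i, c i * f i = 0 →
      ∃ d : Fin m → O 𝔛 hX.1 U, ∀ i, c i = ∑ j, d j * r j i)
    (a : Fin n → O 𝔛 hX.1 V) (ha : ∑ i, a i * resO 𝔛 hX.1 hVU (f i) = 0) :
    ∃ d : Fin m → O 𝔛 hX.1 V, ∀ i, a i = ∑ j, d j * resO 𝔛 hX.1 hVU (r j i) := by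
  classical
  haveI := (O_spec 𝔛 hX hU).1
  haveI := (O_spec 𝔛 hX hV).1
  haveI := (O_spec 𝔛 hX hV).2.1
  obtain ⟨c, hc⟩ := Ideal.exists_pow_inf_eq_pow_smul (J 𝔛 hX.1 U) (Submodule.span (O 𝔛 hX.1 U) (Set.range f))
  let P : Submodule (O 𝔛 hX.1 V) (Fin n → O 𝔛 hX.1 V) :=
    Submodule.span (O 𝔛 hX.1 V) (Set.range fun j => fun i => resO 𝔛 hX.1 hVU (r j i))
  have h1 : a ∈ P := by
    refine mem_of_forall_mem_sup (J 𝔛 hX.1 V) P fun s => ?_
    let k := s + c
    let ρ : Γ(𝔛.X k, 𝔛.lvU hX.1 k U) →+* Γ(𝔛.X k, 𝔛.lvU hX.1 k V) :=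
      ((𝔛.X k).presheaf.map (homOfLE (lvU_mono 𝔛 hX.1 k hVU)).op).hom
    letI := ρ.toAlgebra
    haveI : Module.Flat Γ(𝔛.X k, 𝔛.lvU hX.1 k U) Γ(𝔛.X k, 𝔛.lvU hX.1 k V) := by
      have hf := HasRingHomProperty.appLE @Flat (𝟙 (𝔛.X k)) inferInstance
        ⟨_, isAffineOpen_lvU 𝔛 hX.1 hU k⟩ ⟨_, isAffineOpen_lvU 𝔛 hX.1 hV k⟩ (lvU_mono 𝔛 hX.1 k hVU)
      rw [Scheme.Hom.appLE, Scheme.Hom.id_app, Category.id_comp] at hf
      exact hf
    obtain ⟨l, b, y, hy, hb⟩ := Module.Flat.isTrivialRelation_of_sum_smul_eq_zero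
      (R := Γ(𝔛.X k, 𝔛.lvU hX.1 k U)) (M := Γ(𝔛.X k, 𝔛.lvU hX.1 k V))
      (f := fun i => pR 𝔛 hX.1 k U (f i)) (x := fun i => pR 𝔛 hX.1 k V (a i)) (by
        refine Eq.trans (Finset.sum_congr rfl fun i _ => ?_)
          ((map_sum (pR 𝔛 hX.1 k V) _ _).symm.trans ((congrArg _ ha).trans (map_zero _)))
        rw [Algebra.smul_def, map_mul, mul_comm, pR_resO]
        rfl)
    choose B hB using fun i j => pR_surjective 𝔛 hX.1 hU k (b i j)
    have hZ : ∀ j, ∃ z : Fin n → O 𝔛 hX.1 U, (∀ i, z i ∈ J 𝔛 hX.1 U ^ s) ∧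
        ∃ d : Fin m → O 𝔛 hX.1 U, ∀ i, B i j - z i = ∑ t, d t * r t i := by
      intro j
      have h0 : ∑ i, f i * B i j ∈ J 𝔛 hX.1 U ^ (k + 1) • (⊤ : Submodule (O 𝔛 hX.1 U) (O 𝔛 hX.1 U)) ⊓
          Submodule.span (O 𝔛 hX.1 U) (Set.range f) := by
        refine ⟨?_, Submodule.sum_mem _ fun i _ => ?_⟩
        · rw [SetLike.mem_coe, smul_eq_mul, Ideal.mul_top, ← (O_spec 𝔛 hX hU).2.2 k, RingHom.mem_ker, map_sum]
          simp only [map_mul, hB]
          exact hb j
        · exact Ideal.mul_mem_right _ _ (Submodule.subset_span ⟨i, rfl⟩)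
      rw [hc (k + 1) (by omega), show k + 1 - c = s + 1 by omega] at h0
      obtain ⟨z, hz, hzs⟩ := exists_coeff_of_mem_smul_span f _ (Submodule.smul_mono le_rfl inf_le_right h0)
      refine ⟨z, fun i => Ideal.pow_le_pow_right (Nat.le_succ s) (hz i), hrel _ ?_⟩
      simp only [sub_mul, Finset.sum_sub_distrib]
      rw [sub_eq_zero]
      simp only [smul_eq_mul] at hzs
      rw [hzs]
      exact Finset.sum_congr rfl fun i _ => mul_comm _ _
    choose z hz d hd using hZ
    choose Yv hY using fun j => pR_surjective 𝔛 hX.1 hV k (y j)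
    let w : Fin n → O 𝔛 hX.1 V := ∑ j, Yv j • ∑ t, resO 𝔛 hX.1 hVU (d j t) • fun i => resO 𝔛 hX.1 hVU (r t i)
    refine Submodule.mem_sup.2 ⟨w, Submodule.sum_mem _ fun j _ => Submodule.smul_mem _ _
      (Submodule.sum_mem _ fun t _ => Submodule.smul_mem _ _ (Submodule.subset_span ⟨t, rfl⟩)),
      a - w, ?_, add_sub_cancel _ _⟩
    have h2 : ∀ i, (a - w) i ∈ J 𝔛 hX.1 V ^ s := fun i => by
      have hw : w i = ∑ j, Yv j * resO 𝔛 hX.1 hVU (B i j - z j i) := by
        simp [w, hd, map_sum, Finset.mul_sum]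
      have hkey : a i - ∑ j, Yv j * resO 𝔛 hX.1 hVU (B i j) ∈ J 𝔛 hX.1 V ^ s := by
        refine Ideal.pow_le_pow_right (show s ≤ k + 1 by omega) ?_
        rw [← (O_spec 𝔛 hX hV).2.2 k, RingHom.mem_ker, map_sub, sub_eq_zero, map_sum]
        refine (hy i).trans ?_
        refine Finset.sum_congr rfl fun j _ => ?_
        rw [map_mul, hY, pR_resO, hB, Algebra.smul_def, mul_comm]
        rfl
      rw [Pi.sub_apply, hw, show a i - ∑ j, Yv j * resO 𝔛 hX.1 hVU (B i j - z j i) =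
          (a i - ∑ j, Yv j * resO 𝔛 hX.1 hVU (B i j)) + ∑ j, Yv j * resO 𝔛 hX.1 hVU (z j i) by
        simp only [map_sub, mul_sub, Finset.sum_sub_distrib]; ring]
      refine add_mem hkey (Submodule.sum_mem _ fun j _ => Ideal.mul_mem_left _ _ ?_)
      rw [J_eq_map 𝔛 hX hU hV hVU, ← Ideal.map_pow]
      exact Ideal.mem_map_of_mem _ (hz j i)
    rw [← Finset.univ_sum_single (a - w)]
    refine Submodule.sum_mem _ fun i _ => ?_
    rw [show (Pi.single i ((a - w) i) : Fin n → O 𝔛 hX.1 V) = (a - w) i • Pi.single i 1 by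
      rw [← Pi.single_smul, smul_eq_mul, mul_one]]
    exact Submodule.smul_mem_smul (h2 i) Submodule.mem_top
  obtain ⟨d, hd⟩ := (Submodule.mem_span_range_iff_exists_fun _).1 h1
  exact ⟨d, fun i => by simp [← hd]⟩

include hX in
/-- Kernels of maps from finite free modules to the structure sheaf are of finite type. -/
theorem isFiniteType_kernel_free (n : ℕ)
    (φ : SheafOfModules.free (ULift.{u} (Fin n)) ⟶ FSch.unitF 𝔛 hX.1) :
    SheafOfModules.IsFiniteType (R := ModSite.ringSh (𝔛.Osh hX.1)) (kernel φ) := by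
  classical
  refine isFiniteType_of_local (R := ModSite.ringSh (𝔛.Osh hX.1))
    (B := {V | IsAffineOpen (V : (𝔛.X 0).Opens)}) (𝔛.X 0).isBasis_affineOpens _ fun x => ?_
  obtain ⟨_, ⟨U, hU, rfl⟩, hxU, -⟩ :=
    (𝔛.X 0).isBasis_affineOpens.exists_subset_of_mem_open (Set.mem_univ x) isOpen_univ
  haveI := (O_spec 𝔛 hX hU).1
  let f : ∀ W : (𝔛.X 0).Opens, Fin n → O 𝔛 hX.1 W := fun W i =>
    (φ.val.app (op W)).hom (e₀ (ULift.{u} (Fin n)) ⟨i⟩ (op W))
  have hf : ∀ {U V : (𝔛.X 0).Opens} (h : V ≤ U) i, resO 𝔛 hX.1 h (f U i) = f V i := fun h i =>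
    (PresheafOfModules.naturality_apply φ.val (homOfLE h).op _).symm.trans
      (congrArg _ (e₀_map (⟨i⟩ : ULift.{u} (Fin n)) (homOfLE h).op))
  let π := Fintype.linearCombination (O 𝔛 hX.1 U) (f U)
  obtain ⟨m, r, hr⟩ := Module.Finite.exists_fin (R := O 𝔛 hX.1 U) (M := LinearMap.ker π)
  have hw : ∀ j, (φ.val.app (op U)).hom (∑ i : ULift.{u} (Fin n),
      (show (ModSite.ringSh (𝔛.Osh hX.1)).obj.obj (op U) from (r j).1 i.down) • e₀ _ i (op U)) = 0 := by
    intro j
    rw [map_sum]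
    refine Eq.trans ?_ (r j).2
    refine Fintype.sum_equiv Equiv.ulift _ _ fun i => ?_
    rw [map_smul]
    rfl
  choose g hg using fun j => (exists_kernel_sect φ (op U)).1 _ (hw j)
  refine ⟨U, hxU, m, g, fun V hV hVU => eq_top_iff.2 fun k _ => ?_⟩
  obtain ⟨a, ha⟩ := exists_coeff₀ (op V) (((kernel.ι φ).val.app (op V)).hom k)
  have h0 : (φ.val.app (op V)).hom (((kernel.ι φ).val.app (op V)).hom k) = 0 :=
    LinearMap.congr_fun (congrArg (fun φ => ((φ : _ ⟶ _).val.app (op V)).hom) (kernel.condition φ)) k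
  rw [ha, map_sum] at h0
  obtain ⟨d, hd⟩ := rel_restrict 𝔛 hX hU hV hVU (f U) (fun j => (r j).1) (fun c hc => by
    obtain ⟨d, hd⟩ := (Submodule.mem_span_range_iff_exists_fun _).1
      (hr ▸ Submodule.mem_top : (⟨c, hc⟩ : LinearMap.ker π) ∈ _)
    refine ⟨d, fun i => ?_⟩
    have := congrArg (fun z : LinearMap.ker π => (z : Fin n → O 𝔛 hX.1 U) i) hd
    simpa using this.symm) (fun i => a ⟨i⟩) (by
    refine Eq.trans ?_ h0
    refine (Fintype.sum_equiv Equiv.ulift _ _ fun i => ?_).symm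
    rw [map_smul]
    show _ = (show O 𝔛 hX.1 V from a ⟨i.down⟩) * resO 𝔛 hX.1 hVU (f U i.down)
    rw [hf]
    rfl)
  refine (Submodule.mem_span_range_iff_exists_fun _).2 ⟨d, (exists_kernel_sect φ (op V)).2 ?_⟩
  rw [ha, map_sum]
  have h1 : ∀ j, ((kernel.ι φ).val.app (op V)).hom
      (res (R := ModSite.ringSh (𝔛.Osh hX.1)) (kernel φ) hVU (g j)) = ∑ i : ULift.{u} (Fin n),
        (show (ModSite.ringSh (𝔛.Osh hX.1)).obj.obj (op V) from resO 𝔛 hX.1 hVU ((r j).1 i.down)) •
          e₀ _ i (op V) := by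
    intro j
    refine (PresheafOfModules.naturality_apply (kernel.ι φ).val (homOfLE hVU).op (g j)).trans ?_
    refine (congrArg _ (hg j)).trans ?_
    refine (map_sum ((SheafOfModules.free (R := ModSite.ringSh (𝔛.Osh hX.1)) (ULift.{u} (Fin n))).val.map
      (homOfLE hVU).op).hom _ _).trans ?_
    refine Finset.sum_congr rfl fun i _ => ?_
    refine (PresheafOfModules.map_smul _ (homOfLE hVU).op _ _).trans ?_
    rw [e₀_map]
    rfl
  simp only [map_smul, h1, Finset.smul_sum, smul_smul]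
  rw [Finset.sum_comm]
  refine Finset.sum_congr rfl fun i _ => ?_
  rw [← Finset.sum_smul]
  congr 1
  exact (hd i.down).symm

end Groth.L17.FSheaf
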