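import Groth.Agent.L17.FSheaf.CompSect
import Groth.Agent.L17.BC.Sheaf
import Groth.Agent.L17.BC.PullSec
import Groth.Agent.L17.ClosedPush
import Groth.Agent.L16.CohClosedPush
import Groth.Agent.L16.Exist.Systems

/-!
# Systems on a completion as coherent formal modules
-/

set_option autoImplicit false
set_option linter.style.haveILetI false
set_option linter.unusedSectionVars false
set_option backward.isDefEq.respectTransparency false
set_option backward.isDefEq.respectTransparency.types false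
set_option maxHeartbeats 400000

universe u

open CategoryTheory CategoryTheory.Limits AlgebraicGeometry TopologicalSpace Opposite

noncomputable section

namespace Groth.L17.FSheaf

open Groth.L18.Frame (rs ro pull rs_rs rs_self)
open Groth.L17.BC.PullSec (app_rs map_pull)
open Groth.L16.AffineBC (pullRes isBaseChange_pull scal)
open Formal (modPow modPowπ smulFamily smulMod)

variable {A : Type u} [CommRing A] (J : Ideal A) {X : Scheme.{u}} [X.Over (Spec (CommRingCat.of A))]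
  (𝔛 : FSch.Sys.{u}) (p : ∀ k, 𝔛.X k ⟶ X) (hp : ∀ k, 𝔛.ι k ≫ p (k + 1) = p k)

/-- The levels are cut out by the powers of the ideal of the base. -/
def CutOver : Prop :=
  ∀ (k : ℕ) (U : X.Opens), IsAffineOpen U → Function.Surjective ((p k).app U).hom ∧
    RingHom.ker ((p k).app U).hom = J.map (scal A X U) ^ (k + 1)

variable (𝔐 : FSch.ModSys 𝔛)

/-- The direct images of the levels. -/
abbrev gObj (k : ℕ) : X.Modules := (Scheme.Modules.pushforward (p k)).obj (𝔐.F k)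

/-- The transition maps of the direct images. -/
def gTr (k : ℕ) : gObj 𝔛 p 𝔐 (k + 1) ⟶ gObj 𝔛 p 𝔐 k :=
  (Scheme.Modules.pushforward (p (k + 1))).map (𝔐.toPush k) ≫
    (Scheme.Modules.pushforwardComp (𝔛.ι k) (p (k + 1))).hom.app (𝔐.F k) ≫
      (Scheme.Modules.pushforwardCongr (hp k)).hom.app (𝔐.F k)

/-- The inverse system of the direct images. -/
abbrev gSys : ℕᵒᵖ ⥤ X.Modules :=
  Functor.ofOpSequence (X := fun k => gObj 𝔛 p 𝔐 k) (fun k => gTr 𝔛 p hp 𝔐 k)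

theorem gle (k : ℕ) (W : X.Opens) (hp' : 𝔛.ι k ≫ p (k + 1) = p k) :
    p k ⁻¹ᵁ W ≤ 𝔛.ι k ⁻¹ᵁ (p (k + 1) ⁻¹ᵁ W) :=
  le_of_eq ((congrArg (fun q : 𝔛.X k ⟶ X => q ⁻¹ᵁ W) hp').symm.trans (Scheme.Hom.comp_preimage _ _ _))

theorem gTr_app (k : ℕ) (W : X.Opens) (y : Γ(gObj 𝔛 p 𝔐 (k + 1), W)) :
    (show Γ(𝔐.F k, p k ⁻¹ᵁ W) from (gTr 𝔛 p hp 𝔐 k).app W y) =
      (𝔐.e k).hom.app (p k ⁻¹ᵁ W)
        (rs ((Scheme.Modules.pullback (𝔛.ι k)).obj (𝔐.F (k + 1))) (gle 𝔛 p k W (hp k))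
          (pull (𝔛.ι k) (𝔐.F (k + 1)) (p (k + 1) ⁻¹ᵁ W) (show Γ(𝔐.F (k + 1), p (k + 1) ⁻¹ᵁ W) from y))) := by
  rw [app_rs]
  show rs (𝔐.F k) (gle 𝔛 p k W (hp k)) ((𝔐.toPush k).app (p (k + 1) ⁻¹ᵁ W) y) = _
  rw [FSch.ModSys.toPush, Adjunction.homEquiv_unit]
  rfl

variable {J} {𝔛} {p} (hcl : ∀ k, IsClosedImmersion (p k)) (hcut : CutOver J 𝔛 p)

include hcl hcut in
theorem gTr_spec (h𝔐 : 𝔐.IsCoh) {W : X.Opens} (hW : IsAffineOpen W) (k : ℕ) :
    Function.Surjective ((gTr 𝔛 p hp 𝔐 k).app W) ∧ ∀ y, (gTr 𝔛 p hp 𝔐 k).app W y = 0 ↔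
      y ∈ J.map (scal A X W) ^ (k + 1) • (⊤ : Submodule Γ(X, W) Γ(gObj 𝔛 p 𝔐 (k + 1), W)) := by
  haveI := hcl k
  haveI := hcl (k + 1)
  haveI := (h𝔐 (k + 1)).1
  let V := p (k + 1) ⁻¹ᵁ W
  let U := p k ⁻¹ᵁ W
  have hV : IsAffineOpen V := hW.preimage _
  have hU : IsAffineOpen U := hW.preimage _
  let e : U ≤ 𝔛.ι k ⁻¹ᵁ V := gle 𝔛 p k W (hp k)
  let P := (Scheme.Modules.pullback (𝔛.ι k)).obj (𝔐.F (k + 1))
  letI : Algebra Γ(𝔛.X (k + 1), V) Γ(𝔛.X k, U) := ((𝔛.ι k).appLE V U e).hom.toAlgebra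
  letI := Module.compHom Γ(P, U) ((𝔛.ι k).appLE V U e).hom
  haveI : IsScalarTower Γ(𝔛.X (k + 1), V) Γ(𝔛.X k, U) Γ(P, U) := IsScalarTower.of_algebraMap_smul fun _ _ => rfl
  have hc : ∀ a, algebraMap Γ(𝔛.X (k + 1), V) Γ(𝔛.X k, U) ((p (k + 1)).app W a) = (p k).app W a := fun a => by
    show (𝔛.ι k).appLE V U e ((p (k + 1)).app W a) = _
    rw [Scheme.Hom.app_eq_appLE, Scheme.Hom.app_eq_appLE]
    exact ConcreteCategory.congr_hom
      (FSch.appLE_comp_appLE_of_eq (𝔛.ι k) (p (k + 1)) (p k) (hp k) W V U le_rfl e le_rfl) a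
  have hsur : Function.Surjective (algebraMap Γ(𝔛.X (k + 1), V) Γ(𝔛.X k, U)) := fun z => by
    obtain ⟨a, ha⟩ := (hcut k W hW).1 z
    exact ⟨(p (k + 1)).app W a, (hc a).trans ha⟩
  have hkr : RingHom.ker (algebraMap Γ(𝔛.X (k + 1), V) Γ(𝔛.X k, U)) =
      (J.map (scal A X W) ^ (k + 1)).map ((p (k + 1)).app W).hom := by
    rw [← (hcut k W hW).2]
    refine le_antisymm (fun z hz => ?_) (Ideal.map_le_iff_le_comap.2 fun a ha => ?_)
    · obtain ⟨a, rfl⟩ := (hcut (k + 1) W hW).1 z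
      exact Ideal.mem_map_of_mem _ ((hc a).symm.trans hz)
    · exact (hc a).trans ha
  obtain ⟨hs, hk⟩ := surjective_of_baseChange _ (isBaseChange_pull (𝔛.ι k) (𝔐.F (k + 1)) hV hU e) hsur
  have hbij := ConcreteCategory.bijective_of_isIso (C := Ab.{u}) ((𝔐.e k).hom.app U)
  refine ⟨fun z => ?_, fun y => ?_⟩
  · obtain ⟨w, hw⟩ := hbij.2 z
    obtain ⟨y, rfl⟩ := hs w
    exact ⟨y, (gTr_app 𝔛 p hp 𝔐 k W y).trans hw⟩
  · letI : Module Γ(𝔛.X (k + 1), V) Γ(gObj 𝔛 p 𝔐 (k + 1), W) :=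
      (inferInstance : Module Γ(𝔛.X (k + 1), V) Γ(𝔐.F (k + 1), V))
    refine Iff.trans ?_ (mem_map_smul_top_iff ((p (k + 1)).app W).hom (hcut (k + 1) W hW).1
      (fun (a : Γ(X, W)) (z : Γ(gObj 𝔛 p 𝔐 (k + 1), W)) =>
        (show a • z = ((p (k + 1)).app W).hom a • z from rfl)) _ y).symm
    rw [← hkr]
    refine Iff.trans ?_ (Iff.of_eq (congrArg (fun S : Submodule Γ(𝔛.X (k + 1), V) Γ(𝔐.F (k + 1), V) =>
      (show Γ(𝔐.F (k + 1), V) from y) ∈ S) hk))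
    constructor
    · intro hy
      refine LinearMap.mem_ker.2 (hbij.1 ?_)
      exact (gTr_app 𝔛 p hp 𝔐 k W y).symm.trans (hy.trans (map_zero ((𝔐.e k).hom.app U).hom).symm)
    · intro hy
      exact (gTr_app 𝔛 p hp 𝔐 k W y).trans
        ((congrArg ((𝔐.e k).hom.app U) (LinearMap.mem_ker.1 hy)).trans (map_zero _))

variable [AlgebraicGeometry.IsNoetherian X]

include hcl hcut in
theorem smulMod_gObj (k : ℕ) {a : A} (ha : a ∈ J ^ (k + 1)) : smulMod A (gObj 𝔛 p 𝔐 k) a = 0 := by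
  refine Groth.L16.AffineBC.hom_ext_affine _ _ fun U hU m => ?_
  rw [Groth.L16.HomSh.smulMod_app]
  show (show Γ(𝔐.F k, p k ⁻¹ᵁ U) from ((p k).app U).hom (scal A X U a) •
    (show Γ(𝔐.F k, p k ⁻¹ᵁ U) from m)) = 0
  have h0 : ((p k).app U).hom (scal A X U a) = 0 := by
    refine RingHom.mem_ker.1 ?_
    rw [(hcut k U hU).2, ← Ideal.map_pow]
    exact Ideal.mem_map_of_mem _ ha
  rw [h0]
  exact zero_smul _ _

include hcl hcut in
/-- The direct images of the levels form a coherent formal module. -/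
theorem isCohFormal_gSys (h𝔐 : 𝔐.IsCoh) : Formal.IsCohFormal J (gSys 𝔛 p hp 𝔐) := by
  have hco : ∀ k, Coh.IsCoh (gObj 𝔛 p 𝔐 k) := fun k => by
    haveI := hcl k
    exact Groth.L16.CohClosedPush.isCoh_push (p k) (h𝔐 k)
  refine ⟨hco, fun k a ha => smulMod_gObj 𝔐 hcl hcut k ha, fun n => ?_⟩
  have hm : (gSys 𝔛 p hp 𝔐).map (homOfLE (Nat.le_succ n)).op = gTr 𝔛 p hp 𝔐 n :=
    Functor.ofOpSequence_map_homOfLE_succ _ n
  have h0 : smulFamily (J ^ (n + 1)) (gObj 𝔛 p 𝔐 (n + 1)) ≫ gTr 𝔛 p hp 𝔐 n = 0 := by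
    apply Sigma.hom_ext
    intro a
    rw [Limits.comp_zero, Formal.smulFamily, Sigma.ι_desc_assoc, Groth.L16.Rees.smulMod_naturality,
      smulMod_gObj 𝔐 hcl hcut n a.2, Limits.comp_zero]
  refine ⟨(congrArg (_ ≫ ·) hm).trans h0, ?_⟩
  suffices hiso : IsIso (cokernel.desc _ (gTr 𝔛 p hp 𝔐 n) h0) by
    have key : ∀ (g : gObj 𝔛 p 𝔐 (n + 1) ⟶ gObj 𝔛 p 𝔐 n), g = gTr 𝔛 p hp 𝔐 n →
        ∀ h, IsIso (cokernel.desc (smulFamily (J ^ (n + 1)) (gObj 𝔛 p 𝔐 (n + 1))) g h) := by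
      rintro _ rfl h
      exact hiso
    exact key _ hm _
  refine Groth.L17.BC.Classes.isIso_of_affine _ fun x => ⟨⊤, trivial, fun W _ hW => ?_⟩
  obtain ⟨hs, hk⟩ := (Groth.L16.Exist.modPow_spec J (hco (n + 1)) (n + 1)).2 W hW
  obtain ⟨hs', hk'⟩ := gTr_spec hp 𝔐 hcl hcut h𝔐 hW n
  have hc : ∀ y, (cokernel.desc _ (gTr 𝔛 p hp 𝔐 n) h0).app W ((modPowπ J (n + 1) _).app W y) =
      (gTr 𝔛 p hp 𝔐 n).app W y := fun y =>
    ConcreteCategory.congr_hom (congrArg (fun t => Scheme.Modules.Hom.app t W) (cokernel.π_desc _ _ h0)) y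
  refine ⟨fun a b hab => ?_, fun z => ?_⟩
  · obtain ⟨u, rfl⟩ := hs a
    obtain ⟨v, rfl⟩ := hs b
    rw [hc, hc] at hab
    refine sub_eq_zero.1 ((map_sub ((modPowπ J (n + 1) (gObj 𝔛 p 𝔐 (n + 1))).app W).hom u v).symm.trans
      ((hk _).2 ((hk' _).1 ?_)))
    exact (map_sub ((gTr 𝔛 p hp 𝔐 n).app W).hom u v).trans (sub_eq_zero.2 hab)
  · obtain ⟨y, rfl⟩ := hs' z
    exact ⟨(modPowπ J (n + 1) _).app W y, hc y⟩

include hcl hcut in
/-- A system is the completion of any module whose reductions are its direct images. -/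
theorem nonempty_iso_pullSys_of_completion {M : X.Modules} (hM : Coh.IsCoh M)
    (θ : Formal.completion J M ≅ gSys 𝔛 p hp 𝔐) : Nonempty (𝔐 ≅ pullSys 𝔛 p hp M) := by
  haveI : Coh.IsQCoh M := hM.1
  let β : ∀ k, M ⟶ gObj 𝔛 p 𝔐 k := fun k => modPowπ J (k + 1) M ≫ θ.hom.app (op k)
  have hβ : ∀ k, β (k + 1) ≫ gTr 𝔛 p hp 𝔐 k = β k := fun k => by
    have h1 := θ.hom.naturality (homOfLE (Nat.le_add_right k 1)).op
    rw [show (Formal.completion J M).map (homOfLE (Nat.le_add_right k 1)).op = Formal.modPowTrans J (k + 1) M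
        from Functor.ofOpSequence_map_homOfLE_succ _ k,
      show (gSys 𝔛 p hp 𝔐).map (homOfLE (Nat.le_add_right k 1)).op = gTr 𝔛 p hp 𝔐 k
        from Functor.ofOpSequence_map_homOfLE_succ _ k] at h1
    refine (Category.assoc _ _ _).trans ?_
    refine (congrArg (modPowπ J (k + 1 + 1) M ≫ ·) h1.symm).trans ?_
    exact (Category.assoc _ _ _).symm.trans (congrArg (· ≫ θ.hom.app (op k)) (Formal.modPowπ_trans J (k + 1) M))
  let a : ∀ k, (pullSys 𝔛 p hp M).F k ⟶ 𝔐.F k := fun k =>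
    ((Scheme.Modules.pullbackPushforwardAdjunction (p k)).homEquiv _ _).symm (β k)
  have ha : ∀ (k : ℕ) (W : X.Opens) (m : Γ(M, W)),
      (a k).app (p k ⁻¹ᵁ W) (pull (p k) M W m) = (show Γ(𝔐.F k, p k ⁻¹ᵁ W) from (β k).app W m) := fun k W m => by
    have h1 : (Scheme.Modules.pullbackPushforwardAdjunction (p k)).homEquiv _ _ (a k) = β k :=
      Equiv.apply_symm_apply _ _
    exact ConcreteCategory.congr_hom (congrArg (fun t => Scheme.Modules.Hom.app t W) h1) m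
  have hcomm : ∀ k, (Scheme.Modules.pullback (𝔛.ι k)).map (a (k + 1)) ≫ (𝔐.e k).hom =
      ((pullSys 𝔛 p hp M).e k).hom ≫ a k := fun k => by
    refine (cancel_epi ((pullSys 𝔛 p hp M).e k).inv).1 ?_
    rw [Iso.inv_hom_id_assoc]
    refine ((Scheme.Modules.pullbackPushforwardAdjunction (p k)).homEquiv _ _).injective ?_
    refine Groth.L16.AffineBC.hom_ext_affine _ _ fun W _ m => ?_
    show (𝔐.e k).hom.app (p k ⁻¹ᵁ W) (((Scheme.Modules.pullback (𝔛.ι k)).map (a (k + 1))).app (p k ⁻¹ᵁ W)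
      (((pullSys 𝔛 p hp M).e k).inv.app (p k ⁻¹ᵁ W) (pull (p k) M W m))) = (a k).app (p k ⁻¹ᵁ W) (pull (p k) M W m)
    have he := pullTrans_app (𝔛.ι k) (p (k + 1)) (hp k) M W m (U := p (k + 1) ⁻¹ᵁ W) (V := p k ⁻¹ᵁ W)
      le_rfl (gle 𝔛 p k W (hp k)) le_rfl
    rw [rs_self _ (le_refl _), rs_self _ (le_refl _)] at he
    have hinv : ((pullSys 𝔛 p hp M).e k).inv.app (p k ⁻¹ᵁ W) (pull (p k) M W m) =
        rs ((Scheme.Modules.pullback (𝔛.ι k)).obj ((pullSys 𝔛 p hp M).F (k + 1))) (gle 𝔛 p k W (hp k))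
          (pull (𝔛.ι k) ((pullSys 𝔛 p hp M).F (k + 1)) (p (k + 1) ⁻¹ᵁ W) (pull (p (k + 1)) M W m)) := by
      rw [← he]
      exact ConcreteCategory.congr_hom (congrArg (fun t => Scheme.Modules.Hom.app t (p k ⁻¹ᵁ W))
        ((pullSys 𝔛 p hp M).e k).hom_inv_id) _
    rw [hinv, app_rs, map_pull, ha (k + 1) W m, ha k W m]
    refine (gTr_app 𝔛 p hp 𝔐 k W ((β (k + 1)).app W m)).symm.trans ?_
    exact ConcreteCategory.congr_hom (congrArg (fun t => Scheme.Modules.Hom.app t W) (hβ k)) m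
  haveI hai : ∀ k, IsIso (a k) := fun k => by
    haveI := hcl k
    haveI : IsIso ((Scheme.Modules.pushforward (p k)).map (a k)) := by
      refine Groth.L17.BC.Classes.isIso_of_affine _ fun x => ⟨⊤, trivial, fun W _ hW => ?_⟩
      obtain ⟨hs, hk⟩ := (Groth.L16.Exist.modPow_spec J hM (k + 1)).2 W hW
      let U := p k ⁻¹ᵁ W
      let e : U ≤ p k ⁻¹ᵁ W := le_rfl
      let P := (Scheme.Modules.pullback (p k)).obj M
      letI : Algebra Γ(X, W) Γ(𝔛.X k, U) := ((p k).appLE W U e).hom.toAlgebra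
      letI := Module.compHom Γ(P, U) ((p k).appLE W U e).hom
      haveI : IsScalarTower Γ(X, W) Γ(𝔛.X k, U) Γ(P, U) := IsScalarTower.of_algebraMap_smul fun _ _ => rfl
      obtain ⟨hs', hk'⟩ := surjective_of_baseChange _ (isBaseChange_pull (p k) M hW (hW.preimage _) e)
        (appLE_surjective_of_eq (p k) rfl (hcut k W hW).1)
      rw [show RingHom.ker (algebraMap Γ(X, W) Γ(𝔛.X k, U)) = J.map (scal A X W) ^ (k + 1) from
        (ker_appLE (p k) rfl).trans (hcut k W hW).2] at hk'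
      have hθ : Function.Bijective ((θ.hom.app (op k)).app W) :=
        ConcreteCategory.bijective_of_isIso (C := Ab.{u}) ((θ.hom.app (op k)).app W)
      have hres : ∀ m, pullRes (p k) M e m = pull (p k) M W m := fun m => rs_self _ _ _
      have key : ∀ m, ((Scheme.Modules.pushforward (p k)).map (a k)).app W (pullRes (p k) M e m) =
          (θ.hom.app (op k)).app W ((modPowπ J (k + 1) M).app W m) := fun m => by
        rw [hres]
        exact ha k W m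
      refine ⟨fun b c hbc => ?_, fun z => ?_⟩
      · obtain ⟨u, rfl⟩ := hs' b
        obtain ⟨v, rfl⟩ := hs' c
        rw [key, key] at hbc
        have h1 := hθ.1 hbc
        have h2 := (hk _).1 ((map_sub ((modPowπ J (k + 1) M).app W).hom u v).trans (sub_eq_zero.2 h1))
        refine sub_eq_zero.1 ((map_sub (pullRes (p k) M e) u v).symm.trans ?_)
        exact LinearMap.mem_ker.1 (hk' ▸ h2)
      · obtain ⟨w, rfl⟩ := hθ.2 z
        obtain ⟨m, rfl⟩ := hs w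
        exact ⟨pullRes (p k) M e m, key m⟩
    haveI := Groth.L17.ClosedPush.isIso_counit (p k)
    have e1 := (Scheme.Modules.pullbackPushforwardAdjunction (p k)).counit.naturality (a k)
    have e2 : a k = inv ((Scheme.Modules.pullbackPushforwardAdjunction (p k)).counit.app _) ≫
        (Scheme.Modules.pullback (p k)).map ((Scheme.Modules.pushforward (p k)).map (a k)) ≫
          (Scheme.Modules.pullbackPushforwardAdjunction (p k)).counit.app _ := by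
      rw [IsIso.eq_inv_comp]
      exact e1.symm
    rw [e2]
    infer_instance
  let Φ : pullSys 𝔛 p hp M ⟶ 𝔐 := ⟨a, hcomm⟩
  refine ⟨Iso.symm ⟨Φ, ⟨fun k => inv (a k), fun k => ?_⟩,
    FSch.ModSys.Hom.ext (funext fun k => IsIso.hom_inv_id (a k)),
    FSch.ModSys.Hom.ext (funext fun k => IsIso.inv_hom_id (a k))⟩⟩
  rw [CategoryTheory.Functor.map_inv, IsIso.inv_comp_eq, ← Category.assoc, hcomm k, Category.assoc,
    IsIso.hom_inv_id]
  exact (Category.comp_id _).symm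

end Groth.L17.FSheaf
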