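import Groth.Agent.L17.FSheaf.CanonSys

/-!
# Coherent modules are determined by their levels
-/

set_option autoImplicit false
set_option linter.style.haveILetI false
set_option linter.unusedSectionVars false
set_option backward.isDefEq.respectTransparency false
set_option backward.isDefEq.respectTransparency.types false

universe u

open CategoryTheory CategoryTheory.Limits AlgebraicGeometry TopologicalSpace Opposite

noncomputable section

namespace Groth.L17.FSheaf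

variable (𝔛 : FSch.Sys.{u}) (hX : 𝔛.IsLocNoethFormal) (𝔉 : FSch.ModF 𝔛 hX.1) (h𝔉 : FSch.IsCohF 𝔛 hX.1 𝔉)
  (𝔐 : FSch.ModSys 𝔛)
  (α : ∀ k, 𝔉 ⟶ (FSch.levelMor 𝔛 hX.1 k).push.obj (𝔐.F k))
  (hα : ∀ k, α (k + 1) ≫ (FSch.levelMor 𝔛 hX.1 (k + 1)).push.map (𝔐.toPush k) ≫
    (FSch.pushCompare 𝔛 hX.1 k).app (𝔐.F k) = α k)

/-- The morphism to the module of a system given by compatible morphisms to the levels. -/
def liftReal : 𝔉 ⟶ 𝔐.realMod hX.1 :=
  limit.lift (FSch.levelSysOf 𝔛 hX.1 𝔐.F 𝔐.toPush)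
    { pt := 𝔉
      π := NatTrans.ofOpSequence (F := (Functor.const ℕᵒᵖ).obj 𝔉) α fun k => by
        rw [FSch.levelSysOf_map_succ]
        exact (Category.id_comp _).trans (hα k).symm }

theorem liftReal_proj (k : ℕ) :
    liftReal 𝔛 hX 𝔉 𝔐 α hα ≫ FSch.realProj 𝔛 hX.1 𝔐.F 𝔐.toPush k = α k :=
  limit.lift_π _ _

variable (ha : ∀ k, IsIso (((FSch.levelMor 𝔛 hX.1 k).adj.homEquiv _ _).symm (α k)))

include h𝔉 hα ha in
/-- A coherent module is the module of any system isomorphic to its levels. -/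
theorem isIso_liftReal : IsIso (liftReal 𝔛 hX 𝔉 𝔐 α hα) := by
  let a : ∀ k, LF 𝔛 hX.1 𝔉 k ⟶ 𝔐.F k := fun k => ((FSch.levelMor 𝔛 hX.1 k).adj.homEquiv _ _).symm (α k)
  have hη : ∀ k, (FSch.levelMor 𝔛 hX.1 k).adj.unit.app 𝔉 ≫ (FSch.levelMor 𝔛 hX.1 k).push.map (a k) = α k :=
    fun k => ((FSch.levelMor 𝔛 hX.1 k).adj.homEquiv_unit _ _ (a k)).symm.trans (Equiv.apply_symm_apply _ _)
  have hc : ∀ k, LFmap 𝔛 hX.1 𝔉 k ≫ (Scheme.Modules.pushforward (𝔛.ι k)).map (a k) = a (k + 1) ≫ 𝔐.toPush k := by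
    intro k
    refine ((FSch.levelMor 𝔛 hX.1 (k + 1)).adj.homEquiv _ _).injective ?_
    refine (Adjunction.homEquiv_naturality_right _ _ _).trans
      (Eq.trans ?_ (Adjunction.homEquiv_naturality_right _ _ _).symm)
    refine Eq.trans (congrArg (· ≫ (FSch.levelMor 𝔛 hX.1 (k + 1)).push.map
      ((Scheme.Modules.pushforward (𝔛.ι k)).map (a k))) (Equiv.apply_symm_apply _ _)) ?_
    refine Eq.trans ?_ (congrArg (· ≫ (FSch.levelMor 𝔛 hX.1 (k + 1)).push.map (𝔐.toPush k))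
      (Equiv.apply_symm_apply _ _)).symm
    refine (Category.assoc _ _ _).trans ?_
    refine (congrArg ((FSch.levelMor 𝔛 hX.1 k).adj.unit.app 𝔉 ≫ ·)
      ((FSch.pushCompareInv 𝔛 hX.1 k).naturality (a k)).symm).trans ?_
    refine (Category.assoc _ _ _).symm.trans ?_
    rw [hη k, ← hα k, Category.assoc, Category.assoc, FSch.pushCompare_pushCompareInv]
    exact congrArg (α (k + 1) ≫ ·) (Category.comp_id _)
  let Φ : canonSys 𝔛 hX.1 𝔉 ⟶ 𝔐 := ⟨a, fun k =>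
    ((Scheme.Modules.pullbackPushforwardAdjunction (𝔛.ι k)).homEquiv _ _).injective (by
      rw [Adjunction.homEquiv_naturality_left, Adjunction.homEquiv_naturality_right]
      exact ((congrArg (· ≫ _) (canonSys_toPush 𝔛 hX.1 𝔉 k)).trans (hc k)).symm)⟩
  haveI : ∀ j : ℕᵒᵖ, IsIso ((FSch.levelSysMap 𝔛 hX.1 Φ.app (FSch.ModSys.Hom.toPush_comm Φ)).app j) := by
    rintro ⟨k⟩
    haveI : IsIso (Φ.app k) := ha k
    exact inferInstanceAs (IsIso ((FSch.levelMor 𝔛 hX.1 k).push.map (Φ.app k)))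
  haveI : IsIso (FSch.levelSysMap 𝔛 hX.1 Φ.app (FSch.ModSys.Hom.toPush_comm Φ)) := NatIso.isIso_of_isIso_app _
  haveI : IsIso (FSch.ModSys.realModMap hX.1 Φ) :=
    inferInstanceAs (IsIso (lim.map (FSch.levelSysMap 𝔛 hX.1 Φ.app (FSch.ModSys.Hom.toPush_comm Φ))))
  haveI := isIso_toCanon 𝔛 hX 𝔉 h𝔉
  have e : liftReal 𝔛 hX 𝔉 𝔐 α hα = toCanon 𝔛 hX.1 𝔉 ≫ FSch.ModSys.realModMap hX.1 Φ := by
    refine limit.hom_ext ?_
    rintro ⟨k⟩
    refine (liftReal_proj 𝔛 hX 𝔉 𝔐 α hα k).trans ?_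
    refine Eq.symm ((Category.assoc _ _ _).trans ((congrArg (toCanon 𝔛 hX.1 𝔉 ≫ ·)
      (FSch.realLimMap_realProj 𝔛 hX.1 Φ.app (FSch.ModSys.Hom.toPush_comm Φ) k)).trans ?_))
    refine (Category.assoc _ _ _).symm.trans ((congrArg (· ≫ _) (toCanon_proj 𝔛 hX.1 𝔉 k)).trans ?_)
    exact hη k
  rw [e]
  exact IsIso.comp_isIso

end Groth.L17.FSheaf
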