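import Groth.Agent.L17.FSheaf.LocPresFP
import Mathlib.Algebra.Category.ModuleCat.Sheaf.PullbackContinuous

/-!
# Inverse images preserve finite presentation on ringed spaces
-/

set_option autoImplicit false
set_option linter.style.haveILetI false
set_option linter.unusedSectionVars false
set_option backward.isDefEq.respectTransparency false
set_option backward.isDefEq.respectTransparency.types false

universe u

open CategoryTheory CategoryTheory.Limits TopologicalSpace Opposite

noncomputable section

namespace Groth.L17.FSheaf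

section Free

variable {X : TopCat.{u}} {R : Sheaf (Opens.grothendieckTopology X) RingCat.{u}} {U : Opens X}
  {G : SheafOfModules.{u} (R.over U)} {I : Type u}

/-- The map out of a free module with given values on the standard sections. -/
abbrev freeDesc (q : I → G.val.obj (topO U)) : SheafOfModules.free (R := R.over U) I ⟶ G :=
  G.freeHomEquiv.symm fun i => ofTop G (q i)

theorem freeDesc_e (q : I → G.val.obj (topO U)) (i : I) (W : (Over U)ᵒᵖ) :
    ((freeDesc q).val.app W).hom (e (R := R) I i W) = G.val.map (toO W) (q i) := by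
  have h1 : SheafOfModules.ιFree i ≫ freeDesc q = G.unitHomEquiv.symm (ofTop G (q i)) := by
    rw [← SheafOfModules.unitHomEquiv_symm_freeHomEquiv_apply, Equiv.apply_symm_apply]
  show ((SheafOfModules.ιFree i ≫ freeDesc q).val.app W).hom (1 : (R.over U).obj.obj W) = _
  rw [h1]
  exact congrArg (fun v => v.val W) (G.unitHomEquiv.apply_symm_apply (ofTop G (q i)))

theorem freeDesc_e_top (q : I → G.val.obj (topO U)) (i : I) :
    ((freeDesc q).val.app (topO U)).hom (e (R := R) I i (topO U)) = q i := by
  rw [freeDesc_e, show toO (topO U) = 𝟙 (topO U) from Quiver.Hom.unop_inj (Over.mkIdTerminal.hom_ext _ _)]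
  exact LinearMap.congr_fun (congrArg ModuleCat.Hom.hom (G.val.map_id (topO U))) _

theorem free_hom_ext (a b : SheafOfModules.free (R := R.over U) I ⟶ G)
    (h : ∀ i, (a.val.app (topO U)).hom (e (R := R) I i (topO U)) = (b.val.app (topO U)).hom (e (R := R) I i (topO U))) :
    a = b := by
  refine G.freeHomEquiv.injective (funext fun i => Subtype.ext (funext fun W => ?_))
  rw [← (G.freeHomEquiv a i).property (toO W), ← (G.freeHomEquiv b i).property (toO W)]
  exact congrArg (G.val.map (toO W)) (h i)

end Free

variable {X Y : TopCat.{u}} (g : X ⟶ Y) {R : Sheaf (Opens.grothendieckTopology X) RingCat.{u}}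
  {S : Sheaf (Opens.grothendieckTopology Y) RingCat.{u}}
  (φ : S ⟶ ((Opens.map g).sheafPushforwardContinuous RingCat.{u} (Opens.grothendieckTopology Y)
    (Opens.grothendieckTopology X)).obj R)
  [(SheafOfModules.pushforward.{u} φ).IsRightAdjoint]

theorem over_hom_subsingleton {U : Opens X} (A B : Over U) : Subsingleton (A ⟶ B) :=
  ⟨fun a b => Over.OverMorphism.ext (Subsingleton.elim _ _)⟩

/-- The inverse image of a module with a local presentation has a presentation. -/
theorem exists_presentation_pullback {M : SheafOfModules.{u} S} {U : Opens Y} {n m : ℕ}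
    {s : Fin n → M.val.obj (op U)} {r : Fin m → Fin n → S.obj.obj (op U)} (hp : LocPres M s r) :
    ∃ P : (((SheafOfModules.pullback.{u} φ).obj M).over ((Opens.map g).obj U)).Presentation, P.IsFinite := by
  classical
  let U' := (Opens.map g).obj U
  let Rf := R.over U'
  let F := (SheafOfModules.pullback.{u} φ).obj M
  let A := F.over U'
  let adj := SheafOfModules.pullbackPushforwardAdjunction.{u} φ
  let adj' := SheafOfModules.overPushforwardOverAdj.{u} (R := R) U'
  let jS := SheafOfModules.pushforward.{u} (SheafOfModules.pushforwardOver (R := R) U')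
  let Q : SheafOfModules.{u} Rf → SheafOfModules.{u} S := fun T => (SheafOfModules.pushforward.{u} φ).obj (jS.obj T)
  let hom : ∀ T : SheafOfModules.{u} Rf, (A ⟶ T) ≃ (M ⟶ Q T) := fun T =>
    (adj'.homEquiv F T).trans (adj.homEquiv M (jS.obj T))
  let t : Fin n → A.val.obj (topO U') := fun i => ((adj.unit.app M).val.app (op U)).hom (s i)
  let ρ : Fin m → Fin n → Rf.obj.obj (topO U') := fun j i => φ.hom.app (op U) (r j i)
  let st : (Over U')ᵒᵖ := op ((Over.star U').obj U')
  let back : st ⟶ topO U' := (Over.homMk (prod.lift (𝟙 U') (𝟙 U'))).op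
  have hbk : ∀ (T : SheafOfModules.{u} Rf) (z : T.val.obj st), T.val.map (toO st) (T.val.map back z) = z := by
    intro T z
    rw [← PresheafOfModules.map_comp_apply, show back ≫ toO st = 𝟙 st from
      Quiver.Hom.unop_inj ((over_hom_subsingleton _ _).elim _ _)]
    exact LinearMap.congr_fun (congrArg ModuleCat.Hom.hom (T.val.map_id st)) z
  have hinj : ∀ (T : SheafOfModules.{u} Rf), Function.Injective (T.val.map (toO st)) := by
    intro T a b hab
    have h := congrArg (T.val.map back) hab
    rw [← PresheafOfModules.map_comp_apply, ← PresheafOfModules.map_comp_apply,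
      show toO st ≫ back = 𝟙 (topO U') from Quiver.Hom.unop_inj ((over_hom_subsingleton _ _).elim _ _)] at h
    exact ((LinearMap.congr_fun (congrArg ModuleCat.Hom.hom (T.val.map_id (topO U'))) a).symm.trans h).trans
      (LinearMap.congr_fun (congrArg ModuleCat.Hom.hom (T.val.map_id (topO U'))) b)
  have hhom : ∀ (T : SheafOfModules.{u} Rf) (f : A ⟶ T) (i : Fin n),
      ((hom T f).val.app (op U)).hom (s i) = T.val.map (toO st) ((f.val.app (topO U')).hom (t i)) := by
    intro T f i
    simp only [hom, Equiv.trans_apply, Adjunction.homEquiv_unit]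
    show (f.val.app st).hom (F.val.map ((Over.forgetAdjStar U').counit.app U').op (t i)) = _
    refine Eq.trans (congrArg (f.val.app st).hom ?_) (PresheafOfModules.naturality_apply f.val (toO st) (t i))
    show F.val.map _ (t i) = F.val.map _ (t i)
    congr 3
  have hsm : ∀ (T : SheafOfModules.{u} Rf) (a : S.obj.obj (op U)) (z : T.val.obj (topO U')),
      (a • (show (Q T).val.obj (op U) from T.val.map (toO st) z) : (Q T).val.obj (op U)) =
        T.val.map (toO st) ((show Rf.obj.obj (topO U') from φ.hom.app (op U) a) • z) := by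
    intro T a z
    let w : T.val.obj st := T.val.map (toO st) z
    show ((SheafOfModules.pushforwardOver (R := R) U').hom.app (op U') (φ.hom.app (op U) a)) • w = _
    refine Eq.trans ?_ (PresheafOfModules.map_smul T.val (toO st) _ z).symm
    refine congrArg (· • w) ?_
    show R.obj.map prod.snd.op (φ.hom.app (op U) a) = R.obj.map _ (φ.hom.app (op U) a)
    congr 3
    exact Quiver.Hom.unop_inj (Subsingleton.elim _ _)
  have hsupp : ∀ (T : SheafOfModules.{u} Rf) (W : Opens Y),
      Function.Bijective (res (Q T) (inf_le_left : W ⊓ U ≤ W)) := by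
    intro T W
    let a : (Over.star U').obj ((Opens.map g).obj (W ⊓ U)) ⟶ (Over.star U').obj ((Opens.map g).obj W) :=
      (Over.star U').map ((Opens.map g).map (homOfLE inf_le_left))
    let b : (Over.star U').obj ((Opens.map g).obj W) ⟶ (Over.star U').obj ((Opens.map g).obj (W ⊓ U)) :=
      (Over.forgetAdjStar U').homEquiv _ _ (homOfLE fun x hx =>
        ⟨leOfHom (prod.snd : U' ⨯ (Opens.map g).obj W ⟶ _) hx,
          leOfHom (prod.fst : U' ⨯ (Opens.map g).obj W ⟶ _) hx⟩)
    haveI : IsIso a := ⟨b, (over_hom_subsingleton _ _).elim _ _, (over_hom_subsingleton _ _).elim _ _⟩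
    refine Function.bijective_iff_has_inverse.2 ⟨fun z => T.val.map (inv a).op z, fun z => ?_, fun z => ?_⟩
    · show T.val.map (inv a).op (T.val.map a.op z) = z
      rw [← PresheafOfModules.map_comp_apply, ← op_comp, IsIso.inv_hom_id, op_id]
      exact LinearMap.congr_fun (congrArg ModuleCat.Hom.hom (T.val.map_id _)) z
    · show T.val.map a.op (T.val.map (inv a).op z) = z
      rw [← PresheafOfModules.map_comp_apply, ← op_comp, IsIso.hom_inv_id, op_id]
      exact LinearMap.congr_fun (congrArg ModuleCat.Hom.hom (T.val.map_id _)) z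
  have huniq : ∀ (T : SheafOfModules.{u} Rf) (f f' : A ⟶ T),
      (∀ i, (f.val.app (topO U')).hom (t i) = (f'.val.app (topO U')).hom (t i)) → f = f' := by
    intro T f f' hff'
    have hq : ∀ j, ∑ i, r j i • ((hom T f).val.app (op U)).hom (s i) = 0 := fun j => by
      rw [← map_zero ((hom T f).val.app (op U)).hom, ← hp.rel_zero j, map_sum]
      exact Finset.sum_congr rfl fun i _ => (map_smul _ _ _).symm
    exact (hom T).injective ((existsUnique_hom_of_locPres hp (hsupp T) _ hq).unique (fun _ => rfl) fun i => by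
      rw [hhom, hhom, hff' i])
  have hex : ∀ (T : SheafOfModules.{u} Rf) (q : Fin n → T.val.obj (topO U')), (∀ j, ∑ i, ρ j i • q i = 0) →
      ∃ f : A ⟶ T, ∀ i, (f.val.app (topO U')).hom (t i) = q i := by
    intro T q hq
    obtain ⟨θ, hθ, -⟩ := existsUnique_hom_of_locPres hp (hsupp T)
      (fun i => (show (Q T).val.obj (op U) from T.val.map (toO st) (q i))) (fun j => by
        refine Eq.trans (Finset.sum_congr rfl fun i _ => hsm T (r j i) (q i)) ?_
        refine Eq.trans (map_sum (T.val.map (toO st)).hom _ _).symm ?_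
        exact (congrArg (T.val.map (toO st)).hom (hq j)).trans (map_zero _))
    refine ⟨(hom T).symm θ, fun i => hinj T ?_⟩
    rw [← hhom, Equiv.apply_symm_apply]
    exact hθ i
  have ht : ∀ j, ∑ i, ρ j i • t i = 0 := fun j => by
    refine Eq.trans ?_ ((congrArg ((adj.unit.app M).val.app (op U)).hom (hp.rel_zero j)).trans (map_zero _))
    rw [map_sum]
    exact Finset.sum_congr rfl fun i _ => (map_smul ((adj.unit.app M).val.app (op U)).hom (r j i) (s i)).symm
  -- the presentation
  let N : ULift.{u} (Fin m) → (SheafOfModules.free (R := Rf) (ULift.{u} (Fin n))).val.obj (topO U') :=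
    fun j => ∑ i : ULift.{u} (Fin n), ρ j.down i.down • e (R := R) (U := U') (ULift.{u} (Fin n)) i (topO U')
  let f := freeDesc (R := R) (U := U') N
  let C := cokernel f
  let π : SheafOfModules.free (R := Rf) (ULift.{u} (Fin n)) ⟶ C := cokernel.π f
  let c : Fin n → C.val.obj (topO U') := fun i => (π.val.app (topO U')).hom (e (R := R) (U := U') _ ⟨i⟩ (topO U'))
  have hc : ∀ j, ∑ i, ρ j i • c i = 0 := fun j => by
    refine Eq.trans ?_ (hom_zero_app (cokernel.condition f) (topO U') (e (R := R) (U := U') _ ⟨j⟩ (topO U')))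
    rw [show (f.val.app (topO U')).hom (e (R := R) (U := U') _ ⟨j⟩ (topO U')) = N ⟨j⟩ from freeDesc_e_top N ⟨j⟩]
    show _ = (π.val.app (topO U')).hom (∑ i : ULift.{u} (Fin n), _)
    rw [map_sum]
    refine (Fintype.sum_equiv Equiv.ulift.symm _ _ fun i => ?_)
    rw [map_smul]
    rfl
  obtain ⟨Φ, hΦ⟩ := hex C c hc
  have hfl : f ≫ freeDesc (R := R) (U := U') (fun i : ULift.{u} (Fin n) => t i.down) = 0 := by
    refine free_hom_ext _ _ fun j => ?_
    show ((freeDesc (R := R) (U := U') (fun i : ULift.{u} (Fin n) => t i.down)).val.app (topO U')).hom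
      ((f.val.app (topO U')).hom (e (R := R) (U := U') _ j (topO U'))) = 0
    refine Eq.trans (congrArg _ (freeDesc_e_top N j)) ?_
    show ((freeDesc (R := R) (U := U') (fun i : ULift.{u} (Fin n) => t i.down)).val.app (topO U')).hom
      (∑ i : ULift.{u} (Fin n), _) = 0
    rw [map_sum]
    refine Eq.trans ?_ (ht j.down)
    refine Fintype.sum_equiv Equiv.ulift _ _ fun i => ?_
    rw [map_smul, freeDesc_e_top]
    rfl
  let Ψ : C ⟶ A := cokernel.desc f _ hfl
  have hΨ : ∀ i, (Ψ.val.app (topO U')).hom (c i) = t i := fun i => by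
    refine Eq.trans ?_ (freeDesc_e_top (fun i : ULift.{u} (Fin n) => t i.down) ⟨i⟩)
    exact LinearMap.congr_fun (congrArg (fun k => ((k : _ ⟶ A).val.app (topO U')).hom) (cokernel.π_desc f _ hfl))
      (e (R := R) (U := U') _ ⟨i⟩ (topO U'))
  have e1 : Φ ≫ Ψ = 𝟙 A := huniq A _ _ fun i => by
    show (Ψ.val.app (topO U')).hom ((Φ.val.app (topO U')).hom (t i)) = t i
    rw [hΦ, hΨ]
  have e2 : Ψ ≫ Φ = 𝟙 C := by
    refine (cancel_epi π).1 (free_hom_ext _ _ fun i => ?_)
    show (Φ.val.app (topO U')).hom ((Ψ.val.app (topO U')).hom (c i.down)) = c i.down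
    rw [hΨ, hΦ]
  let P := SheafOfModules.presentationOfIsCokernelFree.{u} f π (cokernel.condition f) (cokernelIsCokernel f)
  haveI : IsIso Ψ := ⟨Φ, e2, e1⟩
  haveI : P.IsFinite :=
    ⟨⟨inferInstanceAs (Finite (ULift.{u} (Fin n)))⟩, ⟨inferInstanceAs (Finite (ULift.{u} (Fin m)))⟩⟩
  exact ⟨SheafOfModules.Presentation.ofIsIso.{u} Ψ P,
    inferInstanceAs ((SheafOfModules.Presentation.ofIsIso.{u} Ψ P).IsFinite)⟩
where
  hom_zero_app {R' : Sheaf ((Opens.grothendieckTopology X).over ((Opens.map g).obj U)) RingCat.{u}}
      {A B C : SheafOfModules.{u} R'} {a : A ⟶ B} {b : B ⟶ C} (w : a ≫ b = 0)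
      (W : (Over ((Opens.map g).obj U))ᵒᵖ) (z : A.val.obj W) : (b.val.app W).hom ((a.val.app W).hom z) = 0 :=
    LinearMap.congr_fun (congrArg (fun k => ((k : A ⟶ C).val.app W).hom) w) z

/-- Inverse images preserve finite presentation. -/
theorem isFinitePresentation_pullback (M : SheafOfModules.{u} S) [M.IsFinitePresentation] :
    ((SheafOfModules.pullback.{u} φ).obj M).IsFinitePresentation := by
  choose U hU n m s r hp using fun x : X => exists_locPres M (g x)
  choose P hP using fun x => exists_presentation_pullback g φ (hp x)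
  let q : SheafOfModules.QuasicoherentData.{u} (R := R) ((SheafOfModules.pullback.{u} φ).obj M) :=
    SheafOfModules.QuasicoherentData.mk.{u, u, u, u} (R := R) (↥X) (fun x => (Opens.map g).obj (U x))
      (coversTop _ fun x => ⟨x, hU x⟩) P
  refine SheafOfModules.IsFinitePresentation.mk (R := R) ?_
  exact ⟨q, SheafOfModules.QuasicoherentData.IsFinitePresentation.mk (R := R) (q := q) hP⟩

end Groth.L17.FSheaf
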