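import Groth.Agent.L17.FSheaf.CompSect
import Groth.Agent.L17.FSheaf.OfLevels
import Groth.Agent.L17.FSheaf.PullFP
import Groth.Agent.L15.Ref.FreeLocus

/-!
# Inverse image to a completion
-/

set_option autoImplicit false
set_option linter.style.haveILetI false
set_option linter.unusedSectionVars false
set_option backward.isDefEq.respectTransparency false
set_option backward.isDefEq.respectTransparency.types false

universe u

open CategoryTheory CategoryTheory.Limits AlgebraicGeometry TopologicalSpace Opposite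

noncomputable section

namespace Groth.L17.FSheaf

open Groth.L18.Frame (rs ro pull rs_rs rs_self)

variable {X : Scheme.{u}} (𝔛 : FSch.Sys.{u}) (h : 𝔛.IsFormal) (p : ∀ k, 𝔛.X k ⟶ X)
  (hp : ∀ k, 𝔛.ι k ≫ p (k + 1) = p k)

/-- The morphism to the scheme. -/
abbrev kap : ModSite.RMor (𝔛.Osh h) X.sheaf := FSch.toSchemeMor 𝔛 h p hp

theorem isIso_schPushCompare (k : ℕ) (T : (𝔛.X k).Modules) :
    IsIso ((FSch.schPushCompare 𝔛 h p hp k).app T) := by
  refine (Scheme.Modules.Hom.isIso_iff_isIso_app (M := (Scheme.Modules.pushforward (p k)).obj T)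
    (N := (kap 𝔛 h p hp).push.obj ((FSch.levelMor 𝔛 h k).push.obj T))).2 fun W => ?_
  refine (ConcreteCategory.isIso_iff_bijective _).2 ?_
  refine Function.bijective_iff_has_inverse.2 ⟨fun z => rs T (FSch.lvU_p 𝔛 h p hp k W).le z, fun z => ?_, fun z => ?_⟩
  · show rs T _ (rs T (pU_le 𝔛 h p hp k W) z) = z
    rw [rs_rs, rs_self]
  · show rs T (pU_le 𝔛 h p hp k W) (rs T _ z) = z
    rw [rs_rs, rs_self]

variable (F : X.Modules)

/-- The morphisms from the inverse image to the levels. -/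
abbrev pullCone (k : ℕ) : (kap 𝔛 h p hp).pull.obj F ⟶
    (FSch.levelMor 𝔛 h k).push.obj ((pullSys 𝔛 p hp F).F k) :=
  ((kap 𝔛 h p hp).adj.homEquiv _ _).symm
    ((Scheme.Modules.pullbackPushforwardAdjunction (p k)).unit.app F ≫
      (FSch.schPushCompare 𝔛 h p hp k).app ((Scheme.Modules.pullback (p k)).obj F))

theorem pullCone_comp (k : ℕ) :
    pullCone 𝔛 h p hp F (k + 1) ≫ (FSch.levelMor 𝔛 h (k + 1)).push.map ((pullSys 𝔛 p hp F).toPush k) ≫
      (FSch.pushCompare 𝔛 h k).app ((pullSys 𝔛 p hp F).F k) = pullCone 𝔛 h p hp F k := by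
  refine ((kap 𝔛 h p hp).adj.homEquiv _ _).injective ?_
  refine (Adjunction.homEquiv_naturality_right _ _ _).trans ?_
  refine Eq.trans (congrArg (· ≫ (kap 𝔛 h p hp).push.map _) (Equiv.apply_symm_apply _ _)) ?_
  refine Eq.trans ?_ (Equiv.apply_symm_apply _ _).symm
  apply Scheme.Modules.hom_ext
  intro W
  ext m
  show (((FSch.levelMor 𝔛 h (k + 1)).push.map ((pullSys 𝔛 p hp F).toPush k) ≫
      (FSch.pushCompare 𝔛 h k).app ((pullSys 𝔛 p hp F).F k)).val.app (op (pU 𝔛 p W))).hom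
        (pW 𝔛 h p hp F (k + 1) W m) = pW 𝔛 h p hp F k W m
  rw [← FSch.levelSysOf_map_succ 𝔛 h (pullSys 𝔛 p hp F).F (pullSys 𝔛 p hp F).toPush k]
  exact tM_pW 𝔛 h p hp F k W m

theorem isIso_pullCone (k : ℕ) :
    IsIso (((FSch.levelMor 𝔛 h k).adj.homEquiv _ _).symm (pullCone 𝔛 h p hp F k)) := by
  refine isIso_of_coyoneda_map_bijective _ fun T => ?_
  haveI := isIso_schPushCompare 𝔛 h p hp k T
  let e : ((pullSys 𝔛 p hp F).F k ⟶ T) ≃ ((FSch.levelMor 𝔛 h k).pull.obj ((kap 𝔛 h p hp).pull.obj F) ⟶ T) :=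
    ((Scheme.Modules.pullbackPushforwardAdjunction (p k)).homEquiv F T).trans
      (((asIso ((FSch.schPushCompare 𝔛 h p hp k).app T)).homToEquiv).trans
        (((kap 𝔛 h p hp).adj.homEquiv F _).symm.trans ((FSch.levelMor 𝔛 h k).adj.homEquiv _ T).symm))
  refine (show ⇑e = (fun x => ((FSch.levelMor 𝔛 h k).adj.homEquiv _ _).symm (pullCone 𝔛 h p hp F k) ≫ x) from
    funext fun g => ?_) ▸ e.bijective
  rw [← Adjunction.homEquiv_naturality_right_symm]
  refine congrArg ((FSch.levelMor 𝔛 h k).adj.homEquiv _ T).symm ?_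
  rw [pullCone, ← Adjunction.homEquiv_naturality_right_symm]
  refine congrArg ((kap 𝔛 h p hp).adj.homEquiv F _).symm ?_
  show (Scheme.Modules.pullbackPushforwardAdjunction (p k)).homEquiv F T g ≫
    (FSch.schPushCompare 𝔛 h p hp k).app T = _
  rw [Adjunction.homEquiv_unit, Category.assoc, Category.assoc]
  exact congrArg _ ((FSch.schPushCompare 𝔛 h p hp k).naturality g)

variable (hX : 𝔛.IsLocNoethFormal) [IsLocallyNoetherian X]

theorem isCohF_pull (hF : Coh.IsCoh F) : FSch.IsCohF 𝔛 hX.1 ((kap 𝔛 hX.1 p hp).pull.obj F) := by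
  haveI : SheafOfModules.IsFinitePresentation (R := ModSite.ringSh X.sheaf) F := Groth.L15.Ref.isFP_of_isCoh hF
  exact isFinitePresentation_pullback (R := ModSite.ringSh (𝔛.Osh hX.1)) (S := ModSite.ringSh X.sheaf) (p 0).base
    (kap 𝔛 hX.1 p hp).sharpR F

/-- The inverse image of a coherent module is the limit of its inverse images to the levels. -/
theorem exists_pull_iso_pullSys (hF : Coh.IsCoh F) :
    ∃ e : (kap 𝔛 hX.1 p hp).pull.obj F ≅ (pullSys 𝔛 p hp F).realMod hX.1,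
      ∀ k, ((kap 𝔛 hX.1 p hp).adj.homEquiv _ _ e.hom) ≫
          (kap 𝔛 hX.1 p hp).push.map
            (FSch.realProj 𝔛 hX.1 (pullSys 𝔛 p hp F).F (pullSys 𝔛 p hp F).toPush k) =
        (Scheme.Modules.pullbackPushforwardAdjunction (p k)).unit.app F ≫
          (FSch.schPushCompare 𝔛 hX.1 p hp k).app ((Scheme.Modules.pullback (p k)).obj F) := by
  haveI := isIso_liftReal 𝔛 hX _ (isCohF_pull 𝔛 p hp F hX hF) (pullSys 𝔛 p hp F)
    (pullCone 𝔛 hX.1 p hp F) (pullCone_comp 𝔛 hX.1 p hp F) (isIso_pullCone 𝔛 hX.1 p hp F)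
  refine ⟨asIso (liftReal 𝔛 hX _ (pullSys 𝔛 p hp F) (pullCone 𝔛 hX.1 p hp F) (pullCone_comp 𝔛 hX.1 p hp F)),
    fun k => ?_⟩
  refine (Adjunction.homEquiv_naturality_right _ _ _).symm.trans ?_
  refine (congrArg ((kap 𝔛 hX.1 p hp).adj.homEquiv _ _) (liftReal_proj 𝔛 hX _ (pullSys 𝔛 p hp F)
    (pullCone 𝔛 hX.1 p hp F) (pullCone_comp 𝔛 hX.1 p hp F) k)).trans ?_
  exact Equiv.apply_symm_apply _ _

end Groth.L17.FSheaf
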