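import Groth.Agent.L17.FSheaf.CohSect

/-!
# Kernels, cokernels and images of morphisms of coherent modules
-/

set_option autoImplicit false
set_option linter.style.haveILetI false
set_option linter.unusedSectionVars false
set_option backward.isDefEq.respectTransparency false
set_option backward.isDefEq.respectTransparency.types false

universe u

open CategoryTheory CategoryTheory.Limits AlgebraicGeometry TopologicalSpace Opposite

noncomputable section

namespace Groth.L17.FSheaf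

section Gen

variable {Y : TopCat.{u}} {R : Sheaf (Opens.grothendieckTopology Y) RingCat.{u}}

/-- Epimorphisms are locally surjective on sections. -/
theorem exists_lift {A B : SheafOfModules.{u} R} (p : A ⟶ B) [Epi p] {W : Opens Y} (y : B.val.obj (op W))
    (x : Y) (hx : x ∈ W) : ∃ (V : Opens Y) (hV : V ≤ W), x ∈ V ∧
      ∃ a : A.val.obj (op V), (p.val.app (op V)).hom a = res B hV y := by
  haveI := Groth.L15.KFlatSite.preservesColimits_toSheaf R
  haveI : Sheaf.IsLocallySurjective ((SheafOfModules.toSheaf.{u} _).map p) :=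
    (Sheaf.isLocallySurjective_iff_epi' _ _).2 inferInstance
  have hS := Presheaf.imageSieve_mem (Opens.grothendieckTopology Y)
    ((SheafOfModules.toSheaf.{u} _).map p).hom (U := op W) y
  obtain ⟨V, f, hf, hxV⟩ := hS x hx
  obtain ⟨a, ha⟩ := hf
  exact ⟨V, leOfHom f, hxV, a, ha⟩

theorem hom_comp_zero {A B C : SheafOfModules.{u} R} {p : A ⟶ B} {q : B ⟶ C} (w : p ≫ q = 0)
    (W : (Opens Y)ᵒᵖ) (z : A.val.obj W) : (q.val.app W).hom ((p.val.app W).hom z) = 0 :=
  LinearMap.congr_fun (congrArg (fun t => ((t : A ⟶ C).val.app W).hom) w) z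

/-- Sections killed by a cokernel projection are locally in the image. -/
theorem exists_preimage_of_coker {A B : SheafOfModules.{u} R} (θ : A ⟶ B) {W : Opens Y} (y : B.val.obj (op W))
    (hy : ((cokernel.π θ).val.app (op W)).hom y = 0) (x : Y) (hx : x ∈ W) :
    ∃ (V : Opens Y) (hV : V ≤ W), x ∈ V ∧ ∃ a : A.val.obj (op V), (θ.val.app (op V)).hom a = res B hV y := by
  obtain ⟨k, hk⟩ := (exists_kernel_sect (cokernel.π θ) (op W)).1 y hy
  obtain ⟨V, hV, hxV, a, ha⟩ := exists_lift (Abelian.factorThruImage θ) k x hx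
  refine ⟨V, hV, hxV, a, ?_⟩
  have h1 : (θ.val.app (op V)).hom a =
      ((kernel.ι (cokernel.π θ)).val.app (op V)).hom (((Abelian.factorThruImage θ).val.app (op V)).hom a) :=
    (LinearMap.congr_fun (congrArg (fun t => ((t : A ⟶ B).val.app (op V)).hom) (Abelian.image.fac θ)) a).symm
  rw [h1, ha]
  exact (PresheafOfModules.naturality_apply (kernel.ι (cokernel.π θ)).val (homOfLE hV).op k).trans
    (congrArg (res B hV) hk)

end Gen

variable (𝔛 : FSch.Sys.{u}) (hX : 𝔛.IsLocNoethFormal) {𝔉 𝔊 : FSch.ModF 𝔛 hX.1}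
  (h𝔉 : FSch.IsCohF 𝔛 hX.1 𝔉) (h𝔊 : FSch.IsCohF 𝔛 hX.1 𝔊) (θ : 𝔉 ⟶ 𝔊)

/-- The relations among finitely many sections on an affine open are finitely generated. -/
theorem exists_relations {U : (𝔛.X 0).Opens} (hU : IsAffineOpen U) {n : ℕ} (f : Fin n → SF 𝔛 hX.1 𝔊 U) :
    ∃ (m : ℕ) (r : Fin m → Fin n → O 𝔛 hX.1 U), (∀ j, ∑ i, r j i • f i = 0) ∧
      ∀ c : Fin n → O 𝔛 hX.1 U, ∑ i, c i • f i = 0 →
        ∃ d : Fin m → O 𝔛 hX.1 U, ∀ i, c i = ∑ j, d j * r j i := by
  haveI := (O_spec 𝔛 hX hU).1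
  let π := Fintype.linearCombination (O 𝔛 hX.1 U) f
  obtain ⟨m, r, hr⟩ := Module.Finite.exists_fin (R := O 𝔛 hX.1 U) (M := LinearMap.ker π)
  refine ⟨m, fun j => (r j).1, fun j => (r j).2, fun c hc => ?_⟩
  obtain ⟨d, hd⟩ := (Submodule.mem_span_range_iff_exists_fun _).1
    (hr ▸ Submodule.mem_top : (⟨c, hc⟩ : LinearMap.ker π) ∈ _)
  refine ⟨d, fun i => ?_⟩
  have := congrArg (fun z : LinearMap.ker π => (z : Fin n → O 𝔛 hX.1 U) i) hd
  simpa using this.symm

include h𝔉 h𝔊 in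
/-- Kernels of morphisms of coherent modules are coherent. -/
theorem isCohF_kernel : FSch.IsCohF 𝔛 hX.1 (kernel θ) := by
  refine isFinitePresentation_of_local (R := ModSite.ringSh (𝔛.Osh hX.1))
    (B := {V | IsAffineOpen (V : (𝔛.X 0).Opens)}) (𝔛.X 0).isBasis_affineOpens _ fun x => ?_
  obtain ⟨_, ⟨U, hU, rfl⟩, hxU, -⟩ :=
    (𝔛.X 0).isBasis_affineOpens.exists_subset_of_mem_open (Set.mem_univ x) isOpen_univ
  obtain ⟨n, _, g, _, -, hg⟩ := exists_gen_rel_SF 𝔛 hX h𝔉 hU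
  let f : Fin n → SF 𝔛 hX.1 𝔊 U := fun i => (θ.val.app (op U)).hom (g i)
  obtain ⟨l, c, hc0, hc⟩ := exists_relations 𝔛 hX (𝔊 := 𝔊) hU f
  let z : Fin l → SF 𝔛 hX.1 𝔉 U := fun j => ∑ i, c j i • g i
  have hz : ∀ j, (θ.val.app (op U)).hom (z j) = 0 := fun j => by
    refine Eq.trans ((map_sum (θ.val.app (op U)).hom _ _).trans (Finset.sum_congr rfl fun i _ => ?_)) (hc0 j)
    exact map_smul _ _ _
  choose k hk using fun j => (exists_kernel_sect θ (op U)).1 _ (hz j)
  obtain ⟨m, r, hr0, hr⟩ := exists_relations 𝔛 hX (𝔊 := 𝔉) hU z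
  have hkres : ∀ {V : (𝔛.X 0).Opens} (hVU : V ≤ U) (j : Fin l),
      ((kernel.ι θ).val.app (op V)).hom (res (R := ModSite.ringSh (𝔛.Osh hX.1)) (kernel θ) hVU (k j)) =
        res (R := ModSite.ringSh (𝔛.Osh hX.1)) 𝔉 hVU (z j) := fun hVU j =>
    (PresheafOfModules.naturality_apply (kernel.ι θ).val (homOfLE hVU).op (k j)).trans (congrArg _ (hk j))
  refine ⟨U, hxU, l, m, k, r, fun V hV hVU => eq_top_iff.2 fun y _ => ?_, fun j => ?_, fun V hV hVU a ha => ?_⟩
  · obtain ⟨b, hb⟩ := (Submodule.mem_span_range_iff_exists_fun _).1 ((hg hV hVU).1 ▸ Submodule.mem_top :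
      (show SF 𝔛 hX.1 𝔉 V from ((kernel.ι θ).val.app (op V)).hom y) ∈ _)
    obtain ⟨d, hd⟩ := rel_restrict_mod 𝔛 hX h𝔊 hU hV hVU f c hc b (by
      refine Eq.trans ?_ ((congrArg (θ.val.app (op V)).hom hb).trans (hom_comp_zero (kernel.condition θ) _ y))
      rw [map_sum]
      refine Finset.sum_congr rfl fun i _ => ?_
      refine Eq.trans ?_ (map_smul (θ.val.app (op V)).hom _ _).symm
      exact congrArg (b i • ·) (PresheafOfModules.naturality_apply θ.val (homOfLE hVU).op (g i)).symm)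
    refine (Submodule.mem_span_range_iff_exists_fun _).2 ⟨d, (exists_kernel_sect θ (op V)).2 ?_⟩
    rw [map_sum]
    refine Eq.trans (Finset.sum_congr rfl fun j _ => ((map_smul _ _ _).trans (congrArg (d j • ·) (hkres hVU j)))) ?_
    refine Eq.trans ?_ hb
    simp only [z, res_sum, Finset.smul_sum]
    rw [Finset.sum_comm]
    refine Finset.sum_congr rfl fun i _ => ?_
    let w : SF 𝔛 hX.1 𝔉 V := res (R := ModSite.ringSh (𝔛.Osh hX.1)) 𝔉 hVU (g i)
    show _ = b i • w
    rw [hd i, Finset.sum_smul]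
    refine Finset.sum_congr rfl fun j _ => ?_
    rw [mul_smul]
    exact congrArg (d j • ·) (res_smul _ hVU (c j i) (g i))
  · refine (exists_kernel_sect θ (op U)).2 ?_
    rw [map_sum, map_zero]
    refine Eq.trans (Finset.sum_congr rfl fun i _ => ?_) (hr0 j)
    exact (map_smul _ _ _).trans (congrArg (r j i • ·) (hk i))
  · refine rel_restrict_mod 𝔛 hX h𝔉 hU hV hVU z r hr a ?_
    refine Eq.trans ?_ ((congrArg ((kernel.ι θ).val.app (op V)).hom ha).trans (map_zero _))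
    rw [map_sum]
    exact Finset.sum_congr rfl fun i _ => ((map_smul _ _ _).trans (congrArg (a i • ·) (hkres hVU i))).symm

include h𝔉 h𝔊 in
/-- Cokernels of morphisms of coherent modules are coherent. -/
theorem isCohF_cokernel : FSch.IsCohF 𝔛 hX.1 (cokernel θ) := by
  classical
  refine isFinitePresentation_of_locPres (R := ModSite.ringSh (𝔛.Osh hX.1)) _ fun x => ?_
  obtain ⟨_, ⟨U, hU, rfl⟩, hxU, -⟩ :=
    (𝔛.X 0).isBasis_affineOpens.exists_subset_of_mem_open (Set.mem_univ x) isOpen_univ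
  obtain ⟨n, m, g, r, hr0, hg⟩ := exists_gen_rel_SF 𝔛 hX h𝔊 hU
  obtain ⟨p, _, gF, _, -, hgF⟩ := exists_gen_rel_SF 𝔛 hX h𝔉 hU
  obtain ⟨hspanU, -⟩ := hg hU le_rfl
  have hb : ∀ j, ∃ b : Fin n → O 𝔛 hX.1 U, ∑ i, b i • g i = (θ.val.app (op U)).hom (gF j) := fun j => by
    obtain ⟨b, hb⟩ := (Submodule.mem_span_range_iff_exists_fun _).1 (hspanU ▸ Submodule.mem_top :
      (show SF 𝔛 hX.1 𝔊 U from (θ.val.app (op U)).hom (gF j)) ∈ _)
    exact ⟨b, Eq.trans (Finset.sum_congr rfl fun i _ => by rw [res_self]) hb⟩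
  choose b hb using hb
  let π := cokernel.π θ
  refine ⟨U, hxU, n, m + p, fun i => (π.val.app (op U)).hom (g i), Fin.append r b, ?_, ?_, ?_⟩
  · intro W hW y hy z
    obtain ⟨V₀, hV₀, hyV₀, a, ha⟩ := exists_lift π z y hy
    obtain ⟨V, hV, hyV, hVV₀⟩ := Opens.isBasis_iff_nbhd.1 (𝔛.X 0).isBasis_affineOpens hyV₀
    have hVU : V ≤ U := hVV₀.trans (hV₀.trans hW)
    obtain ⟨c, hc⟩ := (Submodule.mem_span_range_iff_exists_fun _).1 ((hg hV hVU).1 ▸ Submodule.mem_top :
      res (R := ModSite.ringSh (𝔛.Osh hX.1)) 𝔊 hVV₀ a ∈ _)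
    refine ⟨V, hVV₀.trans hV₀, hyV, c, ?_⟩
    rw [← res_res _ hV₀ hVV₀ z, ← ha]
    refine (PresheafOfModules.naturality_apply π.val (homOfLE hVV₀).op a).symm.trans ?_
    refine (congrArg (π.val.app (op V)).hom hc.symm).trans ?_
    rw [map_sum]
    refine Finset.sum_congr rfl fun i _ => ?_
    exact (map_smul _ _ _).trans (congrArg (c i • ·) (PresheafOfModules.naturality_apply π.val (homOfLE hVU).op (g i)))
  · refine Fin.addCases (fun j => ?_) (fun j => ?_)
    · simp only [Fin.append_left]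
      refine Eq.trans ?_ ((congrArg (π.val.app (op U)).hom (hr0 j)).trans (map_zero _))
      rw [map_sum]
      exact Finset.sum_congr rfl fun i _ => (map_smul _ _ _).symm
    · simp only [Fin.append_right]
      refine Eq.trans ?_ ((congrArg (π.val.app (op U)).hom (hb j)).trans (hom_comp_zero (cokernel.condition θ) _ (gF j)))
      rw [map_sum]
      exact Finset.sum_congr rfl fun i _ => (map_smul _ _ _).symm
  · intro W hW c hc y hy
    obtain ⟨V₀, hV₀, hyV₀, a, ha⟩ := exists_preimage_of_coker θ (∑ i, c i • res 𝔊 hW (g i)) (by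
      refine Eq.trans ?_ hc
      rw [map_sum]
      refine Finset.sum_congr rfl fun i _ => ?_
      exact (map_smul _ _ _).trans (congrArg (c i • ·) (PresheafOfModules.naturality_apply π.val (homOfLE hW).op (g i))))
      y hy
    obtain ⟨V, hV, hyV, hVV₀⟩ := Opens.isBasis_iff_nbhd.1 (𝔛.X 0).isBasis_affineOpens hyV₀
    have hVU : V ≤ U := hVV₀.trans (hV₀.trans hW)
    obtain ⟨e, he⟩ := (Submodule.mem_span_range_iff_exists_fun _).1 ((hgF hV hVU).1 ▸ Submodule.mem_top :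
      res (R := ModSite.ringSh (𝔛.Osh hX.1)) 𝔉 hVV₀ a ∈ _)
    have h1 : ∑ i, rres (R := ModSite.ringSh (𝔛.Osh hX.1)) (hVV₀.trans hV₀) (c i) • res 𝔊 hVU (g i) =
        ∑ i, (∑ j, e j * resO 𝔛 hX.1 hVU (b j i)) • res (R := ModSite.ringSh (𝔛.Osh hX.1)) 𝔊 hVU (g i) := by
      rw [← res_comb 𝔊 hW (hVV₀.trans hV₀), ← res_res _ hV₀ hVV₀, ← ha]
      refine (PresheafOfModules.naturality_apply θ.val (homOfLE hVV₀).op a).symm.trans ?_
      refine (congrArg (θ.val.app (op V)).hom he.symm).trans ?_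
      simp only [Finset.sum_smul]
      rw [map_sum, Finset.sum_comm]
      refine Finset.sum_congr rfl fun j _ => ?_
      refine (map_smul _ _ _).trans ?_
      refine (congrArg (e j • ·) ((PresheafOfModules.naturality_apply θ.val (homOfLE hVU).op (gF j)).trans
        (congrArg (res (R := ModSite.ringSh (𝔛.Osh hX.1)) 𝔊 hVU) (hb j).symm))).trans ?_
      rw [res_sum, Finset.smul_sum]
      refine Finset.sum_congr rfl fun i _ => ?_
      rw [res_smul, ← mul_smul]
      rfl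
    obtain ⟨d, hd⟩ := (hg hV hVU).2
      (fun i => (show O 𝔛 hX.1 V from rres (R := ModSite.ringSh (𝔛.Osh hX.1)) (hVV₀.trans hV₀) (c i)) - ∑ j, e j * resO 𝔛 hX.1 hVU (b j i)) (by
      simp only [sub_smul, Finset.sum_sub_distrib]
      rw [sub_eq_zero]
      exact h1)
    refine ⟨V, hVV₀.trans hV₀, hyV, Fin.append d e, fun i => ?_⟩
    rw [Fin.sum_univ_add]
    simp only [Fin.append_left, Fin.append_right]
    exact sub_eq_iff_eq_add.1 (hd i)

include h𝔉 h𝔊 in
/-- Images of morphisms of coherent modules are coherent. -/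
theorem isCohF_image : FSch.IsCohF 𝔛 hX.1 (Abelian.image θ) :=
  isCohF_kernel 𝔛 hX h𝔊 (isCohF_cokernel 𝔛 hX h𝔉 h𝔊 θ) (cokernel.π θ)

include h𝔉 h𝔊 in
/-- On affine opens the image on sections is the kernel of the projection to the cokernel. -/
theorem exists_preimage_sect {U : (𝔛.X 0).Opens} (hU : IsAffineOpen U) (y : SF 𝔛 hX.1 𝔊 U)
    (hy : ((cokernel.π θ).val.app (op U)).hom y = 0) : ∃ x, (θ.val.app (op U)).hom x = y := by
  obtain ⟨k, hk⟩ := (exists_kernel_sect (cokernel.π θ) (op U)).1 y hy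
  obtain ⟨x, hx⟩ := surjective_of_epi 𝔛 hX h𝔉 (isCohF_image 𝔛 hX h𝔉 h𝔊 θ) (Abelian.factorThruImage θ) hU k
  refine ⟨x, ?_⟩
  rw [← hk, ← hx]
  exact (LinearMap.congr_fun (congrArg (fun t => ((t : 𝔉 ⟶ 𝔊).val.app (op U)).hom) (Abelian.image.fac θ)) x).symm

end Groth.L17.FSheaf
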