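import Groth.Agent.L00.AlgQCohFin

/-!
# Finite presentation of modules on a ringed space from sections on a basis
-/

set_option autoImplicit false
set_option linter.style.haveILetI false
set_option linter.unusedSectionVars false
set_option backward.isDefEq.respectTransparency false
set_option backward.isDefEq.respectTransparency.types false

universe u

open CategoryTheory CategoryTheory.Limits TopologicalSpace Opposite

noncomputable section

namespace Groth.L17.FSheaf

variable {X : TopCat.{u}} {R : Sheaf (Opens.grothendieckTopology X) RingCat.{u}}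

/-- Restriction of sections of a module. -/
abbrev res (M : SheafOfModules.{u} R) {U V : Opens X} (h : V ≤ U) :
    M.val.obj (op U) → M.val.obj (op V) :=
  fun x => M.val.map (homOfLE h).op x

/-- Restriction of functions. -/
abbrev rres {U V : Opens X} (h : V ≤ U) : R.obj.obj (op U) → R.obj.obj (op V) :=
  fun x => R.obj.map (homOfLE h).op x

section Over

variable {U : Opens X}

/-- The open itself, in the site over it. -/
abbrev topO (U : Opens X) : (Over U)ᵒᵖ := op (Over.mk (𝟙 U))

/-- A smaller open, in the site over an open. -/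
abbrev objO {V : Opens X} (h : V ≤ U) : (Over U)ᵒᵖ := op (Over.mk (homOfLE h))

/-- The map from the top. -/
abbrev toO (W : (Over U)ᵒᵖ) : topO U ⟶ W := (Over.mkIdTerminal.from W.unop).op

/-- A section from its value on the whole open. -/
def ofTop (G : SheafOfModules.{u} (R.over U)) (z : G.val.obj (topO U)) : G.sections :=
  PresheafOfModules.sectionsMk (fun W => G.val.map (toO W) z) fun W W' f => by
    rw [show toO W' = toO W ≫ f from Quiver.Hom.unop_inj (Over.mkIdTerminal.hom_ext _ _)]
    exact (PresheafOfModules.map_comp_apply G.val (toO W) f z).symm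

theorem ofTop_obj (G : SheafOfModules.{u} (R.over U)) (z : G.val.obj (topO U)) (W : (Over U)ᵒᵖ) :
    (ofTop G z).val W = G.val.map (toO W) z := rfl

/-- Sections vanishing on the members of a cover vanish. -/
theorem eq_zero_of_cover (H : SheafOfModules.{u} (R.over U)) {W : (Over U)ᵒᵖ} (t : H.val.obj W)
    (h : ∀ x ∈ W.unop.left, ∃ (V : Opens X) (hV : V ≤ W.unop.left), x ∈ V ∧
      H.val.map (show W ⟶ objO (hV.trans (leOfHom W.unop.hom)) from (Over.homMk (homOfLE hV)).op) t = 0) :
    t = 0 := by
  let S : Sieve W.unop :=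
    { arrows := fun Y f => H.val.map f.op t = 0
      downward_closed := fun {Y Z f} hf g => by
        show H.val.map (g ≫ f).op t = 0
        rw [op_comp, PresheafOfModules.map_comp_apply, hf, map_zero] }
  have hS : S ∈ (Opens.grothendieckTopology X).over U W.unop := by
    rw [GrothendieckTopology.mem_over_iff]
    intro x hx
    obtain ⟨V, hV, hxV, hVz⟩ := h x hx
    exact ⟨V, homOfLE hV, (Sieve.overEquiv_iff S (homOfLE hV)).2 hVz, hxV⟩
  refine ((Presheaf.isSheaf_iff_isSheaf_forget _ _ (forget AddCommGrpCat)).1 H.isSheaf |> fun hs =>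
    ((isSheaf_iff_isSheaf_of_type _ _).1 hs).isSeparated S hS).ext fun Y f hf => ?_
  exact hf.trans (map_zero (H.val.presheaf.map f.op).hom).symm

/-- A morphism out of a module generated on a basis by sections killed by it is zero. -/
theorem hom_eq_zero {B : Set (Opens X)} (hB : Opens.IsBasis B) {G H : SheafOfModules.{u} (R.over U)}
    (q : G ⟶ H) {n : ℕ} (g : Fin n → G.val.obj (topO U))
    (hgen : ∀ V ∈ B, ∀ h : V ≤ U, Submodule.span ((R.over U).obj.obj (objO h))
      (Set.range fun i => (G.val.map (toO (objO h)) (g i) : G.val.obj (objO h))) = ⊤)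
    (hg : ∀ i, (q.val.app (topO U)).hom (g i) = 0) : q = 0 := by
  apply SheafOfModules.hom_ext
  apply PresheafOfModules.hom_ext
  intro W
  ext m
  show (q.val.app W).hom m = 0
  refine eq_zero_of_cover H _ fun x hx => ?_
  obtain ⟨V, hVB, hxV, hVW⟩ := Opens.isBasis_iff_nbhd.1 hB hx
  refine ⟨V, hVW, hxV, ?_⟩
  let f : W ⟶ objO (hVW.trans (leOfHom W.unop.hom)) := (Over.homMk (homOfLE hVW)).op
  refine Eq.trans (PresheafOfModules.naturality_apply q.val f m).symm ?_
  have hle : Submodule.span ((R.over U).obj.obj (objO (hVW.trans (leOfHom W.unop.hom))))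
      (Set.range fun i => (G.val.map (toO (objO (hVW.trans (leOfHom W.unop.hom)))) (g i) :
        G.val.obj (objO (hVW.trans (leOfHom W.unop.hom))))) ≤
      LinearMap.ker (q.val.app (objO (hVW.trans (leOfHom W.unop.hom)))).hom :=
    Submodule.span_le.2 fun _ ⟨i, hi⟩ => by
      rw [← hi]
      refine LinearMap.mem_ker.2 ?_
      show (q.val.app (objO (hVW.trans (leOfHom W.unop.hom)))).hom (G.val.map (toO (objO (hVW.trans (leOfHom W.unop.hom)))) (g i)) = 0
      refine Eq.trans (PresheafOfModules.naturality_apply q.val (toO (objO (hVW.trans (leOfHom W.unop.hom)))) (g i)) ?_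
      rw [show (q.val.app (topO U)) (g i) = 0 from hg i, map_zero]
  rw [hgen V hVB (hVW.trans (leOfHom W.unop.hom))] at hle
  exact hle (Submodule.mem_top (x := _))

/-- Finitely many generators from generation on a basis. -/
theorem exists_generators {B : Set (Opens X)} (hB : Opens.IsBasis B) (G : SheafOfModules.{u} (R.over U))
    {n : ℕ} (g : Fin n → G.val.obj (topO U))
    (hgen : ∀ V ∈ B, ∀ h : V ≤ U, Submodule.span ((R.over U).obj.obj (objO h))
      (Set.range fun i => (G.val.map (toO (objO h)) (g i) : G.val.obj (objO h))) = ⊤) :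
    ∃ σ : G.GeneratingSections, σ.IsFiniteType ∧ ∃ e : ULift.{u} (Fin n) ≃ σ.I,
      ∀ i, (σ.s (e i)).val (topO U) = g i.down := by
  let s : ULift.{u} (Fin n) → G.sections := fun i => ofTop G (g i.down)
  have htop : ∀ z : G.val.obj (topO U), G.val.map (toO (topO U)) z = z := fun z => by
    rw [show toO (topO U) = 𝟙 (topO U) from Quiver.Hom.unop_inj (Over.mkIdTerminal.hom_ext _ _)]
    exact LinearMap.congr_fun (congrArg ModuleCat.Hom.hom (G.val.map_id (topO U))) z
  have hepi : Epi (G.freeHomEquiv.symm s) := ?_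
  · exact ⟨{ I := ULift.{u} (Fin n), s := s, epi := hepi }, ⟨(inferInstance : Finite (ULift.{u} (Fin n)))⟩,
      Equiv.refl _, fun i => htop _⟩
  refine Preadditive.epi_of_cancel_zero _ fun {H} q hq => hom_eq_zero hB q g hgen fun i => ?_
  have h1 : SheafOfModules.ιFree (⟨i⟩ : ULift.{u} (Fin n)) ≫ G.freeHomEquiv.symm s =
      G.unitHomEquiv.symm (s ⟨i⟩) := by
    rw [← SheafOfModules.unitHomEquiv_symm_freeHomEquiv_apply, Equiv.apply_symm_apply]
  have h2 : G.unitHomEquiv.symm (s ⟨i⟩) ≫ q = 0 := by
    rw [← h1, Category.assoc, hq, comp_zero]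
  rw [SheafOfModules.unitHomEquiv_symm_comp] at h2
  have h3 : SheafOfModules.sectionsMap q (s ⟨i⟩) = H.unitHomEquiv 0 := by
    rw [← h2, Equiv.apply_symm_apply]
  have h4 := congrArg (fun v => v.val (topO U)) h3
  refine Eq.trans ?_ (h4.trans rfl)
  exact congrArg _ (htop _).symm

variable {I : Type u} [Fintype I]

/-- The standard sections of a free module. -/
def e (I : Type u) (i : I) (W : (Over U)ᵒᵖ) :
    (SheafOfModules.free (R := R.over U) I).val.obj W :=
  ((SheafOfModules.ιFree i).val.app W).hom (1 : (R.over U).obj.obj W)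

theorem e_map (i : I) {W W' : (Over U)ᵒᵖ} (f : W ⟶ W') :
    (SheafOfModules.free (R := R.over U) I).val.map f (e I i W) = e I i W' := by
  refine (PresheafOfModules.naturality_apply (SheafOfModules.ιFree i).val f _).symm.trans ?_
  exact congrArg ((SheafOfModules.ιFree i).val.app W').hom (map_one ((R.over U).obj.map f).hom)

/-- Sections of finite free modules are combinations of the standard ones. -/
theorem exists_coeff (W : (Over U)ᵒᵖ) (z : (SheafOfModules.free (R := R.over U) I).val.obj W) :
    ∃ a : I → (R.over U).obj.obj W, z = ∑ i, a i • e I i W := by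
  classical
  let F : SheafOfModules.{u} (R.over U) := SheafOfModules.free I
  let p : I → (F ⟶ SheafOfModules.unit (R.over U)) := fun i =>
    Cofan.IsColimit.desc (SheafOfModules.isColimitFreeCofan I) fun j => if j = i then 𝟙 _ else 0
  have hp : (∑ i, p i ≫ SheafOfModules.ιFree i) = 𝟙 F := by
    refine Cofan.IsColimit.hom_ext (SheafOfModules.isColimitFreeCofan I) _ _ fun j => ?_
    rw [Preadditive.comp_sum, Finset.sum_eq_single j]
    · rw [← Category.assoc, Cofan.IsColimit.fac, if_pos rfl, Category.id_comp]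
      exact (Category.comp_id _).symm
    · intro i _ hij
      rw [← Category.assoc, Cofan.IsColimit.fac, if_neg (Ne.symm hij), zero_comp]
    · exact fun h => absurd (Finset.mem_univ j) h
  refine ⟨fun i => ((p i).val.app W).hom z, ?_⟩
  let φ : (F ⟶ F) →+ F.val.obj W :=
    { toFun := fun f => (f.val.app W).hom z
      map_zero' := rfl
      map_add' := fun _ _ => rfl }
  have hz : z = ∑ i, φ (p i ≫ SheafOfModules.ιFree i) := by
    rw [← map_sum, hp]; rfl
  refine hz.trans (Finset.sum_congr rfl fun i _ => ?_)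
  refine Eq.trans ?_ (map_smul ((SheafOfModules.ιFree i).val.app W).hom _ _)
  show ((SheafOfModules.ιFree i).val.app W).hom (((p i).val.app W).hom z) = _
  let a : (R.over U).obj.obj W := ((p i).val.app W).hom z
  exact congrArg _ (mul_one a).symm

theorem π_e {G : SheafOfModules.{u} (R.over U)} (σ : G.GeneratingSections) (i : σ.I) (W : (Over U)ᵒᵖ) :
    (σ.π.val.app W).hom (e σ.I i W) = (σ.s i).val W := by
  have h1 : SheafOfModules.ιFree i ≫ σ.π = G.unitHomEquiv.symm (σ.s i) := by
    rw [SheafOfModules.GeneratingSections.π, ← SheafOfModules.unitHomEquiv_symm_freeHomEquiv_apply,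
      Equiv.apply_symm_apply]
  show ((SheafOfModules.ιFree i ≫ σ.π).val.app W).hom (1 : (R.over U).obj.obj W) = _
  rw [h1]
  exact congrArg (fun v => v.val W) (G.unitHomEquiv.apply_symm_apply (σ.s i))

end Over

section Presentation

variable {B : Set (Opens X)} (hB : Opens.IsBasis B) (M : SheafOfModules.{u} R) {U : Opens X}

/-- Sections of kernels. -/
theorem exists_kernel_section {A C : SheafOfModules.{u} (R.over U)} (ψ : A ⟶ C) (W : (Over U)ᵒᵖ)
    (x : A.val.obj W) (hx : (ψ.val.app W).hom x = 0) :
    (∃ k : (kernel ψ).val.obj W, ((kernel.ι ψ).val.app W).hom k = x) ∧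
      Function.Injective ((kernel.ι ψ).val.app W).hom := by
  let G : SheafOfModules.{u} (R.over U) ⥤ _ := SheafOfModules.evaluation.{u} (R.over U) W
  haveI : G.Additive := inferInstanceAs
    (SheafOfModules.forget.{u} (R.over U) ⋙ PresheafOfModules.evaluation _ W).Additive
  haveI : Mono (G.map (kernel.ι ψ)) := inferInstance
  refine ⟨?_, (ModuleCat.mono_iff_injective (G.map (kernel.ι ψ))).1 inferInstance⟩
  let l : ModuleCat.of _ ((R.over U).obj.obj W) ⟶ G.obj A :=
    ModuleCat.ofHom (LinearMap.toSpanSingleton _ _ (show G.obj A from x))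
  have hl : l ≫ G.map ψ = 0 := by
    refine ModuleCat.hom_ext (LinearMap.ext_ring ?_)
    show G.map ψ ((1 : (R.over U).obj.obj W) • (show G.obj A from x)) = 0
    rw [one_smul]
    exact hx
  refine ⟨(kernel.lift (G.map ψ) l hl ≫ (PreservesKernel.iso G ψ).inv) (1 : (R.over U).obj.obj W), ?_⟩
  have e : (kernel.lift (G.map ψ) l hl ≫ (PreservesKernel.iso G ψ).inv) ≫ G.map (kernel.ι ψ) = l := by
    rw [Category.assoc, PreservesKernel.iso_inv_ι, kernel.lift_ι]
  refine (ConcreteCategory.congr_hom e _).trans ?_
  show (1 : (R.over U).obj.obj W) • (show G.obj A from x) = _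
  exact one_smul _ _

include hB in
/-- A finite presentation over an open from sections on a basis. -/
theorem exists_presentation {n m : ℕ} (g : Fin n → M.val.obj (op U))
    (r : Fin m → Fin n → R.obj.obj (op U))
    (hgen : ∀ V ∈ B, ∀ h : V ≤ U, Submodule.span (R.obj.obj (op V)) (Set.range fun i => res M h (g i)) = ⊤)
    (hr : ∀ j, ∑ i, r j i • g i = 0)
    (hrel : ∀ V ∈ B, ∀ h : V ≤ U, ∀ a : Fin n → R.obj.obj (op V), ∑ i, a i • res M h (g i) = 0 →
      ∃ c : Fin m → R.obj.obj (op V), ∀ i, a i = ∑ j, c j * rres h (r j i)) :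
    ∃ P : (M.over U).Presentation, P.IsFinite := by
  classical
  obtain ⟨σ, hσ, ε, hε⟩ := exists_generators hB (M.over U) g fun V hV h => hgen V hV h
  haveI : Fintype σ.I := Fintype.ofEquiv _ ε
  have hπ : ∀ (i : σ.I) (W : (Over U)ᵒᵖ),
      (σ.π.val.app W).hom (e σ.I i W) = (M.over U).val.map (toO W) (g (ε.symm i).down) := by
    intro i W
    rw [π_e, ← hε, Equiv.apply_symm_apply]
    exact ((σ.s i).property (toO W)).symm
  let w : Fin m → (SheafOfModules.free (R := R.over U) σ.I).val.obj (topO U) := fun j =>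
    ∑ i : σ.I, (show (R.over U).obj.obj (topO U) from r j (ε.symm i).down) • e σ.I i (topO U)
  have hw : ∀ j, (σ.π.val.app (topO U)).hom (w j) = 0 := fun j => by
    show (σ.π.val.app (topO U)).hom (∑ i : σ.I, _) = 0
    rw [map_sum]
    refine Eq.trans ?_ (hr j)
    refine (Fintype.sum_equiv (ε.symm.trans Equiv.ulift) _ (fun i => r j i • g i) fun i => ?_)
    rw [map_smul, hπ]
    show r j _ • _ = r j _ • g _
    congr 1
    rw [show toO (topO U) = 𝟙 (topO U) from Quiver.Hom.unop_inj (Over.mkIdTerminal.hom_ext _ _)]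
    exact LinearMap.congr_fun (congrArg ModuleCat.Hom.hom ((M.over U).val.map_id (topO U))) _
  choose k hk using fun j => (exists_kernel_section σ.π (topO U) (w j) (hw j)).1
  obtain ⟨τ, hτ, -⟩ := exists_generators hB (kernel σ.π) k fun V hV h => by
    refine eq_top_iff.2 fun z _ => ?_
    obtain ⟨a, ha⟩ := exists_coeff (objO h) (((kernel.ι σ.π).val.app (objO h)).hom z)
    have h0 : (σ.π.val.app (objO h)).hom (((kernel.ι σ.π).val.app (objO h)).hom z) = 0 :=
      LinearMap.congr_fun (congrArg (fun φ => ((φ : _ ⟶ M.over U).val.app (objO h)).hom) (kernel.condition σ.π)) z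
    rw [ha, map_sum] at h0
    obtain ⟨c, hc⟩ := hrel V hV h (fun i => a (ε ⟨i⟩)) (by
      refine Eq.trans ?_ h0
      refine (Fintype.sum_equiv (ε.symm.trans Equiv.ulift) _ _ fun i => ?_).symm
      rw [map_smul, hπ]
      show a i • _ = a (ε ⟨(ε.symm i).down⟩) • _
      rw [show ε ⟨(ε.symm i).down⟩ = i from ε.apply_symm_apply i]
      rfl)
    have hz : z = ∑ j, (show (R.over U).obj.obj (objO h) from c j) •
        ((kernel σ.π).val.map (toO (objO h)) (k j) : (kernel σ.π).val.obj (objO h)) := by
      refine (exists_kernel_section σ.π (objO h) 0 (map_zero _)).2 ?_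
      rw [ha, map_sum]
      have h1 : ∀ j, ((kernel.ι σ.π).val.app (objO h)).hom ((kernel σ.π).val.map (toO (objO h)) (k j)) =
          ∑ i : σ.I, (show (R.over U).obj.obj (objO h) from rres h (r j (ε.symm i).down)) • e σ.I i (objO h) := by
        intro j
        refine (PresheafOfModules.naturality_apply (kernel.ι σ.π).val (toO (objO h)) (k j)).trans ?_
        refine (congrArg _ (hk j)).trans ?_
        refine (map_sum ((SheafOfModules.free (R := R.over U) σ.I).val.map (toO (objO h))).hom _ _).trans ?_
        refine Finset.sum_congr rfl fun i _ => ?_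
        refine (PresheafOfModules.map_smul _ (toO (objO h)) _ _).trans ?_
        rw [e_map]
        rfl
      simp only [map_smul, h1, Finset.smul_sum, smul_smul]
      rw [Finset.sum_comm]
      refine Finset.sum_congr rfl fun i _ => ?_
      rw [← Finset.sum_smul]
      congr 1
      have hc' := hc (ε.symm i).down
      rw [show ε ⟨(ε.symm i).down⟩ = i from ε.apply_symm_apply i] at hc'
      exact hc'
    rw [hz]
    exact Submodule.sum_mem _ fun j _ => Submodule.smul_mem _ _ (Submodule.subset_span ⟨j, rfl⟩)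
  exact ⟨⟨σ, τ⟩, ⟨hσ, hτ⟩⟩

end Presentation

theorem coversTop {ι : Type*} (U : ι → Opens X) (h : ∀ x, ∃ i, x ∈ U i) :
    (Opens.grothendieckTopology X).CoversTop U := by
  rw [Opens.coversTop_iff]
  exact top_le_iff.1 fun x _ => Opens.mem_iSup.2 (h x)

/-- Finite presentation from local presentations on a basis. -/
theorem isFinitePresentation_of_local {B : Set (Opens X)} (hB : Opens.IsBasis B) (M : SheafOfModules.{u} R)
    (h : ∀ x : X, ∃ U : Opens X, x ∈ U ∧ ∃ (n m : ℕ) (g : Fin n → M.val.obj (op U))
      (r : Fin m → Fin n → R.obj.obj (op U)),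
      (∀ V ∈ B, ∀ h : V ≤ U, Submodule.span (R.obj.obj (op V)) (Set.range fun i => res M h (g i)) = ⊤) ∧
      (∀ j, ∑ i, r j i • g i = 0) ∧
      ∀ V ∈ B, ∀ h : V ≤ U, ∀ a : Fin n → R.obj.obj (op V), ∑ i, a i • res M h (g i) = 0 →
        ∃ c : Fin m → R.obj.obj (op V), ∀ i, a i = ∑ j, c j * rres h (r j i)) :
    M.IsFinitePresentation := by
  choose U hU n m g r h1 h2 h3 using h
  choose P hP using fun x => exists_presentation hB M (g x) (r x) (h1 x) (h2 x) (h3 x)
  let q : SheafOfModules.QuasicoherentData.{u} (R := R) M :=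
    SheafOfModules.QuasicoherentData.mk.{u, u, u, u} (R := R) (M := M) (↥X) U
      (coversTop U fun x => ⟨x, hU x⟩) P
  refine SheafOfModules.IsFinitePresentation.mk (R := R) (M := M) ?_
  exact ⟨q, SheafOfModules.QuasicoherentData.IsFinitePresentation.mk (R := R) (M := M) (q := q) hP⟩

/-- Finite type from generators on a basis. -/
theorem isFiniteType_of_local {B : Set (Opens X)} (hB : Opens.IsBasis B) (M : SheafOfModules.{u} R)
    (h : ∀ x : X, ∃ U : Opens X, x ∈ U ∧ ∃ (n : ℕ) (g : Fin n → M.val.obj (op U)),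
      ∀ V ∈ B, ∀ h : V ≤ U, Submodule.span (R.obj.obj (op V)) (Set.range fun i => res M h (g i)) = ⊤) :
    M.IsFiniteType := by
  choose U hU n g hg using h
  choose σ hσ e he using fun x => exists_generators hB (M.over (U x)) (g x) (hg x)
  let d : SheafOfModules.LocalGeneratorsData.{u} M :=
    SheafOfModules.LocalGeneratorsData.mk.{u, u, u, u} (R := R) (M := M) (↥X) U
      (coversTop U fun x => ⟨x, hU x⟩) σ
  haveI hd : d.IsFiniteType := SheafOfModules.LocalGeneratorsData.IsFiniteType.mk (p := d) hσ
  exact SheafOfModules.IsFiniteType.mk (R := R) (M := M) ⟨d, hd⟩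

end Groth.L17.FSheaf
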