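import Groth.Agent.L17.FSheaf.RestrictOpen
import Groth.Agent.L17.FSheaf.CohSect
import Groth.Agent.L17.FSheaf.OpensFP
import Groth.Agent.L17.OpenTransfer
import Groth.Agent.L10.ModAcyc
import Groth.Agent.L15.ExtSupp.Acyclic

/-!
# Restriction of modules on a formal scheme to an open
-/

set_option autoImplicit false
set_option linter.style.haveILetI false
set_option linter.unusedSectionVars false
set_option backward.isDefEq.respectTransparency false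
set_option backward.isDefEq.respectTransparency.types false

universe u

open CategoryTheory CategoryTheory.Limits AlgebraicGeometry TopologicalSpace Opposite

noncomputable section

namespace Groth.L17.FSheaf.Restr

open Groth.L17.FSheaf

variable (𝔛 : FSch.Sys.{u}) (h : 𝔛.IsFormal) (U : (𝔛.X 0).Opens)

/-- The formal system on the open. -/
abbrev XU : FSch.Sys.{u} := 𝔛.restrictOpen h U

theorem hU : (XU 𝔛 h U).IsFormal := isFormal_restrictOpen 𝔛 h U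

/-- The inclusion of the space of the open. -/
abbrev j₀ : (XU 𝔛 h U).X 0 ⟶ 𝔛.X 0 := (𝔛.lvU h 0 U).ι

/-- The inclusions of the levels. -/
abbrev jn (n : ℕ) : (XU 𝔛 h U).X n ⟶ 𝔛.X n := (𝔛.lvU h n U).ι

/-- The image of an open. -/
abbrev im (W : ((XU 𝔛 h U).X 0).Opens) : (𝔛.X 0).Opens := j₀ 𝔛 h U ''ᵁ W

theorem im_mono {W W' : ((XU 𝔛 h U).X 0).Opens} (hWW' : W' ≤ W) : im 𝔛 h U W' ≤ im 𝔛 h U W :=
  Scheme.Hom.image_mono (j₀ 𝔛 h U) hWW'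

theorem lvU_zero_eq : 𝔛.lvU h 0 U = U :=
  (show 𝔛.lvU h 0 U = 𝔛.toX 0 ⁻¹ᵁ 𝔛.lvU h 0 U from rfl).trans (toX_preimage_lvU 𝔛 h 0 U)

theorem im_le (W : ((XU 𝔛 h U).X 0).Opens) : im 𝔛 h U W ≤ U :=
  fun x hx => by
    obtain ⟨y, -, rfl⟩ := hx
    have h1 : (j₀ 𝔛 h U) y ∈ 𝔛.lvU h 0 U := y.2
    rwa [lvU_zero_eq] at h1

theorem preimage_im (W : ((XU 𝔛 h U).X 0).Opens) : j₀ 𝔛 h U ⁻¹ᵁ im 𝔛 h U W = W :=
  Scheme.Hom.preimage_image_eq _ W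

theorem jn_preimage_lvU (n : ℕ) (V : (𝔛.X 0).Opens) :
    jn 𝔛 h U n ⁻¹ᵁ 𝔛.lvU h n V = (XU 𝔛 h U).lvU (hU 𝔛 h U) n (j₀ 𝔛 h U ⁻¹ᵁ V) :=
  FSch.Hom.lvU_preimage (𝔛.restrictOpenι h U) (hU 𝔛 h U) h n V

theorem lvU_im (n : ℕ) (W : ((XU 𝔛 h U).X 0).Opens) :
    (XU 𝔛 h U).lvU (hU 𝔛 h U) n W = jn 𝔛 h U n ⁻¹ᵁ 𝔛.lvU h n (im 𝔛 h U W) := by
  rw [jn_preimage_lvU, preimage_im]

theorem lvU_im_le (n : ℕ) (W : ((XU 𝔛 h U).X 0).Opens) :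
    𝔛.lvU h n (im 𝔛 h U W) ≤ (jn 𝔛 h U n).opensRange := by
  rw [Scheme.Opens.opensRange_ι]
  exact lvU_mono 𝔛 h n (im_le 𝔛 h U W)

theorem jn_image_lvU (n : ℕ) (W : ((XU 𝔛 h U).X 0).Opens) :
    jn 𝔛 h U n ''ᵁ (XU 𝔛 h U).lvU (hU 𝔛 h U) n W = 𝔛.lvU h n (im 𝔛 h U W) := by
  rw [lvU_im, Scheme.Hom.image_preimage_eq_opensRange_inf]
  exact inf_eq_right.2 (lvU_im_le 𝔛 h U n W)

theorem bijective_appLE_of_le_opensRange {X Y : Scheme.{u}} (f : X ⟶ Y) [IsOpenImmersion f] {V : Y.Opens}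
    {W : X.Opens} (e : W = f ⁻¹ᵁ V) (hV : V ≤ f.opensRange) :
    Function.Bijective (f.appLE V W e.le).hom := by
  subst e
  haveI := Scheme.Hom.isIso_app f V hV
  rw [Scheme.Hom.appLE_eq_app]
  exact ConcreteCategory.bijective_of_isIso (f.app V)

/-- The functions over the image to the functions on the open. -/
def β (W : ((XU 𝔛 h U).X 0).Opens) : O 𝔛 h (im 𝔛 h U W) →+* O (XU 𝔛 h U) (hU 𝔛 h U) W :=
  (((XU 𝔛 h U).Osh (hU 𝔛 h U)).obj.map (homOfLE (preimage_im 𝔛 h U W).ge).op).hom.comp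
    ((FSch.Hom.sharp (𝔛.restrictOpenι h U) (hU 𝔛 h U) h).hom.app (op (im 𝔛 h U W))).hom

theorem pR_β (n : ℕ) (W : ((XU 𝔛 h U).X 0).Opens) (x : O 𝔛 h (im 𝔛 h U W)) :
    pR (XU 𝔛 h U) (hU 𝔛 h U) n W (β 𝔛 h U W x) =
      ((jn 𝔛 h U n).appLE (𝔛.lvU h n (im 𝔛 h U W)) ((XU 𝔛 h U).lvU (hU 𝔛 h U) n W) (lvU_im 𝔛 h U n W).le).hom
        (pR 𝔛 h n (im 𝔛 h U W) x) := by
  refine (pR_resO (XU 𝔛 h U) (hU 𝔛 h U) (preimage_im 𝔛 h U W).ge n _).trans ?_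
  have h1 := ConcreteCategory.congr_hom (congrArg (fun (t : 𝔛.Osh h ⟶ _) => t.hom.app (op (im 𝔛 h U W)))
    (FSch.Hom.sharp_proj (𝔛.restrictOpenι h U) (hU 𝔛 h U) h n)) x
  refine (congrArg (((XU 𝔛 h U).X n).presheaf.map
    (homOfLE (lvU_mono (XU 𝔛 h U) (hU 𝔛 h U) n (preimage_im 𝔛 h U W).ge)).op) h1).trans ?_
  show (((jn 𝔛 h U n).appLE _ _ _) ≫ ((XU 𝔛 h U).X n).presheaf.map _) _ = _
  rw [Scheme.Hom.appLE_map]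
  rfl

theorem β_bijective (W : ((XU 𝔛 h U).X 0).Opens) : Function.Bijective (β 𝔛 h U W) := by
  have hb := fun n => bijective_appLE_of_le_opensRange (jn 𝔛 h U n) (lvU_im 𝔛 h U n W) (lvU_im_le 𝔛 h U n W)
  refine ⟨fun x y hxy => pR_ext 𝔛 h fun n => (hb n).1 ?_, fun z => ?_⟩
  · rw [← pR_β, ← pR_β, hxy]
  · choose y hy using fun n => (hb n).2 (pR (XU 𝔛 h U) (hU 𝔛 h U) n W z)
    obtain ⟨x, hx⟩ := exists_pR 𝔛 h (im 𝔛 h U W) y fun n => (hb n).1 (by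
      have h1 := ConcreteCategory.congr_hom (Scheme.Hom.appLE_comp_appLE ((XU 𝔛 h U).ι n) (jn 𝔛 h U (n + 1))
        (𝔛.lvU h (n + 1) (im 𝔛 h U W)) ((XU 𝔛 h U).lvU (hU 𝔛 h U) (n + 1) W)
        ((XU 𝔛 h U).lvU (hU 𝔛 h U) n W) (lvU_im 𝔛 h U (n + 1) W).le ((XU 𝔛 h U).lvU_le (hU 𝔛 h U) n W)) (y (n + 1))
      have h2 := ConcreteCategory.congr_hom (FSch.appLE_comp_appLE_of_eq (jn 𝔛 h U n) (𝔛.ι n)
        ((XU 𝔛 h U).ι n ≫ jn 𝔛 h U (n + 1)) ((𝔛.restrictOpenι h U : FSch.Hom _ _).comm n)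
        (𝔛.lvU h (n + 1) (im 𝔛 h U W)) (𝔛.lvU h n (im 𝔛 h U W))
        ((XU 𝔛 h U).lvU (hU 𝔛 h U) n W) (𝔛.lvU_le h n _) (lvU_im 𝔛 h U n W).le
        (((XU 𝔛 h U).lvU_le (hU 𝔛 h U) n W).trans
          (Scheme.Hom.preimage_mono _ (lvU_im 𝔛 h U (n + 1) W).le))) (y (n + 1))
      refine h2.trans (h1.symm.trans ?_)
      refine (congrArg (((XU 𝔛 h U).ι n).appLE _ _ _).hom (hy (n + 1))).trans ?_
      rw [hy n]
      exact tR_pR (XU 𝔛 h U) (hU 𝔛 h U) n W z)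
    refine ⟨x, pR_ext (XU 𝔛 h U) (hU 𝔛 h U) fun n => ?_⟩
    rw [pR_β, hx, hy]

theorem β_resO {W W' : ((XU 𝔛 h U).X 0).Opens} (hWW' : W' ≤ W) (x : O 𝔛 h (im 𝔛 h U W)) :
    β 𝔛 h U W' (resO 𝔛 h (im_mono 𝔛 h U hWW') x) = resO (XU 𝔛 h U) (hU 𝔛 h U) hWW' (β 𝔛 h U W x) := by
  refine pR_ext (XU 𝔛 h U) (hU 𝔛 h U) fun n => ?_
  rw [pR_β, pR_resO, pR_resO, pR_β]
  show (((𝔛.X n).presheaf.map _) ≫ (jn 𝔛 h U n).appLE _ _ _) _ =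
    ((jn 𝔛 h U n).appLE _ _ _ ≫ ((XU 𝔛 h U).X n).presheaf.map _) _
  rw [Scheme.Hom.map_appLE, Scheme.Hom.appLE_map]

/-- The inverse of `β`. -/
def βinv (W : ((XU 𝔛 h U).X 0).Opens) : O (XU 𝔛 h U) (hU 𝔛 h U) W →+* O 𝔛 h (im 𝔛 h U W) :=
  (RingEquiv.ofBijective (β 𝔛 h U W) (β_bijective 𝔛 h U W)).symm.toRingHom

theorem βinv_β (W : ((XU 𝔛 h U).X 0).Opens) (x : O 𝔛 h (im 𝔛 h U W)) : βinv 𝔛 h U W (β 𝔛 h U W x) = x :=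
  (RingEquiv.ofBijective (β 𝔛 h U W) (β_bijective 𝔛 h U W)).symm_apply_apply x

theorem β_βinv (W : ((XU 𝔛 h U).X 0).Opens) (x : O (XU 𝔛 h U) (hU 𝔛 h U) W) : β 𝔛 h U W (βinv 𝔛 h U W x) = x :=
  (RingEquiv.ofBijective (β 𝔛 h U W) (β_bijective 𝔛 h U W)).apply_symm_apply x

/-- The map of structure sheaves. -/
def φR : ModSite.ringSh ((XU 𝔛 h U).Osh (hU 𝔛 h U)) ⟶
    ((j₀ 𝔛 h U).opensFunctor.sheafPushforwardContinuous RingCat.{u} _ _).obj (ModSite.ringSh (𝔛.Osh h)) :=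
  ⟨{ app := fun W => RingCat.ofHom (βinv 𝔛 h U W.unop)
     naturality := fun W W' i => by
       ext x
       apply (β_bijective 𝔛 h U W'.unop).1
       show β 𝔛 h U W'.unop (βinv 𝔛 h U W'.unop (resO (XU 𝔛 h U) (hU 𝔛 h U) (leOfHom i.unop) x)) =
         β 𝔛 h U W'.unop (resO 𝔛 h (im_mono 𝔛 h U (leOfHom i.unop)) (βinv 𝔛 h U W.unop x))
       rw [β_βinv, β_resO, β_βinv] }⟩

/-- The restriction of modules. -/
abbrev ρ : FSch.ModF 𝔛 h ⥤ FSch.ModF (XU 𝔛 h U) (hU 𝔛 h U) := SheafOfModules.pushforward.{u} (φR 𝔛 h U)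

/-- The abelian sheaves of restrictions. -/
abbrev ρT : FSch.ModF 𝔛 h ⥤ Sheaf (Opens.grothendieckTopology ((XU 𝔛 h U).X 0)) AddCommGrpCat.{u} :=
  ρ 𝔛 h U ⋙ SheafOfModules.toSheaf _

theorem smul_β (M : FSch.ModF 𝔛 h) (W : ((XU 𝔛 h U).X 0).Opens) (b : O 𝔛 h (im 𝔛 h U W))
    (x : M.val.obj (op (im 𝔛 h U W))) :
    (show ((ρ 𝔛 h U).obj M).val.obj (op W) from b • x) =
      β 𝔛 h U W b • (show ((ρ 𝔛 h U).obj M).val.obj (op W) from x) :=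
  (congrArg (fun c : O 𝔛 h (im 𝔛 h U W) => c • x) (βinv_β 𝔛 h U W b)).symm

instance additive_ρT : (ρT 𝔛 h U).Additive where

theorem preservesFinite_ρT : PreservesFiniteLimits (ρT 𝔛 h U) ∧ PreservesFiniteColimits (ρT 𝔛 h U) := by
  let A := SheafOfModules.toSheaf.{u} (ModSite.ringSh (𝔛.Osh h)) ⋙ Groth.L17.restrAb (j₀ 𝔛 h U)
  haveI : PreservesFiniteColimits (SheafOfModules.toSheaf.{u} (ModSite.ringSh (𝔛.Osh h))) :=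
    Groth.L15.ExtSupp.preservesFiniteColimits_toSheaf
  haveI : A.Additive := inferInstance
  have hA : ∀ S : ShortComplex (FSch.ModF 𝔛 h), S.ShortExact → (S.map A).ShortExact := fun S hS =>
    Groth.L17.shortExact_restrAb (j₀ 𝔛 h U) (hS.map_of_exact (SheafOfModules.toSheaf _))
  have key := ((Functor.exact_tfae A).out 0 3).1 hA
  exact key

theorem mem_J_iff (W : ((XU 𝔛 h U).X 0).Opens) (x : O 𝔛 h (im 𝔛 h U W)) :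
    β 𝔛 h U W x ∈ J (XU 𝔛 h U) (hU 𝔛 h U) W ↔ x ∈ J 𝔛 h (im 𝔛 h U W) := by
  rw [RingHom.mem_ker, RingHom.mem_ker, pR_β]
  exact map_eq_zero_iff _ (bijective_appLE_of_le_opensRange _ (lvU_im 𝔛 h U 0 W) (lvU_im_le 𝔛 h U 0 W)).1

theorem J_map (W : ((XU 𝔛 h U).X 0).Opens) :
    (J 𝔛 h (im 𝔛 h U W)).map (β 𝔛 h U W) = J (XU 𝔛 h U) (hU 𝔛 h U) W := by
  refine le_antisymm (Ideal.map_le_iff_le_comap.2 fun x hx => (mem_J_iff 𝔛 h U W x).2 hx) fun z hz => ?_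
  obtain ⟨x, rfl⟩ := (β_bijective 𝔛 h U W).2 z
  exact Ideal.mem_map_of_mem _ ((mem_J_iff 𝔛 h U W x).1 hz)

theorem isAffineOpen_im {W : ((XU 𝔛 h U).X 0).Opens} (hW : IsAffineOpen W) : IsAffineOpen (im 𝔛 h U W) :=
  hW.image_of_isOpenImmersion (j₀ 𝔛 h U)

section Coh

variable (hX : 𝔛.IsLocNoethFormal)

theorem hUN : (XU 𝔛 hX.1 U).IsLocNoethFormal := isLocNoethFormal_restrictOpen 𝔛 hX.1 U hX

variable {𝔉 : FSch.ModF 𝔛 hX.1} (h𝔉 : FSch.IsCohF 𝔛 hX.1 𝔉)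

include h𝔉 in
/-- The units to the levels, restricted: surjective with the adic kernels. -/
theorem unit_spec {W : ((XU 𝔛 hX.1 U).X 0).Opens} (hW : IsAffineOpen W) (k : ℕ) :
    Function.Surjective
        (((ρ 𝔛 hX.1 U).map ((FSch.levelMor 𝔛 hX.1 k).adj.unit.app 𝔉)).val.app (op W)).hom ∧
      ∀ x, (((ρ 𝔛 hX.1 U).map ((FSch.levelMor 𝔛 hX.1 k).adj.unit.app 𝔉)).val.app (op W)).hom x = 0 ↔
        x ∈ J (XU 𝔛 hX.1 U) (hU 𝔛 hX.1 U) W ^ (k + 1) •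
          (⊤ : Submodule (O (XU 𝔛 hX.1 U) (hU 𝔛 hX.1 U) W) (((ρ 𝔛 hX.1 U).obj 𝔉).val.obj (op W))) := by
  obtain ⟨hs, hk⟩ := (SF_spec 𝔛 hX h𝔉 (isAffineOpen_im 𝔛 hX.1 U hW)).2 k
  refine ⟨hs, fun x => Iff.trans (hk x) ?_⟩
  letI : Module (O (XU 𝔛 hX.1 U) (hU 𝔛 hX.1 U) W) (SF 𝔛 hX.1 𝔉 (im 𝔛 hX.1 U W)) :=
    inferInstanceAs (Module (O (XU 𝔛 hX.1 U) (hU 𝔛 hX.1 U) W) (((ρ 𝔛 hX.1 U).obj 𝔉).val.obj (op W)))
  rw [← J_map, ← Ideal.map_pow]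
  exact mem_map_smul_top_iff (β 𝔛 hX.1 U W) (β_bijective 𝔛 hX.1 U W).2
    (fun b y => smul_β 𝔛 hX.1 U 𝔉 W b y) _ x

theorem res_ρ (M : FSch.ModF 𝔛 hX.1) {W W' : ((XU 𝔛 hX.1 U).X 0).Opens} (hWW' : W' ≤ W)
    (x : M.val.obj (op (im 𝔛 hX.1 U W))) :
    res (R := ModSite.ringSh ((XU 𝔛 hX.1 U).Osh (hU 𝔛 hX.1 U))) ((ρ 𝔛 hX.1 U).obj M) hWW'
        (show ((ρ 𝔛 hX.1 U).obj M).val.obj (op W) from x) =
      (show ((ρ 𝔛 hX.1 U).obj M).val.obj (op W') from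
        res (R := ModSite.ringSh (𝔛.Osh hX.1)) M (im_mono 𝔛 hX.1 U hWW') x) := rfl

include h𝔉 in
theorem isCohF_ρ : FSch.IsCohF (XU 𝔛 hX.1 U) (hU 𝔛 hX.1 U) ((ρ 𝔛 hX.1 U).obj 𝔉) := by
  refine isFinitePresentation_of_local (B := {V | IsAffineOpen (V : ((XU 𝔛 hX.1 U).X 0).Opens)})
    ((XU 𝔛 hX.1 U).X 0).isBasis_affineOpens _ fun x => ?_
  obtain ⟨_, ⟨W, hW, rfl⟩, hxW, -⟩ :=
    ((XU 𝔛 hX.1 U).X 0).isBasis_affineOpens.exists_subset_of_mem_open (Set.mem_univ x) isOpen_univ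
  obtain ⟨n, m, g, r, hr, hg⟩ := exists_gen_rel_SF 𝔛 hX h𝔉 (isAffineOpen_im 𝔛 hX.1 U hW)
  refine ⟨W, hxW, n, m, fun i => g i, fun j i => β 𝔛 hX.1 U W (r j i), ?_, ?_, ?_⟩
  · intro V hV hVW
    obtain ⟨hspan, -⟩ := hg (isAffineOpen_im 𝔛 hX.1 U hV) (im_mono 𝔛 hX.1 U hVW)
    refine eq_top_iff.2 fun y _ => ?_
    obtain ⟨c, hc⟩ := (Submodule.mem_span_range_iff_exists_fun _).1
      (hspan ▸ Submodule.mem_top : (show SF 𝔛 hX.1 𝔉 (im 𝔛 hX.1 U V) from y) ∈ _)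
    refine (Submodule.mem_span_range_iff_exists_fun _).2 ⟨fun i => β 𝔛 hX.1 U V (c i), ?_⟩
    refine Eq.trans (Finset.sum_congr rfl fun i _ => ?_) hc
    exact (smul_β 𝔛 hX.1 U 𝔉 V (c i) _).symm
  · intro j
    refine Eq.trans (Finset.sum_congr rfl fun i _ => ?_) (hr j)
    exact (smul_β 𝔛 hX.1 U 𝔉 W (r j i) (g i)).symm
  · intro V hV hVW a ha
    obtain ⟨-, hrel⟩ := hg (isAffineOpen_im 𝔛 hX.1 U hV) (im_mono 𝔛 hX.1 U hVW)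
    obtain ⟨d, hd⟩ := hrel (fun i => βinv 𝔛 hX.1 U V (a i))
      (Eq.trans (Finset.sum_congr rfl fun i _ => rfl) ha)
    refine ⟨fun j => β 𝔛 hX.1 U V (d j), fun i => ?_⟩
    rw [← β_βinv 𝔛 hX.1 U V (a i), hd i, map_sum]
    exact Finset.sum_congr rfl fun j _ => by
      rw [map_mul, β_resO 𝔛 hX.1 U hVW]
      rfl

end Coh

end Groth.L17.FSheaf.Restr
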