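import Groth.Agent.L17.FSheaf.Algebraizable
import Groth.Agent.L17.FSheaf.SpfCut

/-!
# Algebraizable modules on completions along the special fibre
-/

set_option autoImplicit false
set_option linter.style.haveILetI false
set_option linter.unusedSectionVars false
set_option backward.isDefEq.respectTransparency false
set_option backward.isDefEq.respectTransparency.types false

universe u

open CategoryTheory CategoryTheory.Limits AlgebraicGeometry TopologicalSpace Opposite

noncomputable section

namespace Groth.L17.FSheaf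

theorem isClosedImmersion_completionToX {X : Scheme.{u}} (𝓘 : X.IdealSheafData) (k : ℕ) :
    IsClosedImmersion (FSch.completionToX X 𝓘 k) :=
  inferInstanceAs (IsClosedImmersion (𝓘 ^ (k + 1)).subschemeι)

theorem cutOver_completion {A : Type u} [CommRing A] (J : Ideal A) {X : Scheme.{u}}
    (f : X ⟶ Spec (CommRingCat.of A)) (𝓘 : X.IdealSheafData) (h𝓘 : 𝓘 = (FSch.idealSpec A J).comap f) :
    letI : X.Over (Spec (CommRingCat.of A)) := ⟨f⟩
    CutOver J (FSch.completionAlong X 𝓘) (FSch.completionToX X 𝓘) :=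
  cutOver_of_cutBy J f 𝓘 h𝓘 _ _ (cutBy_completionToX 𝓘) (idealSpec_ideal_top J)

variable {X S : Scheme.{u}} (f : X ⟶ S) (𝓘 : X.IdealSheafData) (hX : (FSch.completionAlong X 𝓘).IsFormal)

/-- Algebraizable modules on a completion, as in the statements. -/
def IsAlgzC (𝔉 : FSch.ModF (FSch.completionAlong X 𝓘) hX) : Prop :=
  ∃ G : X.Modules, Coh.IsCoh G ∧ ClSub.IsProperOver f (CohB1.support G) ∧
    Nonempty (𝔉 ≅ (FSch.complMod 𝓘 G).realMod hX)

end Groth.L17.FSheaf

namespace Groth.L17.FSheaf

variable {A : Type u} [CommRing A] {X : Scheme.{u}} (f : X ⟶ Spec (CommRingCat.of A)) (𝓘 : X.IdealSheafData)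

theorem isAlgzC_iff (hN : (FSch.completionAlong X 𝓘).IsLocNoethFormal)
    (𝔉 : FSch.ModF (FSch.completionAlong X 𝓘) hN.1) :
    IsAlgzC f 𝓘 hN.1 𝔉 ↔
      IsAlgz f (FSch.completionAlong X 𝓘) (FSch.completionToX X 𝓘) (FSch.completionToX_comm X 𝓘) hN 𝔉 := by
  unfold IsAlgzC IsAlgz
  simp only [pullSys_completion]

end Groth.L17.FSheaf
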