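import Groth.Agent.L17.FSheaf.FormalPush
import Groth.Agent.L17.FSheaf.CompPull
import Groth.Agent.L17.FSheaf.CompExact
import Groth.Agent.L17.FSheaf.HomEquiv
import Groth.Agent.L16.Exist.PushPull
import Groth.Prelude.Def_FSch6

/-!
# Direct images of completions of coherent modules
-/

set_option autoImplicit false
set_option linter.style.haveILetI false
set_option linter.unusedSectionVars false
set_option backward.isDefEq.respectTransparency false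
set_option backward.isDefEq.respectTransparency.types false
set_option maxHeartbeats 400000

universe u

open CategoryTheory CategoryTheory.Limits AlgebraicGeometry TopologicalSpace Opposite

noncomputable section

namespace Groth.L17.FSheaf

open Groth.L18.Frame (rs ro pull rs_rs rs_self)

/-- Maps injective on a basis are monomorphisms. -/
theorem mono_of_injective_basis {Y : TopCat.{u}} {R : Sheaf (Opens.grothendieckTopology Y) RingCat.{u}}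
    {B : Set (Opens Y)} (hB : Opens.IsBasis B) {M N : SheafOfModules.{u} R} (φ : M ⟶ N)
    (h : ∀ U ∈ B, Function.Injective (φ.val.app (op U)).hom) : Mono φ :=
  ⟨fun a b hab => hom_ext_basis hB a b fun U hU m =>
    h U hU (LinearMap.congr_fun (congrArg (fun t => ((t : _ ⟶ N).val.app (op U)).hom) hab) m)⟩

section Eta

variable {X : Scheme.{u}} (𝔛 : FSch.Sys.{u}) (h : 𝔛.IsFormal) (p : ∀ k, 𝔛.X k ⟶ X)
  (hp : ∀ k, 𝔛.ι k ≫ p (k + 1) = p k) (F : X.Modules)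
  (e : (kap 𝔛 h p hp).pull.obj F ≅ (pullSys 𝔛 p hp F).realMod h)

/-- The section of the completion defined by a section. -/
def eta (W : X.Opens) (z : Γ(F, W)) : RM 𝔛 h (pullSys 𝔛 p hp F) (pU 𝔛 p W) :=
  (e.hom.val.app (op (pU 𝔛 p W))).hom ((((kap 𝔛 h p hp).adj.unit.app F).val.app (op W)).hom z)

theorem qM_eta
    (he : ∀ k, ((kap 𝔛 h p hp).adj.homEquiv _ _ e.hom) ≫
          (kap 𝔛 h p hp).push.map (FSch.realProj 𝔛 h (pullSys 𝔛 p hp F).F (pullSys 𝔛 p hp F).toPush k) =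
        (Scheme.Modules.pullbackPushforwardAdjunction (p k)).unit.app F ≫
          (FSch.schPushCompare 𝔛 h p hp k).app ((Scheme.Modules.pullback (p k)).obj F))
    (k : ℕ) (W : X.Opens) (z : Γ(F, W)) :
    qM 𝔛 h (pullSys 𝔛 p hp F) k (pU 𝔛 p W) (eta 𝔛 h p hp F e W z) = pW 𝔛 h p hp F k W z := by
  have h1 := he k
  rw [Adjunction.homEquiv_unit] at h1
  exact LinearMap.congr_fun (congrArg (fun t => (t.val.app (op W)).hom) h1) (show F.val.obj (op W) from z)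

variable {𝔛} {h} {p} {hp} {F}

/-- A lift of a component lifts the smaller components. -/
theorem pW_eq_qM_of_le {W : X.Opens} {x : RM 𝔛 h (pullSys 𝔛 p hp F) (pU 𝔛 p W)} {n k : ℕ} (hnk : n ≤ k)
    {m : Γ(F, W)} (hm : pW 𝔛 h p hp F k W m = qM 𝔛 h (pullSys 𝔛 p hp F) k (pU 𝔛 p W) x) :
    pW 𝔛 h p hp F n W m = qM 𝔛 h (pullSys 𝔛 p hp F) n (pU 𝔛 p W) x := by
  induction k, hnk using Nat.le_induction with
  | base => exact hm
  | succ k _ ih =>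
    refine ih ?_
    rw [← tM_pW, hm]
    exact LinearMap.congr_fun (tM_qM 𝔛 h (pullSys 𝔛 p hp F) k) x

end Eta

variable {X Y : Scheme.{u}} (f : X ⟶ Y) {𝔛 𝔜 : FSch.Sys.{u}} (φ : 𝔛 ⟶ 𝔜) (hX : 𝔛.IsLocNoethFormal)
  (hY : 𝔜.IsLocNoethFormal) (p : ∀ k, 𝔛.X k ⟶ X) (hp : ∀ k, 𝔛.ι k ≫ p (k + 1) = p k)
  (r : ∀ k, 𝔜.X k ⟶ Y) (hr : ∀ k, 𝔜.ι k ≫ r (k + 1) = r k)
  (hsq : ∀ n, p n ≫ f = (φ : FSch.Hom 𝔛 𝔜).app n ≫ r n) (F : X.Modules)

include hsq in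
theorem fU_pU (W : Y.Opens) :
    ((φ : FSch.Hom 𝔛 𝔜).app 0) ⁻¹ᵁ (pU 𝔜 r W) = pU 𝔛 p (f ⁻¹ᵁ W) :=
  (FSch.sch_sq_preimage φ f p r hsq W).symm

/-- Morphisms to a direct image respect the levels. -/
theorem qM_pushed_eq_zero (𝔐 : FSch.ModSys 𝔜) (𝔑 : FSch.ModSys 𝔛)
    (Ψ : 𝔐.realMod hY.1 ⟶ (FSch.pushF φ hX.1 hY.1).obj (𝔑.realMod hX.1)) {U : (𝔜.X 0).Opens} (hU : IsAffineOpen U)
    (k : ℕ) : ∀ y ∈ J 𝔜 hY.1 U ^ (k + 1) • (⊤ : Submodule (O 𝔜 hY.1 U) (RM 𝔜 hY.1 𝔐 U)),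
      qM 𝔛 hX.1 𝔑 k (((φ : FSch.Hom 𝔛 𝔜).app 0) ⁻¹ᵁ U) ((Ψ.val.app (op U)).hom y) = 0 := by
  intro y hy
  let U' := ((φ : FSch.Hom 𝔛 𝔜).app 0) ⁻¹ᵁ U
  let ψ : RM 𝔜 hY.1 𝔐 U →+ RM 𝔛 hX.1 𝔑 U' := (Ψ.val.app (op U)).hom.toAddMonoidHom
  let q : RM 𝔛 hX.1 𝔑 U' →ₗ[O 𝔛 hX.1 U'] LM 𝔛 hX.1 𝔑 k U' := qM 𝔛 hX.1 𝔑 k U'
  show q (ψ y) = 0
  refine Submodule.smul_induction_on hy (fun a ha b _ => ?_)
    (fun a b ha hb => by rw [map_add, map_add, ha, hb, add_zero])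
  let a' : O 𝔛 hX.1 U' := ((FSch.Hom.sharp φ hX.1 hY.1).hom.app (op U)).hom a
  have hsm : ψ (a • b) = a' • ψ b := map_smul (Ψ.val.app (op U)).hom a b
  have ha' : pR 𝔜 hY.1 k U a = 0 := by
    rw [← (O_spec 𝔜 hY hU).2.2 k] at ha
    exact ha
  have hk : pR 𝔛 hX.1 k U' a' = 0 :=
    (ConcreteCategory.congr_hom (congrArg (fun t => t.hom.app (op U)) (FSch.Hom.sharp_proj φ hX.1 hY.1 k)) a).trans
      ((congrArg ((FSch.Hom.levelPush φ hX.1 hY.1 k).hom.app (op U)).hom ha').trans (map_zero _))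
  refine (congrArg q hsm).trans ((map_smul q a' (ψ b)).trans ?_)
  refine (smul_LM 𝔛 hX.1 𝔑 k a' (q (ψ b))).trans ?_
  rw [hk]
  exact zero_smul Γ(𝔛.X k, 𝔛.lvU hX.1 k U') (show Γ(𝔑.F k, 𝔛.lvU hX.1 k U') from q (ψ b))

variable (eX : (kap 𝔛 hX.1 p hp).pull.obj F ≅ (pullSys 𝔛 p hp F).realMod hX.1)
  (eY : (kap 𝔜 hY.1 r hr).pull.obj ((Scheme.Modules.pushforward f).obj F) ≅
    (pullSys 𝔜 r hr ((Scheme.Modules.pushforward f).obj F)).realMod hY.1)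

/-- The comparison of the completions. -/
abbrev cmpM : (pullSys 𝔜 r hr ((Scheme.Modules.pushforward f).obj F)).realMod hY.1 ⟶
    (FSch.pushF φ hX.1 hY.1).obj ((pullSys 𝔛 p hp F).realMod hX.1) :=
  eY.inv ≫ FSch.schBcMap φ hX.1 hY.1 f p hp r hr hsq F ≫ (FSch.pushF φ hX.1 hY.1).map eX.hom

/-- The comparison on sections over the preimage of an open. -/
def cmpS (W : Y.Opens) (x : RM 𝔜 hY.1 (pullSys 𝔜 r hr ((Scheme.Modules.pushforward f).obj F)) (pU 𝔜 r W)) :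
    RM 𝔛 hX.1 (pullSys 𝔛 p hp F) (pU 𝔛 p (f ⁻¹ᵁ W)) :=
  res (R := ModSite.ringSh (𝔛.Osh hX.1)) ((pullSys 𝔛 p hp F).realMod hX.1) (fU_pU f φ p r hsq W).ge
    (((cmpM f φ hX hY p hp r hr hsq F eX eY).val.app (op (pU 𝔜 r W))).hom x)

theorem cmpS_eta (W : Y.Opens) (z : Γ((Scheme.Modules.pushforward f).obj F, W)) :
    cmpS f φ hX hY p hp r hr hsq F eX eY W
        (eta 𝔜 hY.1 r hr ((Scheme.Modules.pushforward f).obj F) eY W z) =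
      eta 𝔛 hX.1 p hp F eX (f ⁻¹ᵁ W) z := by
  let U' := ((φ : FSch.Hom 𝔛 𝔜).app 0) ⁻¹ᵁ (pU 𝔜 r W)
  let u := (((kap 𝔜 hY.1 r hr).adj.unit.app ((Scheme.Modules.pushforward f).obj F)).val.app (op W)).hom z
  let v := (((kap 𝔛 hX.1 p hp).adj.unit.app F).val.app (op (f ⁻¹ᵁ W))).hom z
  have h1 : ((FSch.schBcMap φ hX.1 hY.1 f p hp r hr hsq F).val.app (op (pU 𝔜 r W))).hom u =
      res (R := ModSite.ringSh (𝔛.Osh hX.1)) ((kap 𝔛 hX.1 p hp).pull.obj F) (fU_pU f φ p r hsq W).le v := by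
    have ht := ModSite.RMor.bcMap_transpose (FSch.schSharp_sq φ hX.1 hY.1 f p hp r hr hsq) F
    rw [Adjunction.homEquiv_unit] at ht
    exact LinearMap.congr_fun (congrArg (fun t => (t.val.app (op W)).hom) ht)
      (show ((Scheme.Modules.pushforward f).obj F).val.obj (op W) from z)
  have h2 : ((eY.inv).val.app (op (pU 𝔜 r W))).hom
      (eta 𝔜 hY.1 r hr ((Scheme.Modules.pushforward f).obj F) eY W z) = u :=
    LinearMap.congr_fun (congrArg (fun t => ((t : (kap 𝔜 hY.1 r hr).pull.obj _ ⟶ _).val.app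
      (op (pU 𝔜 r W))).hom) eY.hom_inv_id) u
  have h3 : ((cmpM f φ hX hY p hp r hr hsq F eX eY).val.app (op (pU 𝔜 r W))).hom
      (eta 𝔜 hY.1 r hr ((Scheme.Modules.pushforward f).obj F) eY W z) =
      (eX.hom.val.app (op U')).hom
        (res (R := ModSite.ringSh (𝔛.Osh hX.1)) ((kap 𝔛 hX.1 p hp).pull.obj F) (fU_pU f φ p r hsq W).le v) := by
    refine Eq.trans ?_ (congrArg (eX.hom.val.app (op U')).hom h1)
    exact congrArg (fun t => (eX.hom.val.app (op U')).hom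
      (((FSch.schBcMap φ hX.1 hY.1 f p hp r hr hsq F).val.app (op (pU 𝔜 r W))).hom t)) h2
  refine (congrArg (res (R := ModSite.ringSh (𝔛.Osh hX.1)) _ (fU_pU f φ p r hsq W).ge)
    (h3.trans (PresheafOfModules.naturality_apply eX.hom.val (homOfLE (fU_pU f φ p r hsq W).le).op v))).trans ?_
  exact (res_res _ _ _ _).trans (res_self _ _ _)

variable [AlgebraicGeometry.IsNoetherian X] [IsLocallyNoetherian Y] [IsProper f]
  (hF : Coh.IsCoh F) {𝓘 : Y.IdealSheafData} (hcl : ∀ k, IsClosedImmersion (p k)) [IsClosedImmersion (r 0)]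
  (hcut : CutBy 𝔛 p (𝓘.comap f)) (hcutY : CutBy 𝔜 r 𝓘)
  (heX : ∀ k, ((kap 𝔛 hX.1 p hp).adj.homEquiv _ _ eX.hom) ≫
          (kap 𝔛 hX.1 p hp).push.map (FSch.realProj 𝔛 hX.1 (pullSys 𝔛 p hp F).F (pullSys 𝔛 p hp F).toPush k) =
        (Scheme.Modules.pullbackPushforwardAdjunction (p k)).unit.app F ≫
          (FSch.schPushCompare 𝔛 hX.1 p hp k).app ((Scheme.Modules.pullback (p k)).obj F))
  (heY : ∀ k, ((kap 𝔜 hY.1 r hr).adj.homEquiv _ _ eY.hom) ≫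
          (kap 𝔜 hY.1 r hr).push.map (FSch.realProj 𝔜 hY.1 (pullSys 𝔜 r hr ((Scheme.Modules.pushforward f).obj F)).F
            (pullSys 𝔜 r hr ((Scheme.Modules.pushforward f).obj F)).toPush k) =
        (Scheme.Modules.pullbackPushforwardAdjunction (r k)).unit.app ((Scheme.Modules.pushforward f).obj F) ≫
          (FSch.schPushCompare 𝔜 hY.1 r hr k).app
            ((Scheme.Modules.pullback (r k)).obj ((Scheme.Modules.pushforward f).obj F)))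

include hF heX heY hcutY in
/-- The components of the comparison. -/
theorem qM_cmpS {W : Y.Opens} (hW : IsAffineOpen W) (k : ℕ)
    (x : RM 𝔜 hY.1 (pullSys 𝔜 r hr ((Scheme.Modules.pushforward f).obj F)) (pU 𝔜 r W))
    (m : Γ((Scheme.Modules.pushforward f).obj F, W))
    (hm : pW 𝔜 hY.1 r hr ((Scheme.Modules.pushforward f).obj F) k W m =
      qM 𝔜 hY.1 (pullSys 𝔜 r hr ((Scheme.Modules.pushforward f).obj F)) k (pU 𝔜 r W) x) :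
    qM 𝔛 hX.1 (pullSys 𝔛 p hp F) k (pU 𝔛 p (f ⁻¹ᵁ W)) (cmpS f φ hX hY p hp r hr hsq F eX eY W x) =
      pW 𝔛 hX.1 p hp F k (f ⁻¹ᵁ W) m := by
  haveI : ∀ n, IsLocallyNoetherian (𝔜.X n) := hY.2.2
  let M := (Scheme.Modules.pushforward f).obj F
  let U := pU 𝔜 r W
  let U' := ((φ : FSch.Hom 𝔛 𝔜).app 0) ⁻¹ᵁ U
  let 𝔐 := pullSys 𝔜 r hr M
  let 𝔑 := pullSys 𝔛 p hp F
  have hU : IsAffineOpen U := isAffineOpen_pU 𝔜 r hW
  have h𝔐 : 𝔐.IsCoh := isCoh_pullSys 𝔜 r hr M (Groth.L16.Exist.isCoh_pushforward f hF)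
  let Ψ : RM 𝔜 hY.1 𝔐 U →+ RM 𝔛 hX.1 𝔑 U' := ((cmpM f φ hX hY p hp r hr hsq F eX eY).val.app (op U)).hom.toAddMonoidHom
  have h0 : ∀ y ∈ J 𝔜 hY.1 U ^ (k + 1) • (⊤ : Submodule (O 𝔜 hY.1 U) (RM 𝔜 hY.1 𝔐 U)),
      qM 𝔛 hX.1 𝔑 k U' (Ψ y) = 0 :=
    qM_pushed_eq_zero φ hX hY 𝔐 𝔑 (cmpM f φ hX hY p hp r hr hsq F eX eY) hU k
  have hd : x - eta 𝔜 hY.1 r hr M eY W m ∈ J 𝔜 hY.1 U ^ (k + 1) • (⊤ : Submodule (O 𝔜 hY.1 U) (RM 𝔜 hY.1 𝔐 U)) := by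
    refine (((RM_spec 𝔜 𝔐 hY h𝔐 hU).2 k).2 _).1 ?_
    rw [map_sub, qM_eta 𝔜 hY.1 r hr M eY heY k W m, hm, sub_self]
  have h1 : qM 𝔛 hX.1 𝔑 k U' (Ψ x) = qM 𝔛 hX.1 𝔑 k U' (Ψ (eta 𝔜 hY.1 r hr M eY W m)) := by
    rw [← sub_eq_zero, ← map_sub, ← map_sub]
    exact h0 _ hd
  have hnat : ∀ w : RM 𝔛 hX.1 𝔑 U', qM 𝔛 hX.1 𝔑 k (pU 𝔛 p (f ⁻¹ᵁ W))
      (res (R := ModSite.ringSh (𝔛.Osh hX.1)) (𝔑.realMod hX.1) (fU_pU f φ p r hsq W).ge w) =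
      res (R := ModSite.ringSh (𝔛.Osh hX.1)) ((FSch.levelMor 𝔛 hX.1 k).push.obj (𝔑.F k))
        (fU_pU f φ p r hsq W).ge (qM 𝔛 hX.1 𝔑 k U' w) := fun w =>
    PresheafOfModules.naturality_apply (FSch.realProj 𝔛 hX.1 𝔑.F 𝔑.toPush k).val
      (homOfLE (fU_pU f φ p r hsq W).ge).op w
  rw [← qM_eta 𝔛 hX.1 p hp F eX heX k (f ⁻¹ᵁ W) m, ← cmpS_eta f φ hX hY p hp r hr hsq F eX eY W m]
  exact (hnat _).trans ((congrArg _ h1).trans (hnat _).symm)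

omit [AlgebraicGeometry.IsNoetherian X] [IsLocallyNoetherian Y] [IsProper f] [IsClosedImmersion (r 0)] in
theorem pW_eq_zero_iff (k : ℕ) (V : X.Opens) (m : Γ(F, V)) :
    pW 𝔛 hX.1 p hp F k V m = 0 ↔ (uG 𝔛 p hp F k).app V m = 0 := by
  refine ⟨fun h => ?_, fun h => (congrArg (rs _ (pU_le 𝔛 hX.1 p hp k V)) h).trans (map_zero _)⟩
  have h' := congrArg (rs ((Scheme.Modules.pullback (p k)).obj F) (FSch.lvU_p 𝔛 hX.1 p hp k V).le) h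
  rw [rs_rs, rs_self] at h'
  exact h'.trans (map_zero _)

include hF hcl hcut hcutY heX heY in
theorem cmpS_bijective {W : Y.Opens} (hW : IsAffineOpen W) :
    Function.Bijective (cmpS f φ hX hY p hp r hr hsq F eX eY W) := by
  let M := (Scheme.Modules.pushforward f).obj F
  haveI : Coh.IsQCoh M := (Groth.L16.Exist.isCoh_pushforward f hF).1
  obtain ⟨⟨c, hc⟩, hsur⟩ := formal_push 𝔛 p hp F f hcl hcut hF hW
  have hker : ∀ k, c ≤ k → ∀ n, n + 1 ≤ k - c → ∀ z : Γ(M, W), pW 𝔛 hX.1 p hp F k (f ⁻¹ᵁ W) z = 0 →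
      pW 𝔜 hY.1 r hr M n W z = 0 := fun k hk n hn z hz =>
    ((pW_spec 𝔜 hY.1 r hr M hcutY hW n).2 z).2 (Submodule.smul_mono (Ideal.pow_le_pow_right hn) le_rfl
      (hc k hk z ((pW_eq_zero_iff hX p hp F k _ z).1 hz)))
  constructor
  · intro x x' he
    refine qM_ext 𝔜 hY.1 _ fun n => ?_
    obtain ⟨m, hm⟩ := (pW_spec 𝔜 hY.1 r hr M hcutY hW (n + 1 + c)).1
      (qM 𝔜 hY.1 (pullSys 𝔜 r hr M) (n + 1 + c) (pU 𝔜 r W) x)
    obtain ⟨m', hm'⟩ := (pW_spec 𝔜 hY.1 r hr M hcutY hW (n + 1 + c)).1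
      (qM 𝔜 hY.1 (pullSys 𝔜 r hr M) (n + 1 + c) (pU 𝔜 r W) x')
    have h1 := congrArg (qM 𝔛 hX.1 (pullSys 𝔛 p hp F) (n + 1 + c) (pU 𝔛 p (f ⁻¹ᵁ W))) he
    rw [qM_cmpS f φ hX hY p hp r hr hsq F eX eY hF hcutY heX heY hW _ x m hm,
      qM_cmpS f φ hX hY p hp r hr hsq F eX eY hF hcutY heX heY hW _ x' m' hm'] at h1
    rw [← pW_eq_qM_of_le (show n ≤ n + 1 + c by omega) hm, ← pW_eq_qM_of_le (show n ≤ n + 1 + c by omega) hm',
      ← sub_eq_zero, ← pW_sub]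
    refine hker (n + 1 + c) (by omega) n (by omega) _ ?_
    exact (pW_sub _ _ _ _ _ _ _ _ _).trans (sub_eq_zero.2 h1)
  · intro y
    let V := f ⁻¹ᵁ W
    let 𝔑 := pullSys 𝔛 p hp F
    let el : ∀ k, p k ⁻¹ᵁ V ≤ 𝔛.lvU hX.1 k (pU 𝔛 p V) := fun k => (FSch.lvU_p 𝔛 hX.1 p hp k V).le
    let y' : ∀ k, Γ(gObj 𝔛 p 𝔑 k, V) := fun k =>
      rs (𝔑.F k) (el k) (qM 𝔛 hX.1 𝔑 k (pU 𝔛 p V) y)
    have hy' : ∀ k, (gTr 𝔛 p hp 𝔑 k).app V (y' (k + 1)) = y' k := fun k => by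
      refine (gTr_app 𝔛 p hp 𝔑 k V _).trans ?_
      have h1 := (tM_apply 𝔛 hX.1 𝔑 k (U := pU 𝔛 p V) (qM 𝔛 hX.1 𝔑 (k + 1) (pU 𝔛 p V) y)).symm.trans
        (LinearMap.congr_fun (tM_qM 𝔛 hX.1 𝔑 k) y)
      refine Eq.trans ?_ (congrArg (rs (𝔑.F k) (el k)) h1)
      refine Eq.trans ?_ (Groth.L17.BC.PullSec.app_rs _ _ _)
      refine congrArg ((𝔑.e k).hom.app _) ?_
      rw [← Groth.L18.Frame.pull_rs, rs_rs, rs_rs]
    choose z hz using hsur y' hy'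
    have hzq : ∀ n, pW 𝔛 hX.1 p hp F n V (z n) = qM 𝔛 hX.1 𝔑 n (pU 𝔛 p V) y := fun n => by
      refine (congrArg (rs _ (pU_le 𝔛 hX.1 p hp n V)) (hz n)).trans ?_
      rw [rs_rs, rs_self]
    let m : ℕ → Γ(M, W) := fun n => z (n + 1 + c)
    have hy : ∀ n, tM 𝔜 hY.1 (pullSys 𝔜 r hr M) n (pU 𝔜 r W) (pW 𝔜 hY.1 r hr M (n + 1) W (m (n + 1))) =
        pW 𝔜 hY.1 r hr M n W (m n) := fun n => by
      refine (tM_pW 𝔜 hY.1 r hr M n W _).trans ?_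
      rw [← sub_eq_zero, ← pW_sub]
      refine hker (n + 1 + c) (by omega) n (by omega) _ ?_
      refine (pW_sub _ _ _ _ _ _ _ _ _).trans (sub_eq_zero.2 ?_)
      exact (pW_eq_qM_of_le (show n + 1 + c ≤ n + 1 + 1 + c by omega) (hzq (n + 1 + 1 + c))).trans
        (hzq (n + 1 + c)).symm
    obtain ⟨x, hx⟩ := exists_qM 𝔜 hY.1 (pullSys 𝔜 r hr M) (fun n => pW 𝔜 hY.1 r hr M n W (m n)) hy
    refine ⟨x, qM_ext 𝔛 hX.1 _ fun n => ?_⟩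
    rw [qM_cmpS f φ hX hY p hp r hr hsq F eX eY hF hcutY heX heY hW n x (m n) (hx n).symm]
    exact pW_eq_qM_of_le (show n ≤ n + 1 + c by omega) (hzq (n + 1 + c))

include hF hcl hcut hcutY in
omit eX eY in
/-- The completion of the direct image is the direct image of the completion. -/
theorem isIso_schBcMap : IsIso (FSch.schBcMap φ hX.1 hY.1 f p hp r hr hsq F) := by
  haveI := hcl 0
  haveI : IsLocallyNoetherian X := inferInstance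
  obtain ⟨eX, heX⟩ := exists_pull_iso_pullSys 𝔛 p hp F hX hF
  obtain ⟨eY, heY⟩ := exists_pull_iso_pullSys 𝔜 r hr ((Scheme.Modules.pushforward f).obj F) hY
    (Groth.L16.Exist.isCoh_pushforward f hF)
  let N := (pullSys 𝔛 p hp F).realMod hX.1
  have hb : ∀ U ∈ {U : Opens (𝔜.X 0) | ∃ W : Y.Opens, IsAffineOpen W ∧ U = pU 𝔜 r W},
      Function.Bijective ((cmpM f φ hX hY p hp r hr hsq F eX eY).val.app (op U)).hom := by
    rintro _ ⟨W, hW, rfl⟩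
    have hres : Function.Bijective (fun w => res (R := ModSite.ringSh (𝔛.Osh hX.1)) N
        (fU_pU f φ p r hsq W).ge w) :=
      ⟨fun a b hab => by
        have h := congrArg (res (R := ModSite.ringSh (𝔛.Osh hX.1)) N (fU_pU f φ p r hsq W).le) hab
        rwa [res_res, res_res, res_self, res_self] at h,
      fun w => ⟨res (R := ModSite.ringSh (𝔛.Osh hX.1)) N (fU_pU f φ p r hsq W).le w,
        (res_res _ _ _ _).trans (res_self _ _ _)⟩⟩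
    exact (Function.Bijective.of_comp_iff' hres _).1
      (cmpS_bijective f φ hX hY p hp r hr hsq F eX eY hF hcl hcut hcutY heX heY hW)
  haveI := mono_of_injective_basis (isBasis_pU 𝔜 r) (cmpM f φ hX hY p hp r hr hsq F eX eY) fun U hU => (hb U hU).1
  haveI := epi_of_surjective_basis (isBasis_pU 𝔜 r) (cmpM f φ hX hY p hp r hr hsq F eX eY) fun U hU => (hb U hU).2
  haveI : IsIso (cmpM f φ hX hY p hp r hr hsq F eX eY) := isIso_of_mono_of_epi _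
  have e : FSch.schBcMap φ hX.1 hY.1 f p hp r hr hsq F =
      eY.hom ≫ cmpM f φ hX hY p hp r hr hsq F eX eY ≫ inv ((FSch.pushF φ hX.1 hY.1).map eX.hom) := by
    simp
  rw [e]
  infer_instance

end Groth.L17.FSheaf

namespace Groth.L17.FSheaf

theorem nonempty_pushF_iso {X Y : Scheme.{u}} (f : X ⟶ Y) {𝔛 𝔜 : FSch.Sys.{u}} (φ : 𝔛 ⟶ 𝔜)
    (hX : 𝔛.IsLocNoethFormal) (hY : 𝔜.IsLocNoethFormal) (p : ∀ k, 𝔛.X k ⟶ X)
    (hp : ∀ k, 𝔛.ι k ≫ p (k + 1) = p k) (r : ∀ k, 𝔜.X k ⟶ Y) (hr : ∀ k, 𝔜.ι k ≫ r (k + 1) = r k)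
    (hsq : ∀ n, p n ≫ f = (φ : FSch.Hom 𝔛 𝔜).app n ≫ r n)
    [AlgebraicGeometry.IsNoetherian X] [IsLocallyNoetherian Y] [IsProper f] {𝓘 : Y.IdealSheafData}
    (hcl : ∀ k, IsClosedImmersion (p k)) (hclY : IsClosedImmersion (r 0))
    (hcut : CutBy 𝔛 p (𝓘.comap f)) (hcutY : CutBy 𝔜 r 𝓘) {G : X.Modules} (hG : Coh.IsCoh G)
    (𝔉 : FSch.ModF 𝔛 hX.1) (e : 𝔉 ≅ (pullSys 𝔛 p hp G).realMod hX.1) :
    Nonempty ((FSch.pushF φ hX.1 hY.1).obj 𝔉 ≅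
      (pullSys 𝔜 r hr ((Scheme.Modules.pushforward f).obj G)).realMod hY.1) := by
  haveI := hclY
  haveI := hcl 0
  haveI := isIso_schBcMap f φ hX hY p hp r hr hsq G hG hcl hcut hcutY
  obtain ⟨eX, -⟩ := exists_pull_iso_pullSys 𝔛 p hp G hX hG
  obtain ⟨eY, -⟩ := exists_pull_iso_pullSys 𝔜 r hr ((Scheme.Modules.pushforward f).obj G) hY
    (Groth.L16.Exist.isCoh_pushforward f hG)
  exact ⟨(FSch.pushF φ hX.1 hY.1).mapIso (e ≪≫ eX.symm) ≪≫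
    (asIso (FSch.schBcMap φ hX.1 hY.1 f p hp r hr hsq G)).symm ≪≫ eY⟩

end Groth.L17.FSheaf
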