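import Mathlib.RingTheory.AdicCompletion.AsTensorProduct
import Mathlib.RingTheory.Flat.Stability

/-!
# The limit of the quotients by powers of an ideal is flat
-/

set_option autoImplicit false
set_option linter.style.haveILetI false

universe u

noncomputable section

namespace Groth.L17.FSheaf

variable {R O : Type u} [CommRing R] [IsNoetherianRing R] [CommRing O] [Algebra R O] (I : Ideal R)

/-- A limit of the quotients by the powers of an ideal of a Noetherian ring is flat. -/
theorem flat_of_tower {B : ℕ → Type u} [∀ k, CommRing (B k)] (q : ∀ k, R →+* B k) (π : ∀ k, O →+* B k)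
    (t : ∀ k, B (k + 1) →+* B k) (hker : ∀ k, RingHom.ker (q k) = I ^ (k + 1))
    (hq : ∀ k, Function.Surjective (q k)) (hπ : ∀ k r, π k (algebraMap R O r) = q k r)
    (hπt : ∀ k x, t k (π (k + 1) x) = π k x)
    (hinj : ∀ x y : O, (∀ k, π k x = π k y) → x = y)
    (hlift : ∀ y : ∀ k, B k, (∀ k, t k (y (k + 1)) = y k) → ∃ x, ∀ k, π k x = y k) :
    Module.Flat R O := by
  have hqt : ∀ k r, t k (q (k + 1) r) = q k r := fun k r => by rw [← hπ, hπt, hπ]
  have hsm : ∀ n, (I ^ n • ⊤ : Submodule R R) = I ^ n := fun n => by rw [smul_eq_mul, Ideal.mul_top]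
  have hwd : ∀ (k : ℕ) (r s : R), (Submodule.Quotient.mk r : R ⧸ (I ^ (k + 1) • ⊤ : Submodule R R)) =
      Submodule.Quotient.mk s ↔ q k r = q k s := fun k r s => by
    rw [Submodule.Quotient.eq, hsm, ← sub_eq_zero (a := q k r), ← map_sub, ← RingHom.mem_ker, hker]
  have hex : ∀ z : AdicCompletion I R, ∃ x : O, ∀ (k : ℕ) (r : R),
      Submodule.Quotient.mk r = z.val (k + 1) → π k x = q k r := by
    intro z
    obtain ⟨f, rfl⟩ := AdicCompletion.mk_surjective I R z
    obtain ⟨x, hx⟩ := hlift (fun k => q k (f (k + 1))) fun k => by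
      rw [hqt]
      exact (hwd k _ _).1 (AdicCompletion.AdicCauchySequence.mk_eq_mk (Nat.le_succ (k + 1)) f)
    exact ⟨x, fun k r hr => (hx k).trans ((hwd k _ _).1 hr).symm⟩
  choose ψ hψ using hex
  have hrep : ∀ (z : AdicCompletion I R) (k : ℕ), ∃ r : R, Submodule.Quotient.mk r = z.val (k + 1) :=
    fun z k => Submodule.Quotient.mk_surjective _ _
  let Ψ : AdicCompletion I R →ₗ[R] O :=
    { toFun := ψ
      map_add' := fun z w => hinj _ _ fun k => by
        obtain ⟨r, hr⟩ := hrep z k
        obtain ⟨s, hs⟩ := hrep w k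
        rw [map_add, hψ z k r hr, hψ w k s hs, ← map_add]
        exact hψ _ k _ (by rw [Submodule.Quotient.mk_add, hr, hs]; rfl)
      map_smul' := fun a z => hinj _ _ fun k => by
        obtain ⟨r, hr⟩ := hrep z k
        rw [RingHom.id_apply, Algebra.smul_def a (ψ z), map_mul (π k), hψ z k r hr, hπ, ← map_mul]
        exact hψ _ k _ (by rw [← smul_eq_mul, Submodule.Quotient.mk_smul, hr]; rfl) }
  have hinjΨ : Function.Injective Ψ := (injective_iff_map_eq_zero Ψ).2 fun z hz => by
    refine AdicCompletion.ext fun n => ?_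
    rcases n with _ | k
    · obtain ⟨r, hr⟩ := Submodule.Quotient.mk_surjective _ (z.val 0)
      rw [← hr]
      exact (Submodule.Quotient.mk_eq_zero _).2 (by rw [hsm, pow_zero, Ideal.one_eq_top]; trivial)
    · obtain ⟨r, hr⟩ := hrep z k
      rw [← hr]
      refine ((hwd k r 0).2 ?_).trans (Submodule.Quotient.mk_zero _)
      rw [← hψ z k r hr, map_zero, show ψ z = 0 from hz, map_zero]
  have hsurΨ : Function.Surjective Ψ := fun x => by
    choose r hr using fun k => hq k (π k x)
    let f : ℕ → R := fun n => r n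
    have hone : ∀ k, q k (r (k + 1)) = π k x := fun k => by rw [← hqt k (r (k + 1)), hr (k + 1), hπt]
    have hf : ∀ n, f n ≡ f (n + 1) [SMOD (I ^ n • ⊤ : Submodule R R)] := fun n => by
      rcases n with _ | k
      · rw [SModEq.sub_mem, hsm, pow_zero, Ideal.one_eq_top]; trivial
      · refine (hwd k _ _).2 ?_
        show q k (r (k + 1)) = q k (r (k + 1 + 1))
        rw [hone k, ← hqt k (r (k + 1 + 1)), hone (k + 1), hπt]
    refine ⟨AdicCompletion.mk I R (AdicCompletion.AdicCauchySequence.mk I R f hf), hinj _ _ fun k => ?_⟩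
    refine (hψ _ k (f (k + 1)) rfl).trans ?_
    exact hone k
  exact Module.Flat.of_linearEquiv (LinearEquiv.ofBijective Ψ ⟨hinjΨ, hsurΨ⟩).symm

end Groth.L17.FSheaf
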