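import Groth.Agent.L17.FSheaf.CompSect
import Groth.Agent.L17.FSheaf.TowerFlat
import Groth.Agent.S6845
import Mathlib.RingTheory.Flat.Localization
import Mathlib.RingTheory.Flat.EquationalCriterion

/-!
# The completion is flat over the scheme
-/

set_option autoImplicit false
set_option linter.style.haveILetI false
set_option linter.unusedSectionVars false
set_option backward.isDefEq.respectTransparency false
set_option backward.isDefEq.respectTransparency.types false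
set_option maxHeartbeats 400000

universe u

open CategoryTheory CategoryTheory.Limits AlgebraicGeometry TopologicalSpace Opposite

noncomputable section

namespace Groth.L17.FSheaf

open Groth.L18.Frame (ro)

variable {X : Scheme.{u}} (𝔛 : FSch.Sys.{u}) (h : 𝔛.IsFormal) (p : ∀ k, 𝔛.X k ⟶ X)
  (hp : ∀ k, 𝔛.ι k ≫ p (k + 1) = p k)

/-- The presheaf of functions. -/
abbrev oP : TopCat.Presheaf CommRingCat.{u} (𝔛.X 0).carrier := (𝔛.Osh h).obj

/-- The map of functions to the functions of the completion. -/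
abbrev shp (W : X.Opens) : Γ(X, W) →+* O 𝔛 h (pU 𝔛 p W) :=
  ((FSch.schSharp 𝔛 h p hp).hom.app (op W)).hom

theorem pR_shp (k : ℕ) (W : X.Opens) (r : Γ(X, W)) :
    pR 𝔛 h k (pU 𝔛 p W) (shp 𝔛 h p hp W r) =
      ((p k).appLE W (𝔛.lvU h k (pU 𝔛 p W)) (pU_le 𝔛 h p hp k W)).hom r := by
  show (𝔛.OshProj h k).hom.app (op (p 0 ⁻¹ᵁ W)) ((FSch.schSharp 𝔛 h p hp).hom.app (op W) r) =
    (p k).appLE W _ (FSch.lvU_p 𝔛 h p hp k W).ge r
  rw [← FSch.schLevel_app 𝔛 h p hp k (op W), ← FSch.schSharp_proj 𝔛 h p hp k]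
  rfl

theorem shp_res {V W : X.Opens} (e : V ≤ W) (r : Γ(X, W)) :
    (oP 𝔛 h).map (homOfLE ((p 0).preimage_mono e)).op (shp 𝔛 h p hp W r) =
      shp 𝔛 h p hp V (ro e r) :=
  (ConcreteCategory.congr_hom ((FSch.schSharp 𝔛 h p hp).hom.naturality (homOfLE e).op) r).symm

variable [IsLocallyNoetherian X] [IsClosedImmersion (p 0)] {𝓘 : X.IdealSheafData} (hcut : CutBy 𝔛 p 𝓘)

include hcut in
theorem flat_shp {W : X.Opens} (hW : IsAffineOpen W) :
    letI := (shp 𝔛 h p hp W).toAlgebra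
    Module.Flat Γ(X, W) (O 𝔛 h (pU 𝔛 p W)) := by
  letI := (shp 𝔛 h p hp W).toAlgebra
  haveI : IsNoetherianRing Γ(X, W) := IsLocallyNoetherian.component_noetherian ⟨W, hW⟩
  have hUeq : ∀ k, 𝔛.lvU h k (pU 𝔛 p W) = p k ⁻¹ᵁ W := fun k => (FSch.lvU_p 𝔛 h p hp k W).symm
  exact flat_of_tower (𝓘.ideal ⟨W, hW⟩)
    (fun k => ((p k).appLE W (𝔛.lvU h k (pU 𝔛 p W)) (pU_le 𝔛 h p hp k W)).hom)
    (fun k => pR 𝔛 h k (pU 𝔛 p W)) (fun k => tR 𝔛 h k (pU 𝔛 p W))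
    (fun k => (ker_appLE (p k) (hUeq k)).trans (hcut k ⟨W, hW⟩).2)
    (fun k => appLE_surjective_of_eq (p k) (hUeq k) (hcut k ⟨W, hW⟩).1)
    (fun k r => pR_shp 𝔛 h p hp k W r) (fun k x => tR_pR 𝔛 h k _ x)
    (fun x y hxy => pR_ext 𝔛 h hxy) (fun y hy => exists_pR 𝔛 h _ y hy)

/-- The stalk map at a point. -/
abbrev stalkShp (x : 𝔛.X 0) :
    ↥(X.presheaf.stalk (p 0 x)) →+* ↥(TopCat.Presheaf.stalk (oP 𝔛 h) x : CommRingCat.{u}) :=
  ((TopCat.Presheaf.stalkFunctor CommRingCat.{u} ((p 0).base x)).map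
      (show X.presheaf ⟶ (TopCat.Presheaf.pushforward CommRingCat.{u} (p 0).base).obj (oP 𝔛 h) from
        (FSch.schSharp 𝔛 h p hp).hom) ≫
    TopCat.Presheaf.stalkPushforward CommRingCat.{u} (p 0).base (oP 𝔛 h) x).hom

theorem stalkShp_germ (x : 𝔛.X 0) (W : X.Opens) (hx : p 0 x ∈ W) (r : Γ(X, W)) :
    stalkShp 𝔛 h p hp x (X.presheaf.germ W (p 0 x) hx r) =
      TopCat.Presheaf.germ (oP 𝔛 h) (pU 𝔛 p W) x hx (shp 𝔛 h p hp W r) := by
  show TopCat.Presheaf.stalkPushforward CommRingCat.{u} (p 0).base (oP 𝔛 h) x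
    ((TopCat.Presheaf.stalkFunctor CommRingCat.{u} ((p 0).base x)).map _
      (TopCat.Presheaf.germ X.presheaf W ((p 0).base x) hx r)) = _
  erw [TopCat.Presheaf.stalkFunctor_map_germ_apply, TopCat.Presheaf.stalkPushforward_germ_apply]
  rfl

include hcut in
theorem flat_stalkShp (x : 𝔛.X 0) : (stalkShp 𝔛 h p hp x).Flat := by
  classical
  let P := oP 𝔛 h
  obtain ⟨_, ⟨W₀, hW₀, rfl⟩, hx₀, -⟩ :=
    X.isBasis_affineOpens.exists_subset_of_mem_open (Set.mem_univ (p 0 x)) isOpen_univ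
  let S := X.presheaf.stalk (p 0 x)
  let M : CommRingCat.{u} := TopCat.Presheaf.stalk P x
  letI : Algebra S M := (stalkShp 𝔛 h p hp x).toAlgebra
  letI : Algebra Γ(X, W₀) S := X.presheaf.algebra_section_stalk ⟨p 0 x, hx₀⟩
  letI : Algebra Γ(X, W₀) M := ((stalkShp 𝔛 h p hp x).comp (algebraMap Γ(X, W₀) S)).toAlgebra
  haveI : IsScalarTower Γ(X, W₀) S M := IsScalarTower.of_algebraMap_eq fun _ => rfl
  haveI := hW₀.isLocalization_stalk ⟨p 0 x, hx₀⟩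
  suffices hflat : Module.Flat Γ(X, W₀) M from
    (Module.flat_iff_of_isLocalization S (hW₀.primeIdealOf ⟨p 0 x, hx₀⟩).asIdeal.primeCompl M).2 hflat
  have nbhd : ∀ V : (𝔛.X 0).Opens, x ∈ V → ∃ g : Γ(X, W₀), p 0 x ∈ X.basicOpen g ∧
      pU 𝔛 p (X.basicOpen g) ≤ V := by
    intro V hV
    obtain ⟨Ω, hΩ, eΩ⟩ := (p 0).isClosedEmbedding.isInducing.isOpen_iff.1 V.2
    obtain ⟨g, hg, hxg⟩ := hW₀.exists_basicOpen_le (V := ⟨Ω, hΩ⟩)
      ⟨p 0 x, show p 0 x ∈ Ω from eΩ.ge hV⟩ hx₀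
    exact ⟨g, hxg, fun y hy => eΩ.le (hg hy)⟩
  refine Module.Flat.iff_forall_isTrivialRelation.2 fun {l f m} hrel => ?_
  choose V hxV s hs using fun i => TopCat.Presheaf.exists_germ_eq (F := P) (x := x) (m i)
  obtain ⟨V₀, hxV₀, hV₀⟩ : ∃ V₀ : (𝔛.X 0).Opens, x ∈ V₀ ∧ ∀ i, V₀ ≤ V i :=
    ⟨⟨⋂ i, (V i : Set (𝔛.X 0)), isOpen_iInter_of_finite fun i => (V i).2⟩, Set.mem_iInter.2 hxV,
      fun i => Set.iInter_subset _ i⟩
  obtain ⟨g, hxg, hgV⟩ := nbhd V₀ hxV₀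
  have hle : X.basicOpen g ≤ W₀ := X.basicOpen_le g
  let σ := fun i => P.map (homOfLE (hgV.trans (hV₀ i))).op (s i)
  have hσ : ∀ i, P.germ (pU 𝔛 p (X.basicOpen g)) x hxg (σ i) = m i := fun i =>
    (TopCat.Presheaf.germ_res_apply P (homOfLE (hgV.trans (hV₀ i))) x hxg (s i)).trans (hs i)
  have halg : ∀ (W : X.Opens) (hW : W ≤ W₀) (hxW : p 0 x ∈ W) (r : Γ(X, W₀)),
      algebraMap Γ(X, W₀) M r = P.germ (pU 𝔛 p W) x hxW (shp 𝔛 h p hp W (ro hW r)) := by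
    intro W hW hxW r
    rw [← stalkShp_germ 𝔛 h p hp x W hxW, TopCat.Presheaf.germ_res_apply]
    rfl
  have hz : P.germ (pU 𝔛 p (X.basicOpen g)) x hxg
      (∑ i, shp 𝔛 h p hp (X.basicOpen g) (ro hle (f i)) * σ i) = 0 := by
    rw [map_sum]
    refine Eq.trans (Finset.sum_congr rfl fun i _ => ?_) hrel
    rw [map_mul, ← halg _ hle hxg, hσ, Algebra.smul_def]
  obtain ⟨V₁, hxV₁, i₁, i₂, e₁⟩ := TopCat.Presheaf.germ_eq P (U := pU 𝔛 p (X.basicOpen g)) (V := pU 𝔛 p (X.basicOpen g)) x hxg hxg _ 0 (hz.trans (map_zero _).symm)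
  obtain ⟨g', hxg', hgV'⟩ := nbhd V₁ hxV₁
  have hle' : X.basicOpen g' ≤ W₀ := X.basicOpen_le g'
  let W := X.basicOpen g ⊓ X.basicOpen g'
  have hWeq : W = X.basicOpen (g * g') := (X.basicOpen_mul g g').symm
  have hWaff : IsAffineOpen W := hWeq ▸ hW₀.basicOpen _
  have hxW : p 0 x ∈ W := ⟨hxg, hxg'⟩
  have hWg : W ≤ X.basicOpen g := inf_le_left
  let ρ : O 𝔛 h (pU 𝔛 p (X.basicOpen g)) →+* O 𝔛 h (pU 𝔛 p W) :=
    ((oP 𝔛 h).map (homOfLE ((p 0).preimage_mono hWg)).op).hom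
  have hrelW : ∑ i, shp 𝔛 h p hp W (ro (hWg.trans hle) (f i)) * ρ (σ i) = 0 := by
    have h1 : ρ (∑ i, shp 𝔛 h p hp (X.basicOpen g) (ro hle (f i)) * σ i) = 0 := by
      have h2 := congrArg (P.map (homOfLE
        (show pU 𝔛 p W ≤ V₁ from ((p 0).preimage_mono inf_le_right).trans hgV')).op) e₁
      rw [map_zero, map_zero] at h2
      refine Eq.trans ?_ h2
      show _ = (P.map i₁.op ≫ P.map _) _
      rw [← P.map_comp]
      rfl
    rw [map_sum] at h1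
    refine Eq.trans (Finset.sum_congr rfl fun i _ => ?_) h1
    rw [map_mul, show ρ (shp 𝔛 h p hp (X.basicOpen g) (ro hle (f i))) = _ from shp_res 𝔛 h p hp hWg _]
    congr 2
    exact (Groth.L18.Frame.ro_ro hle hWg _).symm
  letI : Algebra Γ(X, W₀) Γ(X, W) := (X.presheaf.map (homOfLE (hWg.trans hle)).op).hom.toAlgebra
  letI : Algebra Γ(X, W) (O 𝔛 h (pU 𝔛 p W)) := (shp 𝔛 h p hp W).toAlgebra
  letI : Algebra Γ(X, W₀) (O 𝔛 h (pU 𝔛 p W)) :=
    ((shp 𝔛 h p hp W).comp (algebraMap Γ(X, W₀) Γ(X, W))).toAlgebra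
  haveI : IsScalarTower Γ(X, W₀) Γ(X, W) (O 𝔛 h (pU 𝔛 p W)) := IsScalarTower.of_algebraMap_eq fun _ => rfl
  haveI : IsLocalization.Away (g * g') Γ(X, W) := hW₀.isLocalization_of_eq_basicOpen _ _ hWeq
  haveI : Module.Flat Γ(X, W₀) Γ(X, W) := IsLocalization.flat _ (Submonoid.powers (g * g'))
  haveI : Module.Flat Γ(X, W) (O 𝔛 h (pU 𝔛 p W)) := flat_shp 𝔛 h p hp hcut hWaff
  haveI : Module.Flat Γ(X, W₀) (O 𝔛 h (pU 𝔛 p W)) := Module.Flat.trans Γ(X, W₀) Γ(X, W) _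
  obtain ⟨k, a, y, ha, hf⟩ := Module.Flat.iff_forall_isTrivialRelation.1 this
    (f := f) (x := fun i => ρ (σ i)) (by simpa only [Algebra.smul_def] using! hrelW)
  refine ⟨k, a, fun j => P.germ (pU 𝔛 p W) x hxW (y j), fun i => ?_, hf⟩
  rw [← hσ i]
  refine (TopCat.Presheaf.germ_res_apply P (homOfLE ((p 0).preimage_mono hWg)) x hxW (σ i)).symm.trans ?_
  refine (congrArg (P.germ (pU 𝔛 p W) x hxW) (ha i)).trans ?_
  rw [map_sum]
  refine Finset.sum_congr rfl fun j _ => ?_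
  rw [Algebra.smul_def, Algebra.smul_def, map_mul, halg W (hWg.trans hle) hxW]
  rfl

include hcut in
/-- The morphism from the completion is flat. -/
theorem isFlat_kap : ModSite.RMor.IsFlat (FSch.toSchemeMor 𝔛 h p hp) :=
  Groth.Agent.S6845.result (p 0).base (𝔛.Osh h) X.sheaf (FSch.schSharp 𝔛 h p hp)
    (fun x => flat_stalkShp 𝔛 h p hp hcut x)

/-- The completion along an ideal is flat over the scheme. -/
theorem isFlat_completion (𝓘 : X.IdealSheafData) (h : (FSch.completionAlong X 𝓘).IsFormal) :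
    ModSite.RMor.IsFlat (FSch.toSchemeMor (FSch.completionAlong X 𝓘) h (FSch.completionToX X 𝓘)
      (FSch.completionToX_comm X 𝓘)) := by
  haveI : IsClosedImmersion (FSch.completionToX X 𝓘 0) :=
    inferInstanceAs (IsClosedImmersion (𝓘 ^ (0 + 1)).subschemeι)
  exact isFlat_kap (FSch.completionAlong X 𝓘) h (FSch.completionToX X 𝓘) (FSch.completionToX_comm X 𝓘)
    (cutBy_completionToX 𝓘)

end Groth.L17.FSheaf
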