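import Groth.Agent.L17.DerivedPrecomp
import Groth.Agent.L17.RpushSect
import Groth.Agent.L17.FSheaf.CompPull
import Groth.Agent.L17.FSheaf.ComplFlat
import Groth.Agent.L10.ModClosedPush
import Groth.Prelude.Def_FSch6

/-!
# The comparison of higher direct images with those of a completion
-/

set_option autoImplicit false
set_option linter.style.haveILetI false
set_option linter.unusedSectionVars false
set_option backward.isDefEq.respectTransparency false
set_option backward.isDefEq.respectTransparency.types false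

universe u

open CategoryTheory CategoryTheory.Limits AlgebraicGeometry TopologicalSpace Opposite

noncomputable section

namespace Groth.L17.FSheaf.RpushComp

open Groth.L17 Groth.L17.RpushSect Groth.L17.FSheaf Groth.L17.HomologyCompare
open Groth.L10.SiteCoh (rightDerivedCongr)

variable {X Y : Scheme.{u}} (f : X ⟶ Y) {𝔛 𝔜 : FSch.Sys.{u}} (φ : 𝔛 ⟶ 𝔜) (hX : 𝔛.IsFormal)
  (hY : 𝔜.IsFormal) (p : ∀ k, 𝔛.X k ⟶ X) (hp : ∀ k, 𝔛.ι k ≫ p (k + 1) = p k)
  (r : ∀ k, 𝔜.X k ⟶ Y) (hr : ∀ k, 𝔜.ι k ≫ r (k + 1) = r k)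
  (hsq : ∀ n, p n ≫ f = (φ : FSch.Hom 𝔛 𝔜).app n ≫ r n)

instance preservesFiniteLimits_pushKap : PreservesFiniteLimits (kap 𝔛 hX p hp).push :=
  haveI := (kap 𝔛 hX p hp).adj.rightAdjoint_preservesLimits
  inferInstance

theorem preservesFiniteColimits_pushKap [IsClosedImmersion (p 0)] :
    PreservesFiniteColimits (kap 𝔛 hX p hp).push :=
  Groth.L10.ModClosedPush.preservesFiniteColimits_push (kap 𝔛 hX p hp).sharpR (p 0).isClosedEmbedding

theorem preservesInjective_pushKap [IsLocallyNoetherian X] [IsClosedImmersion (p 0)] {𝓘 : X.IdealSheafData}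
    (hcut : CutBy 𝔛 p 𝓘) : (kap 𝔛 hX p hp).push.PreservesInjectiveObjects := by
  haveI : PreservesFiniteLimits (kap 𝔛 hX p hp).pull := isFlat_kap 𝔛 hX p hp hcut
  exact Functor.preservesInjectiveObjects_of_adjunction_of_preservesMonomorphisms (kap 𝔛 hX p hp).adj

variable [PreservesFiniteColimits (kap 𝔛 hX p hp).push] [(kap 𝔛 hX p hp).push.PreservesInjectiveObjects]
  [HasInjectiveResolutions (ModSite.Mod X.sheaf)] [HasInjectiveResolutions (FSch.ModF 𝔛 hX)] (q : ℕ)

/-- The identification of the direct images. -/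
abbrev sqI : (kap 𝔛 hX p hp).push ⋙ (ModSite.RMor.ofScheme f).push ≅
    (FSch.homMor φ hX hY).push ⋙ (kap 𝔜 hY r hr).push :=
  ModSite.RMor.pushSq (FSch.schSharp_sq φ hX hY f p hp r hr hsq)

/-- The comparison of higher direct images. -/
def cmpR : (kap 𝔛 hX p hp).push ⋙ (ModSite.RMor.ofScheme f).Rpush q ⟶
    (FSch.homMor φ hX hY).Rpush q ⋙ (kap 𝔜 hY r hr).push :=
  (pre (ModSite.RMor.ofScheme f).push q (kap 𝔛 hX p hp).push).hom ≫
    NatTrans.rightDerived (sqI f φ hX hY p hp r hr hsq).hom q ≫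
      Φ (kap 𝔜 hY r hr).push (FSch.homMor φ hX hY).push q

/-- The comparison of classes. -/
def cl (W : Y.Opens) : (kap 𝔛 hX p hp).push ⋙ PU (ModSite.RMor.ofScheme f) q W ⟶
    PU (FSch.homMor φ hX hY) q (pU 𝔜 r W) :=
  (pre ((ModSite.RMor.ofScheme f).push ⋙ secM Y.sheaf W) q (kap 𝔛 hX p hp).push).hom ≫
    NatTrans.rightDerived (Functor.whiskerRight (sqI f φ hX hY p hp r hr hsq).hom (secM Y.sheaf W)) q

theorem bijective_cl (W : Y.Opens) (M : FSch.ModF 𝔛 hX) :
    Function.Bijective ((cl f φ hX hY p hp r hr hsq q W).app M) := by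
  haveI : IsIso (Functor.whiskerRight (sqI f φ hX hY p hp r hr hsq).hom (secM Y.sheaf W)) := inferInstance
  haveI : IsIso (NatTrans.rightDerived
      (Functor.whiskerRight (sqI f φ hX hY p hp r hr hsq).hom (secM Y.sheaf W)) q) :=
    ((rightDerivedCongr (asIso (Functor.whiskerRight (sqI f φ hX hY p hp r hr hsq).hom
      (secM Y.sheaf W))) q).isIso_hom)
  haveI : IsIso (cl f φ hX hY p hp r hr hsq q W) := IsIso.comp_isIso
  exact ConcreteCategory.bijective_of_isIso ((cl f φ hX hY p hp r hr hsq q W).app M)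

/-- The comparison on classes. -/
theorem cmpR_ΦV (W : Y.Opens) (M : FSch.ModF 𝔛 hX)
    (y : (PU (ModSite.RMor.ofScheme f) q W).obj ((kap 𝔛 hX p hp).push.obj M)) :
    (((cmpR f φ hX hY p hp r hr hsq q).app M).val.app (op W)).hom
        ((ΦV (ModSite.RMor.ofScheme f) q W).app ((kap 𝔛 hX p hp).push.obj M) y) =
      (ΦV (FSch.homMor φ hX hY) q (pU 𝔜 r W)).app M ((cl f φ hX hY p hp r hr hsq q W).app M y) := by
  let S := secM Y.sheaf W
  have h : (Φ S (ModSite.RMor.ofScheme f).push q).app ((kap 𝔛 hX p hp).push.obj M) ≫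
      S.map ((cmpR f φ hX hY p hp r hr hsq q).app M) =
      (cl f φ hX hY p hp r hr hsq q W).app M ≫
        (Φ ((kap 𝔜 hY r hr).push ⋙ S) (FSch.homMor φ hX hY).push q).app M := by
    simp only [cmpR, cl, NatTrans.comp_app, Functor.map_comp]
    rw [reassoc_of% pre_Φ S (ModSite.RMor.ofScheme f).push q (kap 𝔛 hX p hp).push M, Category.assoc]
    refine congrArg (_ ≫ ·) ?_
    refine (reassoc_of% (Φ_natTrans_src S ((kap 𝔛 hX p hp).push ⋙ (ModSite.RMor.ofScheme f).push) q
      (sqI f φ hX hY p hp r hr hsq).hom M).symm) _ |>.trans ?_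
    exact congrArg (_ ≫ ·) (Φ_comp (kap 𝔜 hY r hr).push (FSch.homMor φ hX hY).push q S M)
  exact ConcreteCategory.congr_hom h y

end Groth.L17.FSheaf.RpushComp
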