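import Groth.Agent.L17.FSheaf.CompBridge
import Groth.Agent.L16.Exist.FormalSect
import Groth.Agent.L22.Ideal

/-!
# Formal functions over an affine open for systems cut out by an ideal sheaf
-/

set_option autoImplicit false
set_option linter.style.haveILetI false
set_option linter.unusedSectionVars false
set_option backward.isDefEq.respectTransparency false
set_option backward.isDefEq.respectTransparency.types false
set_option maxHeartbeats 400000

universe u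

open CategoryTheory CategoryTheory.Limits AlgebraicGeometry TopologicalSpace Opposite

noncomputable section

namespace Groth.L17.FSheaf

open Groth.L18.Frame (rs ro pull pull_rs rs_rs rs_self rs_smul)
open Groth.L17.BC.PullSec (app_rs map_pull)
open Groth.L16.AffineBC (pullRes isBaseChange_pull scal)
open Formal (modPow modPowπ modPowTrans modPowπ_trans smulMod)
open Formal2 (modPowLE modPowπ_modPowLE)

variable {X : Scheme.{u}} (𝔛 : FSch.Sys.{u}) (p : ∀ k, 𝔛.X k ⟶ X) (hp : ∀ k, 𝔛.ι k ≫ p (k + 1) = p k)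
  (F : X.Modules)

/-- The unit of a module to the direct image of a level. -/
abbrev uG (k : ℕ) : F ⟶ gObj 𝔛 p (pullSys 𝔛 p hp F) k :=
  (Scheme.Modules.pullbackPushforwardAdjunction (p k)).unit.app F

theorem uG_gTr (k : ℕ) : uG 𝔛 p hp F (k + 1) ≫ gTr 𝔛 p hp (pullSys 𝔛 p hp F) k = uG 𝔛 p hp F k := by
  refine Groth.L16.AffineBC.hom_ext_affine _ _ fun W _ m => ?_
  refine (gTr_app 𝔛 p hp (pullSys 𝔛 p hp F) k W _).trans ?_
  have he := pullTrans_app (𝔛.ι k) (p (k + 1)) (hp k) F W m (U := p (k + 1) ⁻¹ᵁ W) (V := p k ⁻¹ᵁ W)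
    le_rfl (gle 𝔛 p k W (hp k)) le_rfl
  rw [rs_self _ (le_refl _), rs_self _ (le_refl _)] at he
  exact he

/-- The kernel of the unit on affine opens. -/
theorem uG_spec (hcl : ∀ k, IsClosedImmersion (p k)) [Coh.IsQCoh F] {𝓚 : X.IdealSheafData} (hcut : CutBy 𝔛 p 𝓚)
    {W : X.Opens} (hW : IsAffineOpen W) (k : ℕ) :
    Function.Surjective ((uG 𝔛 p hp F k).app W) ∧ ∀ m, (uG 𝔛 p hp F k).app W m = 0 ↔
      m ∈ (𝓚.ideal ⟨W, hW⟩) ^ (k + 1) • (⊤ : Submodule Γ(X, W) Γ(F, W)) := by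
  haveI := hcl k
  let U := p k ⁻¹ᵁ W
  let e : U ≤ p k ⁻¹ᵁ W := le_rfl
  let P := (Scheme.Modules.pullback (p k)).obj F
  letI : Algebra Γ(X, W) Γ(𝔛.X k, U) := ((p k).appLE W U e).hom.toAlgebra
  letI := Module.compHom Γ(P, U) ((p k).appLE W U e).hom
  haveI : IsScalarTower Γ(X, W) Γ(𝔛.X k, U) Γ(P, U) := IsScalarTower.of_algebraMap_smul fun _ _ => rfl
  obtain ⟨hs, hk⟩ := surjective_of_baseChange _ (isBaseChange_pull (p k) F hW (hW.preimage _) e)
    (appLE_surjective_of_eq (p k) rfl (hcut k ⟨W, hW⟩).1)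
  rw [show RingHom.ker (algebraMap Γ(X, W) Γ(𝔛.X k, U)) = (𝓚.ideal ⟨W, hW⟩) ^ (k + 1) from
    (ker_appLE (p k) rfl).trans (hcut k ⟨W, hW⟩).2] at hk
  have hres : ∀ m, pullRes (p k) F e m = (uG 𝔛 p hp F k).app W m := fun m => rs_self _ _ _
  refine ⟨fun z => ?_, fun m => ?_⟩
  · obtain ⟨m, hm⟩ := hs z
    exact ⟨m, (hres m).symm.trans hm⟩
  · rw [← hk, LinearMap.mem_ker, hres]

section Restrict

theorem app_congr {Z : Scheme.{u}} {M N : Z.Modules} {α β : M ⟶ N} (h : α = β) {U : Z.Opens} (x : Γ(M, U)) :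
    α.app U x = β.app U x := by rw [h]

variable {A : Type u} [CommRing A] (I : Ideal A) {Z : Scheme.{u}} [Z.Over (Spec (CommRingCat.of A))]
  [AlgebraicGeometry.IsNoetherian Z]

/-- A quotient with the kernels of a reduction is the reduction. -/
theorem exists_iso_modPow {P : Z.Modules} (hP : Coh.IsCoh P) {T : Z.Modules} (v : P ⟶ T) (n : ℕ)
    (hv : ∀ W : Z.Opens, IsAffineOpen W → Function.Surjective (v.app W) ∧ ∀ m, v.app W m = 0 ↔
      m ∈ I.map (scal A Z W) ^ n • (⊤ : Submodule Γ(Z, W) Γ(P, W))) :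
    ∃ e : modPow I n P ≅ T, modPowπ I n P ≫ e.hom = v := by
  obtain ⟨r, hr⟩ := Groth.L16.Existence.modPow_desc I v fun a ha => by
    refine Groth.L16.AffineBC.hom_ext_affine _ _ fun W hW m => ?_
    show v.app W ((smulMod A P a).app W m) = 0
    rw [Groth.L16.HomSh.smulMod_app, (hv W hW).2, ← Ideal.map_pow]
    exact Submodule.smul_mem_smul (Ideal.mem_map_of_mem _ ha) trivial
  haveI : IsIso r := by
    refine Groth.L17.BC.Classes.isIso_of_affine _ fun x => ⟨⊤, trivial, fun W _ hW => ?_⟩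
    obtain ⟨hs, hk⟩ := (Groth.L16.Exist.modPow_spec I hP n).2 W hW
    have hc : ∀ m, r.app W ((modPowπ I n P).app W m) = v.app W m := fun m =>
      ConcreteCategory.congr_hom (congrArg (fun t => Scheme.Modules.Hom.app t W) hr) m
    refine ⟨fun a b hab => ?_, fun z => ?_⟩
    · obtain ⟨a, rfl⟩ := hs a
      obtain ⟨b, rfl⟩ := hs b
      rw [hc, hc] at hab
      refine sub_eq_zero.1 ((map_sub ((modPowπ I n P).app W).hom a b).symm.trans ((hk _).2 (((hv W hW).2 _).1 ?_)))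
      exact (map_sub (v.app W).hom a b).trans (sub_eq_zero.2 hab)
    · obtain ⟨m, rfl⟩ := (hv W hW).1 z
      exact ⟨_, hc m⟩
  exact ⟨asIso r, hr⟩

variable {P : Z.Modules} {T : ℕ → Z.Modules} (t : ∀ k, T (k + 1) ⟶ T k) (v : ∀ k, P ⟶ T k)
  (ht : ∀ k, v (k + 1) ≫ t k = v k)

include ht in
/-- Formal functions for quotients with the kernels of the reductions. -/
theorem formal_of_quotients [IsNoetherianRing A] [IsProper (Z ↘ Spec (CommRingCat.of A))] (hP : Coh.IsCoh P)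
    (hv : ∀ k, ∀ W : Z.Opens, IsAffineOpen W → Function.Surjective ((v k).app W) ∧ ∀ m, (v k).app W m = 0 ↔
      m ∈ I.map (scal A Z W) ^ (k + 1) • (⊤ : Submodule Γ(Z, W) Γ(P, W))) :
    (∃ c : ℕ, ∀ n, c ≤ n → ∀ z : Γ(P, ⊤), (v n).app ⊤ z = 0 →
      z ∈ I.map (scal A Z ⊤) ^ (n - c) • (⊤ : Submodule Γ(Z, ⊤) Γ(P, ⊤))) ∧
    ∀ y : ∀ k, Γ(T k, ⊤), (∀ k, (t k).app ⊤ (y (k + 1)) = y k) → ∀ n, ∃ z, (v n).app ⊤ z = y n := by
  choose e he using fun k => exists_iso_modPow I hP (v k) (k + 1) (hv k)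
  constructor
  · obtain ⟨c, hc⟩ := Groth.L16.Exist.sect_ker_le I hP
    refine ⟨c, fun n hn z hz => hc n hn z ?_⟩
    have h1 := congrArg ((e n).inv.app ⊤) (((app_congr (he n) z).trans hz))
    rw [map_zero] at h1
    exact (app_congr (e n).hom_inv_id _).symm.trans h1
  · intro y hy n
    obtain ⟨c, hc⟩ := Groth.L16.Exist.sect_range I hP
    let w : ∀ k, Γ(modPow I (k + 1) P, ⊤) := fun k => (e k).inv.app ⊤ (y k)
    have hw : ∀ k, (modPowTrans I (k + 1) P).app ⊤ (w (k + 1)) = w k := fun k => by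
      haveI := Groth.L16.Existence.epi_modPowπ I (k + 1 + 1) P
      have hnat : (e (k + 1)).inv ≫ modPowTrans I (k + 1) P = t k ≫ (e k).inv := by
        rw [Iso.inv_comp_eq, ← Category.assoc, Iso.eq_comp_inv, ← cancel_epi (modPowπ I (k + 1 + 1) P),
          ← Category.assoc, modPowπ_trans, he, ← Category.assoc, he, ht]
      exact (app_congr hnat (y (k + 1))).trans (congrArg ((e k).inv.app ⊤) (hy k))
    have hle : ∀ (k : ℕ) (h : n ≤ k), (modPowLE I (Nat.succ_le_succ h) P).app ⊤ (w k) = w n := by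
      intro k h
      induction k, h using Nat.le_induction with
      | base =>
        haveI := Groth.L16.Existence.epi_modPowπ I (n + 1) P
        have h1 : modPowLE I (Nat.succ_le_succ (le_refl n)) P = 𝟙 _ := by
          rw [← cancel_epi (modPowπ I (n + 1) P), modPowπ_modPowLE, Category.comp_id]
        exact app_congr h1 (w n)
      | succ k hk ih =>
        haveI := Groth.L16.Existence.epi_modPowπ I (k + 1 + 1) P
        have h1 : modPowLE I (Nat.succ_le_succ (Nat.le_succ_of_le hk)) P =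
            modPowTrans I (k + 1) P ≫ modPowLE I (Nat.succ_le_succ hk) P := by
          rw [← cancel_epi (modPowπ I (k + 1 + 1) P), modPowπ_modPowLE, reassoc_of% modPowπ_trans I (k + 1) P,
            modPowπ_modPowLE]
        exact (app_congr h1 (w (k + 1))).trans ((congrArg _ (hw k)).trans ih)
    obtain ⟨z, hz⟩ := hc n (n + c) (Nat.le_add_right n c) le_rfl (w (n + c))
    refine ⟨z, ?_⟩
    rw [hle _ (Nat.le_add_right n c)] at hz
    refine (app_congr (he n).symm z).trans ?_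
    exact (congrArg ((e n).hom.app ⊤) hz).trans (app_congr (e n).inv_hom_id (y n))

end Restrict

section Scal

variable {Y : Scheme.{u}} (f : X ⟶ Y) {W : Y.Opens} (hW : IsAffineOpen W)

/-- The scheme over an affine open. -/
abbrev overAff : (f ⁻¹ᵁ W).toScheme ⟶ Spec Γ(Y, W) := (f ∣_ W) ≫ hW.isoSpec.hom

theorem scal_overAff (A' : (f ⁻¹ᵁ W).toScheme.Opens) (e : (f ⁻¹ᵁ W).ι ''ᵁ A' ≤ f ⁻¹ᵁ W) (a : Γ(Y, W)) :
    letI : (f ⁻¹ᵁ W).toScheme.Over (Spec (CommRingCat.of Γ(Y, W))) := ⟨overAff f hW⟩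
    scal Γ(Y, W) (f ⁻¹ᵁ W).toScheme A' a = f.appLE W ((f ⁻¹ᵁ W).ι ''ᵁ A') e a := by
  let V := f ⁻¹ᵁ W
  have hg : overAff f hW ≫ hW.fromSpec = V.ι ≫ f := by
    rw [Category.assoc, IsAffineOpen.isoSpec_hom_fromSpec, morphismRestrict_ι]
  have e₂ : (⊤ : (Spec Γ(Y, W)).Opens) ≤ hW.fromSpec ⁻¹ᵁ W := hW.fromSpec_preimage_self.ge
  have eA : A' ≤ V.ι ⁻¹ᵁ V := V.ι_preimage_self.ge.trans' le_top
  have eA' : A' ≤ (V.ι ≫ f) ⁻¹ᵁ W := eA
  have h1 : hW.fromSpec.appLE W ⊤ e₂ = (Scheme.ΓSpecIso Γ(Y, W)).inv := by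
    rw [Scheme.Hom.appLE, hW.fromSpec_app_self, Category.assoc, ← Functor.map_comp]
    exact (congrArg (_ ≫ ·) (CategoryTheory.Functor.map_id _ _)).trans (Category.comp_id _)
  have h2 := FSch.appLE_comp_appLE_of_eq (overAff f hW) hW.fromSpec (V.ι ≫ f) hg W ⊤ A' e₂ le_top eA'
  rw [h1, ← FSch.appLE_comp_appLE_of_eq V.ι f (V.ι ≫ f) rfl W V A' le_rfl eA eA'] at h2
  refine (ConcreteCategory.congr_hom h2 a).trans ?_
  show V.ι.appLE V A' eA (f.appLE W V le_rfl a) = _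
  rw [Scheme.Opens.ι_appLE]
  exact ConcreteCategory.congr_hom (Scheme.Hom.appLE_map f _ _) a

end Scal

variable [AlgebraicGeometry.IsNoetherian X] {Y : Scheme.{u}} [IsLocallyNoetherian Y] (f : X ⟶ Y) [IsProper f]
  {𝓘 : Y.IdealSheafData} (hcl : ∀ k, IsClosedImmersion (p k)) (hcut : CutBy 𝔛 p (𝓘.comap f))

include hcl hcut in
/-- Formal functions over an affine open of the target. -/
theorem formal_push (hF : Coh.IsCoh F) {W : Y.Opens} (hW : IsAffineOpen W) :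
    (∃ c : ℕ, ∀ n, c ≤ n → ∀ z : Γ(F, f ⁻¹ᵁ W), (uG 𝔛 p hp F n).app (f ⁻¹ᵁ W) z = 0 →
      (show Γ((Scheme.Modules.pushforward f).obj F, W) from z) ∈ (𝓘.ideal ⟨W, hW⟩) ^ (n - c) •
        (⊤ : Submodule Γ(Y, W) Γ((Scheme.Modules.pushforward f).obj F, W))) ∧
    ∀ y : ∀ k, Γ(gObj 𝔛 p (pullSys 𝔛 p hp F) k, f ⁻¹ᵁ W),
      (∀ k, (gTr 𝔛 p hp (pullSys 𝔛 p hp F) k).app _ (y (k + 1)) = y k) →
        ∀ n, ∃ z, (uG 𝔛 p hp F n).app (f ⁻¹ᵁ W) z = y n := by
  haveI : Coh.IsQCoh F := hF.1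
  let V := f ⁻¹ᵁ W
  let Z := V.toScheme
  let C := Γ(Y, W)
  letI : Z.Over (Spec (CommRingCat.of C)) := ⟨overAff f hW⟩
  haveI : IsProper (Z ↘ Spec (CommRingCat.of C)) :=
    inferInstanceAs (IsProper ((f ∣_ W) ≫ hW.isoSpec.hom))
  haveI : IsNoetherianRing C := IsLocallyNoetherian.component_noetherian ⟨W, hW⟩
  haveI : IsLocallyNoetherian Z := LocallyOfFiniteType.isLocallyNoetherian (Z ↘ Spec (CommRingCat.of C))
  haveI : CompactSpace Z := QuasiCompact.compactSpace_of_compactSpace (Z ↘ Spec (CommRingCat.of C))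
  haveI : AlgebraicGeometry.IsNoetherian Z := ⟨⟩
  let R := Scheme.Modules.restrictFunctor V.ι
  have hP : Coh.IsCoh (R.obj F) := Groth.L16.CohSupport.isCoh_of_iso
    ((Scheme.Modules.restrictFunctorIsoPullback V.ι).app F).symm (Groth.L16.AffineBC.isCoh_pullback V.ι hF)
  have himg : ∀ A' : Z.Opens, V.ι ''ᵁ A' ≤ V := fun A' => by
    rintro _ ⟨x, -, rfl⟩
    exact x.2
  have hinv : ∀ (A' : Z.Opens) (r : Γ(Z, A')), (V.ι.appIso A').inv r = r := fun A' r => by
    rw [Scheme.Opens.ι_appIso]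
    rfl
  have hv : ∀ k, ∀ A' : Z.Opens, IsAffineOpen A' → Function.Surjective ((R.map (uG 𝔛 p hp F k)).app A') ∧
      ∀ m, (R.map (uG 𝔛 p hp F k)).app A' m = 0 ↔
        m ∈ (𝓘.ideal ⟨W, hW⟩).map (scal C Z A') ^ (k + 1) • (⊤ : Submodule Γ(Z, A') Γ(R.obj F, A')) := by
    intro k A' hA'
    have hA := hA'.image_of_isOpenImmersion V.ι
    obtain ⟨hs, hk⟩ := uG_spec 𝔛 p hp F hcl hcut hA k
    have hbij := ConcreteCategory.bijective_of_isIso (V.ι.appIso A').inv
    have hI : (𝓘.comap f).ideal ⟨_, hA⟩ =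
        ((𝓘.ideal ⟨W, hW⟩).map (scal C Z A')).map (V.ι.appIso A').inv.hom := by
      rw [Groth.L22.Ideals.comap_ideal f 𝓘 ⟨W, hW⟩ ⟨_, hA⟩ (himg A'), Ideal.map_map]
      refine congrArg (fun φ => Ideal.map φ (𝓘.ideal ⟨W, hW⟩)) (RingHom.ext fun a => ?_)
      exact ((hinv A' _).trans (scal_overAff f hW A' (himg A') a)).symm
    refine ⟨hs, fun m => (hk m).trans (Iff.symm ?_)⟩
    rw [hI, ← Ideal.map_pow (V.ι.appIso A').inv.hom]
    letI : Module Γ(X, V.ι ''ᵁ A') Γ(R.obj F, A') :=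
      (inferInstance : Module Γ(X, V.ι ''ᵁ A') Γ(F, V.ι ''ᵁ A'))
    exact mem_map_smul_top_iff (R := Γ(Z, A')) (S := Γ(X, V.ι ''ᵁ A')) (M := Γ(R.obj F, A'))
      (V.ι.appIso A').inv.hom hbij.2 (fun r x => rfl) _ m
  obtain ⟨⟨c, hc⟩, hr⟩ := formal_of_quotients (Z := Z) (𝓘.ideal ⟨W, hW⟩) (P := R.obj F)
    (T := fun k => R.obj (gObj 𝔛 p (pullSys 𝔛 p hp F) k))
    (fun k => R.map (gTr 𝔛 p hp (pullSys 𝔛 p hp F) k)) (fun k => R.map (uG 𝔛 p hp F k))
    (fun k => (R.map_comp _ _).symm.trans (congrArg R.map (uG_gTr 𝔛 p hp F k))) hP hv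
  let U := V.ι ''ᵁ (⊤ : Z.Opens)
  have hle : V ≤ U := fun x hx => ⟨⟨x, hx⟩, trivial, rfl⟩
  refine ⟨⟨c, fun n hn z hz => ?_⟩, fun y hy n => ?_⟩
  · have h1 := hc n hn (rs F (himg ⊤) z)
      ((app_rs (uG 𝔛 p hp F n) _ z).trans ((congrArg (rs _ (himg ⊤)) hz).trans (map_zero _)))
    have h2 : ∀ t : Γ(R.obj F, ⊤), t ∈ (𝓘.ideal ⟨W, hW⟩).map (scal C Z ⊤) ^ (n - c) •
        (⊤ : Submodule Γ(Z, ⊤) Γ(R.obj F, ⊤)) →
        (show Γ((Scheme.Modules.pushforward f).obj F, W) from rs F hle t) ∈ (𝓘.ideal ⟨W, hW⟩) ^ (n - c) •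
          (⊤ : Submodule Γ(Y, W) Γ((Scheme.Modules.pushforward f).obj F, W)) := by
      intro t ht
      rw [← Ideal.map_pow] at ht
      refine Submodule.smul_induction_on ht (fun b hb t _ => ?_) (fun a b ha hb => ?_)
      · induction hb using Submodule.span_induction generalizing t with
        | mem b hb =>
          obtain ⟨a, ha, rfl⟩ := hb
          have e : rs F hle (scal C Z ⊤ a • t : Γ(R.obj F, ⊤)) =
              f.app W a • rs F hle t := by
            refine (rs_smul F hle _ t).trans ?_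
            refine congrArg (· • rs F hle t) ?_
            refine (congrArg (ro hle) ((hinv ⊤ _).trans (scal_overAff f hW ⊤ (himg ⊤) a))).trans ?_
            rw [Scheme.Hom.app_eq_appLE]
            exact ConcreteCategory.congr_hom (Scheme.Hom.appLE_map f (himg ⊤) (homOfLE hle).op) a
          rw [e]
          exact Submodule.smul_mem_smul (show a ∈ (𝓘.ideal ⟨W, hW⟩) ^ (n - c) from ha) trivial
        | zero =>
          rw [zero_smul]
          exact (congrArg (· ∈ _) (map_zero (F.presheaf.map (homOfLE hle).op).hom)).mpr (zero_mem _)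
        | add a b _ _ ha hb =>
          rw [add_smul]
          exact (congrArg (· ∈ _) (map_add (F.presheaf.map (homOfLE hle).op).hom _ _)).mpr
            (add_mem (ha t trivial) (hb t trivial))
        | smul a b _ hb => rw [smul_eq_mul, mul_comm, mul_smul]; exact hb (a • t) trivial
      · exact (congrArg (· ∈ _) (map_add (F.presheaf.map (homOfLE hle).op).hom _ _)).mpr (add_mem ha hb)
    have h3 := h2 _ h1
    rwa [rs_rs, rs_self] at h3
  · obtain ⟨z, hz⟩ := hr (fun k => rs (gObj 𝔛 p (pullSys 𝔛 p hp F) k) (himg ⊤) (y k))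
      (fun k => (app_rs (gTr 𝔛 p hp (pullSys 𝔛 p hp F) k) _ _).trans (congrArg (rs _ (himg ⊤)) (hy k))) n
    refine ⟨rs F hle z, (app_rs (uG 𝔛 p hp F n) hle z).trans ?_⟩
    refine (congrArg (rs _ hle) hz).trans ?_
    rw [rs_rs, rs_self]

end Groth.L17.FSheaf
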