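import Groth.Agent.L17.RpushSect
import Groth.Agent.L17.ExtExactEndo
import Groth.Agent.L17.OpenTransfer
import Groth.Agent.L17.FSheaf.FormalPush
import Groth.Agent.L16.Rees.FormalFunctions

/-!
# Formal functions for the classes over the preimage of an affine open
-/

set_option autoImplicit false
set_option linter.style.haveILetI false
set_option linter.unusedSectionVars false
set_option backward.isDefEq.respectTransparency false
set_option backward.isDefEq.respectTransparency.types false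

universe u

open CategoryTheory CategoryTheory.Limits AlgebraicGeometry TopologicalSpace Opposite Abelian

noncomputable section

namespace Groth.L17.FSheaf.RpushFF

open Groth.L17 Groth.L17.RpushSect
open Groth.L10.SiteCoh (rightDerivedCongr)
open Groth.L18.Frame (rs ro rs_rs rs_self)
open Groth.L17.BC.PullSec (app_rs)
open Groth.L16.AffineBC (scal)
open Formal

variable {X Y : Scheme.{u}} (f : X ⟶ Y) {W : Y.Opens} (hW : IsAffineOpen W)

/-- The scheme over the affine open. -/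
abbrev ZW : Scheme.{u} := (f ⁻¹ᵁ W).toScheme

/-- The structure map. -/
@[reducible] def overW : (ZW f (W := W)).Over (Spec (CommRingCat.of Γ(Y, W))) := ⟨overAff f hW⟩

/-- Restriction to the preimage. -/
abbrev RW : ModSite.Mod X.sheaf ⥤ (ZW f (W := W)).Modules := Scheme.Modules.restrictFunctor (f ⁻¹ᵁ W).ι

/-- Restriction to the preimage, as abelian sheaves. -/
abbrev TW : ModSite.Mod X.sheaf ⥤ AbSheaf (ZW f (W := W)).toTopCat :=
  RW f (W := W) ⋙ SheafOfModules.toSheaf.{u} (ZW f (W := W)).ringCatSheaf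

instance additive_RW : (RW f (W := W)).Additive := ⟨fun {_ _ _ _} => rfl⟩

instance additive_TW : (TW f (W := W)).Additive := inferInstance

instance additive_TW_coyoneda : (TW f (W := W) ⋙
    preadditiveCoyoneda.obj (op (zFree (X := (ZW f (W := W)).toTopCat) ⊤))).Additive := inferInstance

theorem preservesFinite_TW : PreservesFiniteLimits (TW f (W := W)) ∧ PreservesFiniteColimits (TW f (W := W)) := by
  haveI : PreservesFiniteColimits (SheafOfModules.toSheaf.{u} (ModSite.ringSh X.sheaf)) :=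
    Groth.L15.ExtSupp.preservesFiniteColimits_toSheaf
  haveI : (TW f (W := W)).Additive := inferInstance
  have hA : ∀ S : ShortComplex (ModSite.Mod X.sheaf), S.ShortExact → (S.map (TW f (W := W))).ShortExact := fun S hS =>
    Groth.L17.shortExact_restrAb (f ⁻¹ᵁ W).ι (hS.map_of_exact (SheafOfModules.toSheaf.{u} (ModSite.ringSh X.sheaf)))
  exact ((Functor.exact_tfae (TW f (W := W))).out 0 3).1 hA

theorem im_top : (f ⁻¹ᵁ W).ι ''ᵁ ⊤ = f ⁻¹ᵁ W := by
  rw [Scheme.Hom.image_top_eq_opensRange, Scheme.Opens.opensRange_ι]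

/-- The sections over the preimage. -/
def secW : (ModSite.RMor.ofScheme f).push ⋙ secM Y.sheaf W ≅
    TW f (W := W) ⋙ preadditiveCoyoneda.obj (op (zFree (X := (ZW f (W := W)).toTopCat) ⊤)) :=
  (show (ModSite.RMor.ofScheme f).push ⋙ secM Y.sheaf W ≅ secM X.sheaf ((f ⁻¹ᵁ W).ι ''ᵁ ⊤) from
    { hom := secRes X.sheaf (V := f ⁻¹ᵁ W) (im_top f).le
      inv := secRes X.sheaf (V' := f ⁻¹ᵁ W) (im_top f).ge
      hom_inv_id := by
        ext M x
        exact (res_res (R := ModSite.ringSh X.sheaf) M _ _ _).trans (res_self M _ _)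
      inv_hom_id := by
        ext M x
        exact (res_res (R := ModSite.ringSh X.sheaf) M _ _ _).trans (res_self M _ _) }) ≪≫
  NatIso.ofComponents (fun M => (zAddEquiv (X := (ZW f (W := W)).toTopCat) ⊤
      ((TW f (W := W)).obj M)).symm.toAddCommGrpIso)
    fun {M N} g => by
      ext x
      apply (zAddEquiv (X := (ZW f (W := W)).toTopCat) ⊤ ((TW f (W := W)).obj N)).injective
      show zAddEquiv ⊤ _ ((zAddEquiv ⊤ _).symm ((g.val.app (op ((f ⁻¹ᵁ W).ι ''ᵁ ⊤))).hom x)) =
        zEquiv ⊤ _ ((zAddEquiv ⊤ _).symm x ≫ (TW f (W := W)).map g)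
      rw [AddEquiv.apply_symm_apply, zEquiv_comp]
      exact congrArg (g.val.app (op ((f ⁻¹ᵁ W).ι ''ᵁ ⊤))).hom
        ((zAddEquiv (X := (ZW f (W := W)).toTopCat) ⊤ ((TW f (W := W)).obj M)).apply_symm_apply x).symm

/-- The scalars. -/
def μW (a : Γ(Y, W)) : TW f (W := W) ⟶ TW f (W := W) where
  app M := (SheafOfModules.toSheaf.{u} _).map
    (letI := overW f hW; smulMod Γ(Y, W) ((RW f (W := W)).obj M) a)
  naturality M N g := by
    letI := overW f hW
    show (SheafOfModules.toSheaf.{u} _).map _ ≫ (SheafOfModules.toSheaf.{u} _).map _ =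
      (SheafOfModules.toSheaf.{u} _).map _ ≫ (SheafOfModules.toSheaf.{u} _).map _
    rw [← Functor.map_comp, ← Functor.map_comp]
    exact congrArg _ (Groth.L16.Rees.smulMod_naturality (A := Γ(Y, W)) ((RW f (W := W)).map g) a).symm

/-- Multiplication by a function on the open. -/
def secSmul (a : Γ(Y, W)) : secM Y.sheaf W ⟶ secM Y.sheaf W where
  app M := AddCommGrpCat.ofHom (DistribSMul.toAddMonoidHom (M.val.obj (op W))
    (show (ModSite.ringSh Y.sheaf).obj.obj (op W) from a))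
  naturality M N g := by
    ext x
    exact ((g.val.app (op W)).hom.map_smul _ x).symm

theorem res_smul_μW (a : Γ(Y, W)) (M : X.Modules) (x : Γ(M, f ⁻¹ᵁ W)) :
    ((μW f hW a).app M).hom.app (op ⊤) (show Γ((RW f (W := W)).obj M, ⊤) from rs M (im_top f).le x) =
      (show Γ((RW f (W := W)).obj M, ⊤) from rs M (im_top f).le (f.app W a • x)) := by
  letI := overW f hW
  refine (Groth.L16.HomSh.smulMod_app ((RW f (W := W)).obj M) a ⊤ _).trans ?_
  refine Eq.trans ?_ (Groth.L18.Frame.rs_smul M (im_top f).le _ x).symm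
  refine congrArg (fun c : Γ(X, (f ⁻¹ᵁ W).ι ''ᵁ ⊤) => c • rs M (im_top f).le x) ?_
  have hinv : ∀ r : Γ(ZW f (W := W), ⊤), ((f ⁻¹ᵁ W).ι.appIso ⊤).inv r = r := fun r => by
    rw [Scheme.Opens.ι_appIso]
    rfl
  refine ((hinv _).trans (scal_overAff f hW ⊤ (im_top f).le a)).trans ?_
  rw [Scheme.Hom.app_eq_appLE]
  exact (ConcreteCategory.congr_hom (Scheme.Hom.appLE_map f le_rfl (homOfLE (im_top f).le).op) a).symm

theorem zAddEquiv_symm_eq {T : TopCat.{u}} {U : Opens T} {F : AbSheaf T} (φ : F ⟶ F)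
    {y z : F.obj.obj (op U)} (h : φ.hom.app (op U) z = y) :
    (zAddEquiv U F).symm y = (zAddEquiv U F).symm z ≫ φ := by
  apply (zAddEquiv U F).injective
  rw [AddEquiv.apply_symm_apply]
  exact h.symm.trans ((congrArg (φ.hom.app (op U)) ((zAddEquiv U F).apply_symm_apply z)).symm.trans
    (zEquiv_comp U _ φ).symm)

theorem secW_smul (a : Γ(Y, W)) :
    Functor.whiskerLeft (ModSite.RMor.ofScheme f).push (secSmul a) ≫ (secW f).hom =
      (secW f).hom ≫ Functor.whiskerRight (μW f hW a)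
        (preadditiveCoyoneda.obj (op (zFree (X := (ZW f (W := W)).toTopCat) ⊤))) := by
  refine NatTrans.ext (funext fun M => AddCommGrpCat.hom_ext (AddMonoidHom.ext fun x => ?_))
  exact zAddEquiv_symm_eq ((μW f hW a).app M) (res_smul_μW f hW a M x)

theorem acyclic_TW [HasInjectiveResolutions (ModSite.Mod X.sheaf)] (I : X.Modules) [Injective I] (m : ℕ) :
    Subsingleton (Ext (zFree (X := (ZW f (W := W)).toTopCat) ⊤) ((TW f (W := W)).obj I) (m + 1)) := by
  haveI h1 := subsingleton_hu_of_injective (Y := X.toTopCat) X.sheaf I ((f ⁻¹ᵁ W).ι ''ᵁ ⊤) m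
  obtain ⟨e⟩ := nonempty_hu_image (f ⁻¹ᵁ W).ι ⊤ ((SheafOfModules.toSheaf.{u} _).obj I) (m + 1)
  exact @Function.Surjective.subsingleton _ _ _ h1 e.surjective

variable [HasInjectiveResolutions (ModSite.Mod X.sheaf)] (q : ℕ)

/-- The classes over the preimage as cohomology of the preimage. -/
def eW (M : X.Modules) :
    (PU (ModSite.RMor.ofScheme f) q W).obj M ≃+ Coh.HH (ZW f (W := W)) ((RW f (W := W)).obj M) q :=
  haveI := (preservesFinite_TW f (W := W)).1
  haveI := (preservesFinite_TW f (W := W)).2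
  ((rightDerivedCongr (secW f (W := W)) q).app M).addCommGroupIsoToAddEquiv.trans
    ((ExtExact.equiv (TW f (W := W)) (zFree (X := (ZW f (W := W)).toTopCat) ⊤)
      (fun I hI m => acyclic_TW f I m) M q).trans
      (hTopEquiv (X := (ZW f (W := W)).toTopCat) _ q).symm)

theorem hTopEquiv_map {T : TopCat.{u}} {F G : AbSheaf T} (a : F ⟶ G) {m : ℕ} (x : Sheaf.H F m) :
    hTopEquiv (X := T) G m (Sheaf.H.map a m x) = (hTopEquiv (X := T) F m x).comp (Ext.mk₀ a) (add_zero m) :=
  (Ext.comp_assoc_of_third_deg_zero _ _ _ (zero_add m)).symm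

theorem eW_natural {M N : X.Modules} (g : M ⟶ N) (x : (PU (ModSite.RMor.ofScheme f) q W).obj M) :
    eW f q N ((PU (ModSite.RMor.ofScheme f) q W).map g x) =
      Sheaf.H.map ((TW f (W := W)).map g) q (eW f q M x) := by
  haveI := (preservesFinite_TW f (W := W)).1
  haveI := (preservesFinite_TW f (W := W)).2
  refine (hTopEquiv (X := (ZW f (W := W)).toTopCat) ((TW f (W := W)).obj N) q).injective ?_
  refine Eq.trans ?_ (hTopEquiv_map ((TW f (W := W)).map g) _).symm
  simp only [eW, AddEquiv.trans_apply]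
  refine (AddEquiv.apply_symm_apply _ _).trans ?_
  refine Eq.trans ?_ (congrArg (fun r => Ext.comp r (Ext.mk₀ _) (add_zero q))
    (AddEquiv.apply_symm_apply _ _)).symm
  refine Eq.trans ?_ (ExtExact.equiv_naturality (TW f (W := W)) _ (fun I hI m => acyclic_TW f I m) g q _)
  congr 1
  exact ConcreteCategory.congr_hom ((rightDerivedCongr (secW (W := W) f) q).hom.naturality g) x

/-- The scalars on the classes. -/
abbrev puSmul (a : Γ(Y, W)) : PU (ModSite.RMor.ofScheme f) q W ⟶ PU (ModSite.RMor.ofScheme f) q W :=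
  NatTrans.rightDerived (Functor.whiskerLeft (ModSite.RMor.ofScheme f).push (secSmul a)) q

theorem eW_smul (a : Γ(Y, W)) (M : X.Modules) (x : (PU (ModSite.RMor.ofScheme f) q W).obj M) :
    eW f q M ((puSmul f q a).app M x) = Sheaf.H.map ((μW f hW a).app M) q (eW f q M x) := by
  haveI := (preservesFinite_TW f (W := W)).1
  haveI := (preservesFinite_TW f (W := W)).2
  refine (hTopEquiv (X := (ZW f (W := W)).toTopCat) ((TW f (W := W)).obj M) q).injective ?_
  refine Eq.trans ?_ (hTopEquiv_map ((μW f hW a).app M) _).symm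
  simp only [eW, AddEquiv.trans_apply]
  refine (AddEquiv.apply_symm_apply _ _).trans ?_
  refine Eq.trans ?_ (congrArg (fun r => Ext.comp r (Ext.mk₀ _) (add_zero q))
    (AddEquiv.apply_symm_apply _ _)).symm
  refine Eq.trans ?_ (ExtExact.equiv_endo (TW f (W := W)) _ (μW f hW a) (fun I hI m => acyclic_TW f I m) M q _)
  congr 1
  haveI : (ModSite.RMor.ofScheme f).push.Additive := inferInstance
  haveI : (secM Y.sheaf W).Additive := additive_secM Y.sheaf W
  haveI : ((ModSite.RMor.ofScheme f).push ⋙ secM Y.sheaf W).Additive := inferInstance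
  have h := congrArg (fun t => (NatTrans.rightDerived t q).app M) (secW_smul f hW a)
  simp only [NatTrans.rightDerived_comp, NatTrans.comp_app] at h
  exact ConcreteCategory.congr_hom h x

theorem ΦV_smul (a : Γ(Y, W)) (M : X.Modules) (x : (PU (ModSite.RMor.ofScheme f) q W).obj M) :
    (ΦV (ModSite.RMor.ofScheme f) q W).app M ((puSmul f q a).app M x) =
      (show ((ModSite.RMor.ofScheme f).Rpush q |>.obj M).val.obj (op W) from
        (show (ModSite.ringSh Y.sheaf).obj.obj (op W) from a) •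
          (show ((ModSite.RMor.ofScheme f).Rpush q |>.obj M).val.obj (op W) from
            (ΦV (ModSite.RMor.ofScheme f) q W).app M x)) :=
  ConcreteCategory.congr_hom (HomologyCompare.Φ_natTrans (secM Y.sheaf W) (ModSite.RMor.ofScheme f).push q
    (secSmul a) M) x

variable [IsLocallyNoetherian Y] [IsProper f] {F : X.Modules} (hF : Coh.IsCoh F) {T : ℕ → X.Modules}
  (t : ∀ k, T (k + 1) ⟶ T k) (v : ∀ k, F ⟶ T k) (ht : ∀ k, v (k + 1) ≫ t k = v k) {𝓘 : Y.IdealSheafData}
  (hv : ∀ (k : ℕ) (V : X.Opens) (hV : IsAffineOpen V), Function.Surjective ((v k).app V) ∧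
    ∀ m, (v k).app V m = 0 ↔
      m ∈ ((𝓘.comap f).ideal ⟨V, hV⟩) ^ (k + 1) • (⊤ : Submodule Γ(X, V) Γ(F, V)))

include hF ht hv hW in
/-- Formal functions for the classes over the preimage of an affine open. -/
theorem formal_classes :
    (∀ j, ∃ k₀, ∀ k, k₀ ≤ k → ∀ x : (PU (ModSite.RMor.ofScheme f) q W).obj F,
      (PU (ModSite.RMor.ofScheme f) q W).map (v k) x = 0 →
        (show Γ(((ModSite.RMor.ofScheme f).Rpush q).obj F, W) from (ΦV (ModSite.RMor.ofScheme f) q W).app F x) ∈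
          (𝓘.ideal ⟨W, hW⟩) ^ j • (⊤ : Submodule Γ(Y, W) Γ(((ModSite.RMor.ofScheme f).Rpush q).obj F, W))) ∧
    ∀ y : ∀ k, (PU (ModSite.RMor.ofScheme f) q W).obj (T k),
      (∀ k, (PU (ModSite.RMor.ofScheme f) q W).map (t k) (y (k + 1)) = y k) →
        ∀ k, ∃ x, (PU (ModSite.RMor.ofScheme f) q W).map (v k) x = y k := by
  letI := overW f hW
  let C := Γ(Y, W)
  let Z := ZW f (W := W)
  let R := RW f (W := W)
  haveI : IsProper (Z ↘ Spec (CommRingCat.of C)) :=
    inferInstanceAs (IsProper ((f ∣_ W) ≫ hW.isoSpec.hom))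
  haveI : IsNoetherianRing C := IsLocallyNoetherian.component_noetherian ⟨W, hW⟩
  haveI : IsLocallyNoetherian Z := LocallyOfFiniteType.isLocallyNoetherian (Z ↘ Spec (CommRingCat.of C))
  haveI : CompactSpace Z := QuasiCompact.compactSpace_of_compactSpace (Z ↘ Spec (CommRingCat.of C))
  haveI : AlgebraicGeometry.IsNoetherian Z := ⟨⟩
  have hP : Coh.IsCoh (R.obj F) := Groth.L16.CohSupport.isCoh_of_iso
    ((Scheme.Modules.restrictFunctorIsoPullback (f ⁻¹ᵁ W).ι).app F).symm
    (Groth.L16.AffineBC.isCoh_pullback (f ⁻¹ᵁ W).ι hF)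
  let I := 𝓘.ideal ⟨W, hW⟩
  have hinv : ∀ (A' : Z.Opens) (r : Γ(Z, A')), ((f ⁻¹ᵁ W).ι.appIso A').inv r = r := fun A' r => by
    rw [Scheme.Opens.ι_appIso]
    rfl
  have himg : ∀ A' : Z.Opens, (f ⁻¹ᵁ W).ι ''ᵁ A' ≤ f ⁻¹ᵁ W := fun A' => by
    rintro _ ⟨x, -, rfl⟩
    exact x.2
  have hvR : ∀ k, ∀ A' : Z.Opens, IsAffineOpen A' → Function.Surjective ((R.map (v k)).app A') ∧
      ∀ m, (R.map (v k)).app A' m = 0 ↔
        m ∈ I.map (scal C Z A') ^ (k + 1) • (⊤ : Submodule Γ(Z, A') Γ(R.obj F, A')) := by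
    intro k A' hA'
    have hA := hA'.image_of_isOpenImmersion (f ⁻¹ᵁ W).ι
    obtain ⟨hs, hk⟩ := hv k _ hA
    have hbij := ConcreteCategory.bijective_of_isIso ((f ⁻¹ᵁ W).ι.appIso A').inv
    have hI : (𝓘.comap f).ideal ⟨_, hA⟩ =
        (I.map (scal C Z A')).map ((f ⁻¹ᵁ W).ι.appIso A').inv.hom := by
      rw [Groth.L22.Ideals.comap_ideal f 𝓘 ⟨W, hW⟩ ⟨_, hA⟩ (himg A'), Ideal.map_map]
      refine congrArg (fun φ => Ideal.map φ I) (RingHom.ext fun a => ?_)
      exact ((hinv A' _).trans (scal_overAff f hW A' (himg A') a)).symm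
    refine ⟨hs, fun m => (hk m).trans (Iff.symm ?_)⟩
    rw [hI, ← Ideal.map_pow ((f ⁻¹ᵁ W).ι.appIso A').inv.hom]
    letI : Module Γ(X, (f ⁻¹ᵁ W).ι ''ᵁ A') Γ(R.obj F, A') :=
      (inferInstance : Module Γ(X, (f ⁻¹ᵁ W).ι ''ᵁ A') Γ(F, (f ⁻¹ᵁ W).ι ''ᵁ A'))
    exact mem_map_smul_top_iff (R := Γ(Z, A')) (S := Γ(X, (f ⁻¹ᵁ W).ι ''ᵁ A')) (M := Γ(R.obj F, A'))
      ((f ⁻¹ᵁ W).ι.appIso A').inv.hom hbij.2 (fun r x => rfl) _ m
  choose e he using fun k => exists_iso_modPow I hP (R.map (v k)) (k + 1) (hvR k)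
  haveI : ∀ l, Epi (modPowπ I l (R.obj F)) := fun l => inferInstanceAs (Epi (cokernel.π _))
  have hnat : ∀ k, (e (k + 1)).inv ≫ modPowTrans I (k + 1) (R.obj F) = R.map (t k) ≫ (e k).inv := fun k => by
    rw [Iso.inv_comp_eq, ← Category.assoc, Iso.eq_comp_inv, ← cancel_epi (modPowπ I (k + 1 + 1) (R.obj F)),
      ← Category.assoc, modPowπ_trans, he, ← Category.assoc, he, ← Functor.map_comp, ht]
  let H : ∀ {M N : Z.Modules}, (M ⟶ N) → Coh.HH Z M q →+ Coh.HH Z N q :=
    fun g => Sheaf.H.map ((SheafOfModules.toSheaf.{u} _).map g) q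
  have hH : ∀ {M N P : Z.Modules} (g : M ⟶ N) (g' : N ⟶ P) (x : Coh.HH Z M q), H g' (H g x) = H (g ≫ g') x :=
    fun g g' x => Formal.HHmap_comp g g' q x
  have hH1 : ∀ {M : Z.Modules} (x : Coh.HH Z M q), H (𝟙 M) x = x := fun x => by
    show Sheaf.H.map ((SheafOfModules.toSheaf.{u} _).map (𝟙 _)) q x = x
    rw [CategoryTheory.Functor.map_id]
    exact Sheaf.H.map_id_apply _
  have hπ : ∀ k (x : (PU (ModSite.RMor.ofScheme f) q W).obj F),
      toHHmodPow I (R.obj F) q k (eW f q F x) =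
        H (e k).inv (eW f q (T k) ((PU (ModSite.RMor.ofScheme f) q W).map (v k) x)) := fun k x => by
    refine Eq.trans ?_ (congrArg (H (e k).inv) (eW_natural f q (v k) x)).symm
    refine Eq.trans ?_ (hH (R.map (v k)) (e k).inv _).symm
    exact congrArg (fun g => H g (eW f q F x)) ((Iso.eq_comp_inv (e k)).2 (he k))
  refine ⟨fun j => ?_, fun y hy k => ?_⟩
  · obtain ⟨c, hc⟩ := Groth.L16.Rees.exists_ker_le I hP q
    refine ⟨c + j, fun k hk x hx => ?_⟩
    have h0 : toHHmodPow I (R.obj F) q k (eW f q F x) = 0 := by rw [hπ, hx, map_zero, map_zero]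
    have h1 := hc k (by omega) _ h0
    obtain ⟨Φ, hΦ⟩ : ∃ Φ : Coh.HH Z (R.obj F) q →+ Γ(((ModSite.RMor.ofScheme f).Rpush q).obj F, W),
        ∀ z, Φ z = (show Γ(((ModSite.RMor.ofScheme f).Rpush q).obj F, W) from
          (ΦV (ModSite.RMor.ofScheme f) q W).app F ((eW f q F).symm z)) :=
      ⟨((ΦV (ModSite.RMor.ofScheme f) q W).app F).hom.comp (eW f q F).symm.toAddMonoidHom, fun z => rfl⟩
    have hΦs : ∀ (a : C) (z : Coh.HH Z (R.obj F) q), Φ (a • z) = a • Φ z := fun a z => by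
      rw [hΦ, hΦ]
      refine Eq.trans ?_ (ΦV_smul f q a F ((eW f q F).symm z))
      refine congrArg (fun r => (ΦV (ModSite.RMor.ofScheme f) q W).app F r) ?_
      apply (eW f q F).injective
      refine ((eW f q F).apply_symm_apply _).trans ?_
      refine Eq.trans ?_ (eW_smul f hW q a F _).symm
      exact congrArg (fun r => Sheaf.H.map ((μW f hW a).app F) q r) ((eW f q F).apply_symm_apply z).symm
    rw [← (eW f q F).symm_apply_apply x, ← hΦ]
    refine Submodule.smul_mono_left (Ideal.pow_le_pow_right (show j ≤ k - c by omega)) ?_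
    refine Submodule.smul_induction_on h1 (fun a ha z _ => ?_) fun z z' hz hz' => ?_
    · rw [hΦs]
      exact Submodule.smul_mem_smul ha Submodule.mem_top
    · rw [map_add]
      exact add_mem hz hz'
  · let w : HHlim I (R.obj F) q := ⟨fun l => H (e l).inv (eW f q (T l) (y l)), fun l => by
      refine (hH (e (l + 1)).inv (modPowTrans I (l + 1) (R.obj F)) _).trans ?_
      rw [hnat]
      refine (hH _ _ _).symm.trans (congrArg (H (e l).inv) ?_)
      exact ((eW_natural f q (t l) _).symm.trans (congrArg (eW f q (T l)) (hy l)))⟩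
    obtain ⟨z, hz⟩ := Groth.L16.Rees.exists_preimage I hP q w k
    obtain ⟨x, rfl⟩ := (eW f q F).surjective z
    refine ⟨x, (eW f q (T k)).injective ?_⟩
    have h1 := congrArg (H (e k).hom) ((hπ k x).symm.trans hz)
    refine Eq.trans (Eq.symm ?_) (h1.trans ?_)
    · rw [hH, Iso.inv_hom_id, hH1]
    · show H (e k).hom (H (e k).inv _) = _
      rw [hH, Iso.inv_hom_id, hH1]

end Groth.L17.FSheaf.RpushFF
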