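import Groth.Agent.L17.FSheaf.RpushGen
import Groth.Prelude.Def_ARSys

/-!
# Mittag-Leffler for the higher direct images of the levels
-/

set_option autoImplicit false
set_option linter.style.haveILetI false
set_option linter.unusedSectionVars false
set_option backward.isDefEq.respectTransparency false
set_option backward.isDefEq.respectTransparency.types false

universe u

open CategoryTheory CategoryTheory.Limits AlgebraicGeometry TopologicalSpace Opposite

noncomputable section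

namespace Groth.L17.FSheaf.RpushF

open Groth.L17.FSheaf
open Groth.L17.FSheaf.GrQuot (imageSubobject_le_of_comp)

variable {𝔛 𝔜 : FSch.Sys.{u}} (hX : 𝔛.IsLocNoethFormal) (hY : 𝔜.IsLocNoethFormal) (f : 𝔛 ⟶ 𝔜)
  (𝔉 : FSch.ModF 𝔛 hX.1) (h𝔉 : FSch.IsCohF 𝔛 hX.1 𝔉) (hf : FSch.IsProperHom f)
  [HasInjectiveResolutions (FSch.ModF 𝔛 hX.1)] (q : ℕ)

include h𝔉 hf in
/-- The direct images of the levels are direct images of quasi-coherent modules of the levels. -/
theorem exists_levelModule (k : ℕ) :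
    ∃ N : (𝔜.X k).Modules, Coh.IsQCoh N ∧
      Nonempty ((RQ hX hY f q).obj (Gk hX 𝔉 k) ≅ (FSch.levelMor 𝔜 hY.1 k).push.obj N) := by
  haveI := PushQCoh.hasInjectiveResolutions (𝔛.X k)
  haveI := hf.2
  haveI := Groth.L17.ThickLevels.isProper_app f hY.1 hY.2.1 hf.1 k
  haveI : Coh.IsQCoh ((FSch.levelMor 𝔛 hX.1 k).pull.obj 𝔉) := (isCoh_canonSys 𝔛 hX 𝔉 h𝔉 k).1
  exact ⟨_, PushQCoh.isQCoh_Rpush ((f : FSch.Hom 𝔛 𝔜).app k) _ q, nonempty_rpushF_push_iso f hX.1 hY.1 k _ q⟩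

include h𝔉 hf in
/-- The images in a level, on an affine open, are spanned by restrictions of stable images. -/
theorem exists_local_lift {V W : (𝔜.X 0).Opens} (hV : IsAffineOpen V) (hW : IsAffineOpen W) (hWV : W ≤ V)
    {i m l : ℕ} (him : i ≤ m) (hil : i ≤ l)
    (hstab : ∀ y : SF 𝔜 hY.1 ((RQ hX hY f q).obj (Gk hX 𝔉 m)) V,
      ∃ y', rmap hX hY f q (trG hX 𝔉 hil) V y' = rmap hX hY f q (trG hX 𝔉 him) V y)
    (y : SF 𝔜 hY.1 ((RQ hX hY f q).obj (Gk hX 𝔉 m)) W) :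
    ∃ z, rmap hX hY f q (trG hX 𝔉 hil) W z = rmap hX hY f q (trG hX 𝔉 him) W y := by
  obtain ⟨N, hN, ⟨e⟩⟩ := exists_levelModule hX hY f 𝔉 h𝔉 hf q m
  haveI := hN
  have hy := mem_span_res hY e hV hW hWV y
  induction hy using Submodule.span_induction with
  | mem z hz =>
    obtain ⟨x, rfl⟩ := hz
    obtain ⟨x', hx'⟩ := hstab x
    exact ⟨res (R := ModSite.ringSh (𝔜.Osh hY.1)) _ hWV x', by rw [rmap_res, rmap_res, hx']⟩
  | zero => exact ⟨0, by rw [map_zero, map_zero]⟩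
  | add a b _ _ ha hb =>
    obtain ⟨a', ha'⟩ := ha
    obtain ⟨b', hb'⟩ := hb
    exact ⟨a' + b', by rw [map_add, map_add, ha', hb']⟩
  | smul c a _ ha =>
    obtain ⟨a', ha'⟩ := ha
    exact ⟨c • a', by rw [map_smul, map_smul, ha']⟩

include h𝔉 hf in
theorem isML_rpush [CompactSpace (𝔜.X 0)] :
    ARSys.IsML (Functor.ofOpSequence (X := fun k => (RQ hX hY f q).obj (Gk hX 𝔉 k))
      (fun k => (RQ hX hY f q).map (tk hX 𝔉 k))) := by
  classical
  let S := Functor.ofOpSequence (X := fun k => (RQ hX hY f q).obj (Gk hX 𝔉 k))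
    (fun k => (RQ hX hY f q).map (tk hX 𝔉 k))
  have hS : ∀ (i j : ℕ) (h : i ≤ j), S.map (homOfLE h).op = (RQ hX hY f q).map (trG hX 𝔉 h) := by
    intro i j h
    induction j, h using Nat.le_induction with
    | base =>
      rw [trG_self, CategoryTheory.Functor.map_id]
      exact S.map_id (op i)
    | succ j hij ih =>
      rw [← trG_comp hX 𝔉 hij j.le_succ, Functor.map_comp, ← ih, trG_succ,
        show (homOfLE (hij.trans j.le_succ)).op = (homOfLE j.le_succ).op ≫ (homOfLE hij).op from rfl,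
        Functor.map_comp]
      exact congrArg (· ≫ S.map (homOfLE hij).op) (Functor.ofOpSequence_map_homOfLE_succ _ j)
  choose U₀ hU₀ hxU₀ using fun x : 𝔜.X 0 => show ∃ U : (𝔜.X 0).Opens, IsAffineOpen U ∧ x ∈ U from by
    obtain ⟨_, ⟨U, hU, rfl⟩, hxU, -⟩ :=
      (𝔜.X 0).isBasis_affineOpens.exists_subset_of_mem_open (Set.mem_univ x) isOpen_univ
    exact ⟨U, hU, hxU⟩
  obtain ⟨t, ht⟩ := isCompact_univ.elim_finite_subcover (fun x => (U₀ x : Set (𝔜.X 0))) (fun x => (U₀ x).2)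
    fun x _ => Set.mem_iUnion.2 ⟨x, hxU₀ x⟩
  choose rV hrV using fun x : 𝔜.X 0 => sect_stable hX hY f 𝔉 h𝔉 hf q (hU₀ x)
  intro i
  refine ⟨t.sup rV, fun s hs => le_antisymm (imageSubobject_le_of_comp _ _ ?_) (imageSubobject_le_of_comp _ _ ?_)⟩
  · have e : ARSys.shiftMap S s i = S.map (homOfLE (Nat.add_le_add_left hs i)).op ≫ ARSys.shiftMap S (t.sup rV) i :=
      S.map_comp (homOfLE (Nat.add_le_add_left hs i)).op (homOfLE (Nat.le_add_right i (t.sup rV))).op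
    rw [e]
    exact (Category.assoc _ _ _).trans ((congrArg (_ ≫ ·) (cokernel.condition _)).trans Limits.comp_zero)
  · have hB : Opens.IsBasis {W : (𝔜.X 0).Opens | IsAffineOpen W ∧ ∃ x ∈ t, W ≤ U₀ x} := by
      refine Opens.isBasis_iff_nbhd.2 fun {U x} hx => ?_
      obtain ⟨x₀, hx₀t, hxx₀⟩ : ∃ x₀ ∈ t, x ∈ U₀ x₀ := by
        simpa using ht (Set.mem_univ x)
      obtain ⟨W, hW, hxW, hWle⟩ := Opens.isBasis_iff_nbhd.1 (𝔜.X 0).isBasis_affineOpens
        (show x ∈ U ⊓ U₀ x₀ from ⟨hx, hxx₀⟩)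
      exact ⟨W, ⟨hW, x₀, hx₀t, hWle.trans inf_le_right⟩, hxW, hWle.trans inf_le_left⟩
    refine hom_ext_basis hB _ _ fun W hW y => ?_
    obtain ⟨hWaff, x₀, hx₀, hWx₀⟩ := hW
    let m := i + t.sup rV
    let l := i + s
    have hm : i + rV x₀ ≤ m := Nat.add_le_add_left (Finset.le_sup hx₀) i
    have hstab : ∀ y : SF 𝔜 hY.1 ((RQ hX hY f q).obj (Gk hX 𝔉 m)) (U₀ x₀),
        ∃ y', rmap hX hY f q (trG hX 𝔉 (Nat.le_add_right i s)) (U₀ x₀) y' =
          rmap hX hY f q (trG hX 𝔉 (Nat.le_add_right i (t.sup rV))) (U₀ x₀) y := fun y => by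
      obtain ⟨y', hy'⟩ := hrV x₀ i l (hm.trans (Nat.add_le_add_left hs i)) (rmap hX hY f q (trG hX 𝔉 hm) _ y)
      refine ⟨y', hy'.trans ?_⟩
      rw [rmap_comp, trG_comp]
    obtain ⟨z, hz⟩ := exists_local_lift hX hY f 𝔉 h𝔉 hf q (hU₀ x₀) hWaff hWx₀ (Nat.le_add_right i (t.sup rV))
      (Nat.le_add_right i s) hstab y
    have e1 : ((ARSys.shiftMap S (t.sup rV) i).val.app (op W)).hom y =
        ((ARSys.shiftMap S s i).val.app (op W)).hom z := by
      rw [show ARSys.shiftMap S (t.sup rV) i = _ from hS i m (Nat.le_add_right i (t.sup rV)),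
        show ARSys.shiftMap S s i = _ from hS i l (Nat.le_add_right i s)]
      exact hz.symm
    show ((cokernel.π (ARSys.shiftMap S s i)).val.app (op W)).hom
      (((ARSys.shiftMap S (t.sup rV) i).val.app (op W)).hom y) = 0
    rw [e1]
    exact hom_comp_zero (cokernel.condition (ARSys.shiftMap S s i)) (op W) z

end Groth.L17.FSheaf.RpushF
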