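import Groth.Agent.L17.FSheaf.RpushLim
import Groth.Agent.L17.FSheaf.RpushML
import Groth.Agent.L17.FSheaf.RpushComp
import Groth.Agent.L17.FSheaf.RpushFF
import Groth.Agent.L17.FSheaf.CompPush

/-!
# The completion of the higher direct images is the higher direct images of the completion
-/

set_option autoImplicit false
set_option linter.style.haveILetI false
set_option linter.unusedSectionVars false
set_option backward.isDefEq.respectTransparency false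
set_option backward.isDefEq.respectTransparency.types false

universe u

open CategoryTheory CategoryTheory.Limits AlgebraicGeometry TopologicalSpace Opposite

noncomputable section

namespace Groth.L17.FSheaf.RpushBC

open Groth.L17 Groth.L17.RpushSect Groth.L17.FSheaf Groth.L17.FSheaf.RpushF Groth.L17.FSheaf.RpushComp

variable {X Y : Scheme.{u}} (f : X ⟶ Y) {𝔛 𝔜 : FSch.Sys.{u}} (φ : 𝔛 ⟶ 𝔜) (hX : 𝔛.IsLocNoethFormal)
  (hY : 𝔜.IsLocNoethFormal) (p : ∀ k, 𝔛.X k ⟶ X) (hp : ∀ k, 𝔛.ι k ≫ p (k + 1) = p k)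
  (r : ∀ k, 𝔜.X k ⟶ Y) (hr : ∀ k, 𝔜.ι k ≫ r (k + 1) = r k)
  (hsq : ∀ n, p n ≫ f = (φ : FSch.Hom 𝔛 𝔜).app n ≫ r n) (F : X.Modules)

/-- The completion of the module. -/
abbrev compl : FSch.ModF 𝔛 hX.1 := (kap 𝔛 hX.1 p hp).pull.obj F

/-- The unit, projected to the levels. -/
abbrev vk (k : ℕ) : F ⟶ (kap 𝔛 hX.1 p hp).push.obj (Gk hX (compl hX p hp F) k) :=
  (kap 𝔛 hX.1 p hp).adj.unit.app F ≫ (kap 𝔛 hX.1 p hp).push.map (πk hX (compl hX p hp F) k)

theorem vk_comp (k : ℕ) :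
    vk hX p hp F (k + 1) ≫ (kap 𝔛 hX.1 p hp).push.map (tk hX (compl hX p hp F) k) = vk hX p hp F k := by
  rw [vk, Category.assoc, ← Functor.map_comp]
  exact congrArg (fun g => (kap 𝔛 hX.1 p hp).adj.unit.app F ≫ (kap 𝔛 hX.1 p hp).push.map g)
    (FSch.unit_levelTrans 𝔛 hX.1 (compl hX p hp F) k)

theorem exists_vk_iso (k : ℕ) :
    ∃ i : gObj 𝔛 p (pullSys 𝔛 p hp F) k ≅ (kap 𝔛 hX.1 p hp).push.obj (Gk hX (compl hX p hp F) k),
      uG 𝔛 p hp F k ≫ i.hom = vk hX p hp F k := by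
  haveI := isIso_schPushCompare 𝔛 hX.1 p hp k ((pullSys 𝔛 p hp F).F k)
  haveI := isIso_pullCone 𝔛 hX.1 p hp F k
  let ε := ((FSch.levelMor 𝔛 hX.1 k).adj.homEquiv _ _).symm (pullCone 𝔛 hX.1 p hp F k)
  haveI : IsIso ε := isIso_pullCone 𝔛 hX.1 p hp F k
  let j : (kap 𝔛 hX.1 p hp).push.obj (Gk hX (compl hX p hp F) k) ≅
      (kap 𝔛 hX.1 p hp).push.obj ((FSch.levelMor 𝔛 hX.1 k).push.obj ((pullSys 𝔛 p hp F).F k)) :=
    (kap 𝔛 hX.1 p hp).push.mapIso ((FSch.levelMor 𝔛 hX.1 k).push.mapIso (asIso ε))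
  refine ⟨asIso ((FSch.schPushCompare 𝔛 hX.1 p hp k).app _) ≪≫ j.symm, ?_⟩
  show uG 𝔛 p hp F k ≫ (FSch.schPushCompare 𝔛 hX.1 p hp k).app _ ≫ j.inv = _
  refine (Category.assoc _ _ _).symm.trans ((Iso.comp_inv_eq j).2 ?_)
  have h1 : πk hX (compl hX p hp F) k ≫ (FSch.levelMor 𝔛 hX.1 k).push.map ε = pullCone 𝔛 hX.1 p hp F k :=
    ((FSch.levelMor 𝔛 hX.1 k).adj.homEquiv_unit _ _ ε).symm.trans (Equiv.apply_symm_apply _ _)
  have h2 : (kap 𝔛 hX.1 p hp).adj.unit.app F ≫ (kap 𝔛 hX.1 p hp).push.map (pullCone 𝔛 hX.1 p hp F k) =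
      uG 𝔛 p hp F k ≫ (FSch.schPushCompare 𝔛 hX.1 p hp k).app _ :=
    ((kap 𝔛 hX.1 p hp).adj.homEquiv_unit _ _ (pullCone 𝔛 hX.1 p hp F k)).symm.trans (Equiv.apply_symm_apply _ _)
  rw [← h2, ← h1, Functor.map_comp, vk, Category.assoc]
  rfl

theorem vk_spec [IsClosedImmersion (p 0)] (hcl : ∀ k, IsClosedImmersion (p k)) {𝓚 : X.IdealSheafData}
    (hcut : CutBy 𝔛 p 𝓚) [Coh.IsQCoh F] (k : ℕ) (V : X.Opens) (hV : IsAffineOpen V) :
    Function.Surjective (Scheme.Modules.Hom.app (vk hX p hp F k) V) ∧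
      ∀ m, Scheme.Modules.Hom.app (vk hX p hp F k) V m = 0 ↔
      m ∈ (𝓚.ideal ⟨V, hV⟩) ^ (k + 1) • (⊤ : Submodule Γ(X, V) Γ(F, V)) := by
  obtain ⟨i, hi⟩ := exists_vk_iso hX p hp F k
  obtain ⟨hs, hk⟩ := uG_spec 𝔛 p hp F hcl hcut hV k
  have hb : Function.Bijective (Scheme.Modules.Hom.app i.hom V) :=
    ConcreteCategory.bijective_of_isIso (C := Ab.{u}) (Scheme.Modules.Hom.app i.hom V)
  have e : ∀ m, Scheme.Modules.Hom.app (vk hX p hp F k) V m =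
      Scheme.Modules.Hom.app i.hom V ((uG 𝔛 p hp F k).app V m) := fun m => by
    rw [← hi]
    rfl
  refine ⟨fun z => ?_, fun m => ?_⟩
  · obtain ⟨z', rfl⟩ := hb.2 z
    obtain ⟨m, rfl⟩ := hs z'
    exact ⟨m, e m⟩
  · rw [e, map_eq_zero_iff _ hb.1]
    exact hk m

variable [PreservesFiniteColimits (kap 𝔛 hX.1 p hp).push] [(kap 𝔛 hX.1 p hp).push.PreservesInjectiveObjects]
  [HasInjectiveResolutions (ModSite.Mod X.sheaf)] [HasInjectiveResolutions (FSch.ModF 𝔛 hX.1)] (q : ℕ)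

/-- The higher direct image on the scheme. -/
abbrev Nq : ModSite.Mod Y.sheaf := ((ModSite.RMor.ofScheme f).Rpush q).obj F

/-- The comparison morphism to the direct image. -/
def φR : Nq f F q ⟶ (kap 𝔜 hY.1 r hr).push.obj ((RQ hX hY φ q).obj (compl hX p hp F)) :=
  ((ModSite.RMor.ofScheme f).Rpush q).map ((kap 𝔛 hX.1 p hp).adj.unit.app F) ≫
    (cmpR f φ hX.1 hY.1 p hp r hr hsq q).app (compl hX p hp F)

/-- The comparison on sections. -/
def φS (W : Y.Opens) (m : Γ(Nq f F q, W)) : SF 𝔜 hY.1 ((RQ hX hY φ q).obj (compl hX p hp F)) (pU 𝔜 r W) :=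
  ((φR f φ hX hY p hp r hr hsq F q).val.app (op W)).hom m

theorem φS_sub (W : Y.Opens) (m m' : Γ(Nq f F q, W)) :
    φS f φ hX hY p hp r hr hsq F q W (m - m') =
      φS f φ hX hY p hp r hr hsq F q W m - φS f φ hX hY p hp r hr hsq F q W m' :=
  map_sub ((φR f φ hX hY p hp r hr hsq F q).val.app (op W)).hom m m'

theorem rmap_φS (W : Y.Opens) [IsNoetherianRing (O 𝔜 hY.1 (pU 𝔜 r W))] (k : ℕ) (x : (PU (ModSite.RMor.ofScheme f) q W).obj F) :
    rmap hX hY φ q (πk hX (compl hX p hp F) k) (pU 𝔜 r W)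
        (φS f φ hX hY p hp r hr hsq F q W ((ΦV (ModSite.RMor.ofScheme f) q W).app F x)) =
      Φs hX hY φ q (V := pU 𝔜 r W) (Gk hX (compl hX p hp F) k)
        ((cl f φ hX.1 hY.1 p hp r hr hsq q W).app (Gk hX (compl hX p hp F) k)
          ((PU (ModSite.RMor.ofScheme f) q W).map (vk hX p hp F k) x)) := by
  have h1 : (((ModSite.RMor.ofScheme f).Rpush q).map ((kap 𝔛 hX.1 p hp).adj.unit.app F)).val.app (op W)
      ((ΦV (ModSite.RMor.ofScheme f) q W).app F x) = (ΦV (ModSite.RMor.ofScheme f) q W).app _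
        ((PU (ModSite.RMor.ofScheme f) q W).map ((kap 𝔛 hX.1 p hp).adj.unit.app F) x) :=
    (ConcreteCategory.congr_hom ((ΦV (ModSite.RMor.ofScheme f) q W).naturality _) x).symm
  have h2 : φS f φ hX hY p hp r hr hsq F q W ((ΦV (ModSite.RMor.ofScheme f) q W).app F x) =
      Φs hX hY φ q (V := pU 𝔜 r W) (compl hX p hp F) ((cl f φ hX.1 hY.1 p hp r hr hsq q W).app _
        ((PU (ModSite.RMor.ofScheme f) q W).map ((kap 𝔛 hX.1 p hp).adj.unit.app F) x)) :=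
    (congrArg (((cmpR f φ hX.1 hY.1 p hp r hr hsq q).app (compl hX p hp F)).val.app (op W)).hom h1).trans
      (cmpR_ΦV f φ hX.1 hY.1 p hp r hr hsq q W (compl hX p hp F) _)
  rw [h2, ← Φs_pmap]
  refine congrArg (fun t => Φs hX hY φ q (V := pU 𝔜 r W) (Gk hX (compl hX p hp F) k) t) ?_
  refine (ConcreteCategory.congr_hom ((cl f φ hX.1 hY.1 p hp r hr hsq q W).naturality
    (πk hX (compl hX p hp F) k)) _).symm.trans ?_
  refine congrArg (fun t => (cl f φ hX.1 hY.1 p hp r hr hsq q W).app (Gk hX (compl hX p hp F) k) t) ?_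
  rw [vk, Functor.map_comp]
  rfl

variable [IsLocallyNoetherian X] [IsLocallyNoetherian Y] [IsProper f] (hF : Coh.IsCoh F)
  (hφ : FSch.IsProperHom φ) [IsClosedImmersion (p 0)] [IsClosedImmersion (r 0)]
  (hcl : ∀ k, IsClosedImmersion (p k)) {𝓘 : Y.IdealSheafData}
  (hcut : CutBy 𝔛 p (𝓘.comap f)) (hcutY : CutBy 𝔜 r 𝓘)

include hF hφ hcl hcut in
/-- The two halves of the comparison on an affine open. -/
theorem sect_spec {W : Y.Opens} (hW : IsAffineOpen W) :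
    (∀ j, ∃ k₀, ∀ k, k₀ ≤ k → ∀ m : Γ(Nq f F q, W),
      rmap hX hY φ q (πk hX (compl hX p hp F) k) (pU 𝔜 r W) (φS f φ hX hY p hp r hr hsq F q W m) = 0 →
        m ∈ (𝓘.ideal ⟨W, hW⟩) ^ j • (⊤ : Submodule Γ(Y, W) Γ(Nq f F q, W))) ∧
    ∀ y : SF 𝔜 hY.1 ((RQ hX hY φ q).obj (compl hX p hp F)) (pU 𝔜 r W), ∀ l, ∃ m : Γ(Nq f F q, W),
      rmap hX hY φ q (πk hX (compl hX p hp F) l) (pU 𝔜 r W) (φS f φ hX hY p hp r hr hsq F q W m) =
        rmap hX hY φ q (πk hX (compl hX p hp F) l) (pU 𝔜 r W) y := by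
  haveI : Coh.IsQCoh F := hF.1
  have h𝔉 : FSch.IsCohF 𝔛 hX.1 (compl hX p hp F) := isCohF_pull 𝔛 p hp F hX hF
  have hU : IsAffineOpen (pU 𝔜 r W) := isAffineOpen_pU 𝔜 r hW
  haveI := (O_spec 𝔜 hY hU).1
  haveI : QuasiCompact f := inferInstance
  haveI : QuasiSeparated f := inferInstance
  have hΦ : Function.Bijective ((ΦV (ModSite.RMor.ofScheme f) q W).app F) :=
    bijective_ΦV _ q W F fun m n x => by
      haveI : Coh.IsQCoh (show Y.Modules from ((ModSite.RMor.ofScheme f).Rpush m).obj F) :=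
        PushQCoh.isQCoh_Rpush f F m
      exact hu_affine_eq_zero _ hW n x
  have hΦs : ∀ k, Function.Injective fun z =>
      Φs hX hY φ q (V := pU 𝔜 r W) (Gk hX (compl hX p hp F) k)
        ((cl f φ hX.1 hY.1 p hp r hr hsq q W).app (Gk hX (compl hX p hp F) k) z) := fun k =>
    (bijective_Φs_level hX hY φ (compl hX p hp F) hU h𝔉 hφ q k).1.comp
      (bijective_cl f φ hX.1 hY.1 p hp r hr hsq q W _).1
  obtain ⟨hK, hL⟩ := RpushFF.formal_classes f hW q hF (fun k => (kap 𝔛 hX.1 p hp).push.map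
      (tk hX (compl hX p hp F) k)) (vk hX p hp F) (vk_comp hX p hp F)
      (fun k V hV => vk_spec hX p hp F hcl hcut k V hV)
  refine ⟨fun j => ?_, fun y l => ?_⟩
  · obtain ⟨k₀, hk₀⟩ := hK j
    refine ⟨k₀, fun k hk m hm => ?_⟩
    obtain ⟨x, rfl⟩ := hΦ.2 m
    rw [rmap_φS] at hm
    exact hk₀ k hk x (hΦs k (hm.trans ((congrArg (Φs hX hY φ q (V := pU 𝔜 r W) _) (map_zero _)).trans
      (map_zero _)).symm))
  · have hs : ∀ k, ∃ c, Φs hX hY φ q (V := pU 𝔜 r W) (Gk hX (compl hX p hp F) k)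
        ((cl f φ hX.1 hY.1 p hp r hr hsq q W).app (Gk hX (compl hX p hp F) k) c) =
        rmap hX hY φ q (πk hX (compl hX p hp F) k) (pU 𝔜 r W) y := fun k =>
      ((bijective_Φs_level hX hY φ (compl hX p hp F) hU h𝔉 hφ q k).2.comp
        (bijective_cl f φ hX.1 hY.1 p hp r hr hsq q W _).2) _
    choose c hc using hs
    obtain ⟨x, hx⟩ := hL c (fun k => by
      refine hΦs k ?_
      show Φs hX hY φ q _ ((cl f φ hX.1 hY.1 p hp r hr hsq q W).app _ _) =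
        Φs hX hY φ q _ ((cl f φ hX.1 hY.1 p hp r hr hsq q W).app _ (c k))
      rw [hc k]
      refine (congrArg (Φs hX hY φ q (V := pU 𝔜 r W) _) (ConcreteCategory.congr_hom
        ((cl f φ hX.1 hY.1 p hp r hr hsq q W).naturality (tk hX (compl hX p hp F) k)) (c (k + 1)))).trans ?_
      refine (Φs_pmap hX hY φ q (tk hX (compl hX p hp F) k) _).trans ?_
      refine (congrArg (rmap hX hY φ q (tk hX (compl hX p hp F) k) _) (hc (k + 1))).trans ?_
      rw [rmap_comp]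
      exact congrArg (fun g => rmap hX hY φ q g (pU 𝔜 r W) y) (FSch.unit_levelTrans 𝔛 hX.1 _ k)) l
    exact ⟨(ΦV (ModSite.RMor.ofScheme f) q W).app F x, by rw [rmap_φS, hx, hc]⟩

include hF hφ in
/-- A map to a level kills the multiples by the power of the ideal. -/
theorem rmap_eq_zero {M : FSch.ModF 𝔜 hY.1} (Ψ : M ⟶ (RQ hX hY φ q).obj (compl hX p hp F))
    (k : ℕ) {U : (𝔜.X 0).Opens} (hU : IsAffineOpen U) : ∀ z ∈ J 𝔜 hY.1 U ^ (k + 1) •
      (⊤ : Submodule (O 𝔜 hY.1 U) (SF 𝔜 hY.1 M U)),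
        rmap hX hY φ q (πk hX (compl hX p hp F) k) U ((Ψ.val.app (op U)).hom z) = 0 := by
  intro z hz
  obtain ⟨N, hN, ⟨e⟩⟩ := exists_levelModule hX hY φ (compl hX p hp F) (isCohF_pull 𝔛 p hp F hX hF) hφ q k
  haveI := hN
  refine toLev_injective hY e U (Eq.trans ?_ (map_zero (e.hom.val.app (op U)).hom).symm)
  refine Submodule.smul_induction_on hz (fun a ha z _ => ?_) fun a b ha hb => ?_
  · rw [← (O_spec 𝔜 hY hU).2.2 k, RingHom.mem_ker] at ha
    refine (congrArg (toLev hY e U) ((congrArg (rmap hX hY φ q _ U) (map_smul (Ψ.val.app (op U)).hom a z)).trans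
      (map_smul _ a _))).trans ((toLev_smul hY e U a _).trans ?_)
    rw [ha, zero_smul]
  · refine (congrArg (toLev hY e U) ((congrArg (rmap hX hY φ q _ U) (map_add (Ψ.val.app (op U)).hom a b)).trans
      (map_add _ _ _))).trans ((map_add (e.hom.val.app (op U)).hom _ _).trans ?_)
    exact (congrArg₂ (· + ·) ha hb).trans (add_zero _)

variable (hN : Coh.IsCoh (show Y.Modules from Nq f F q))
  (eY : (kap 𝔜 hY.1 r hr).pull.obj (Nq f F q) ≅
    (pullSys 𝔜 r hr (show Y.Modules from Nq f F q)).realMod hY.1)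

/-- The comparison, from the limit of the levels. -/
abbrev ΨR : (pullSys 𝔜 r hr (show Y.Modules from Nq f F q)).realMod hY.1 ⟶
    (RQ hX hY φ q).obj (compl hX p hp F) :=
  eY.inv ≫ ((kap 𝔜 hY.1 r hr).adj.homEquiv _ _).symm (φR f φ hX hY p hp r hr hsq F q)

theorem ΨR_eta (W : Y.Opens) (m : Γ(Nq f F q, W)) :
    ((ΨR f φ hX hY p hp r hr hsq F q eY).val.app (op (pU 𝔜 r W))).hom
        (eta 𝔜 hY.1 r hr (show Y.Modules from Nq f F q) eY W m) =
      φS f φ hX hY p hp r hr hsq F q W m := by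
  let ψ := ((kap 𝔜 hY.1 r hr).adj.homEquiv _ _).symm (φR f φ hX hY p hp r hr hsq F q)
  have h1 : (eY.inv.val.app (op (pU 𝔜 r W))).hom (eta 𝔜 hY.1 r hr (show Y.Modules from Nq f F q) eY W m) =
      (((kap 𝔜 hY.1 r hr).adj.unit.app (Nq f F q)).val.app (op W)).hom m :=
    LinearMap.congr_fun (congrArg (fun t => ((t : _ ⟶ (kap 𝔜 hY.1 r hr).pull.obj (Nq f F q)).val.app
      (op (pU 𝔜 r W))).hom) eY.hom_inv_id) _
  have h2 : (kap 𝔜 hY.1 r hr).adj.unit.app (Nq f F q) ≫ (kap 𝔜 hY.1 r hr).push.map ψ =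
      φR f φ hX hY p hp r hr hsq F q :=
    ((kap 𝔜 hY.1 r hr).adj.homEquiv_unit _ _ ψ).symm.trans (Equiv.apply_symm_apply _ _)
  exact (congrArg (ψ.val.app (op (pU 𝔜 r W))).hom h1).trans
    (LinearMap.congr_fun (congrArg (fun t => ((t : Nq f F q ⟶ _).val.app (op W)).hom) h2) m)

variable (heY : ∀ k, ((kap 𝔜 hY.1 r hr).adj.homEquiv _ _ eY.hom) ≫
    (kap 𝔜 hY.1 r hr).push.map (FSch.realProj 𝔜 hY.1 (pullSys 𝔜 r hr (show Y.Modules from Nq f F q)).F
      (pullSys 𝔜 r hr (show Y.Modules from Nq f F q)).toPush k) =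
    (Scheme.Modules.pullbackPushforwardAdjunction (r k)).unit.app (show Y.Modules from Nq f F q) ≫
      (FSch.schPushCompare 𝔜 hY.1 r hr k).app ((Scheme.Modules.pullback (r k)).obj (show Y.Modules from Nq f F q)))

include hF hφ hcl hcut hcutY hN heY in
theorem bijective_ΨR {W : Y.Opens} (hW : IsAffineOpen W) :
    Function.Bijective ((ΨR f φ hX hY p hp r hr hsq F q eY).val.app (op (pU 𝔜 r W))).hom := by
  classical
  haveI : ∀ n, IsLocallyNoetherian (𝔜.X n) := hY.2.2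
  let N : Y.Modules := Nq f F q
  haveI : Coh.IsQCoh N := hN.1
  let U := pU 𝔜 r W
  let 𝔐 := pullSys 𝔜 r hr N
  have hU : IsAffineOpen U := isAffineOpen_pU 𝔜 r hW
  have h𝔐 : 𝔐.IsCoh := isCoh_pullSys 𝔜 r hr N hN
  have h𝔉 : FSch.IsCohF 𝔛 hX.1 (compl hX p hp F) := isCohF_pull 𝔛 p hp F hX hF
  obtain ⟨hK, hL⟩ := sect_spec f φ hX hY p hp r hr hsq F q hF hφ hcl hcut hW
  let Ψ := (ΨR f φ hX hY p hp r hr hsq F q eY)
  have hkey : ∀ (k : ℕ) (x : RM 𝔜 hY.1 𝔐 U) (m : Γ(N, W)),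
      pW 𝔜 hY.1 r hr N k W m = qM 𝔜 hY.1 𝔐 k U x →
      rmap hX hY φ q (πk hX (compl hX p hp F) k) U ((Ψ.val.app (op U)).hom x) =
        rmap hX hY φ q (πk hX (compl hX p hp F) k) U (φS f φ hX hY p hp r hr hsq F q W m) := by
    intro k x m hm
    have hd : x - eta 𝔜 hY.1 r hr N eY W m ∈
        J 𝔜 hY.1 U ^ (k + 1) • (⊤ : Submodule (O 𝔜 hY.1 U) (RM 𝔜 hY.1 𝔐 U)) := by
      refine (((RM_spec 𝔜 𝔐 hY h𝔐 hU).2 k).2 _).1 ?_
      rw [map_sub, qM_eta 𝔜 hY.1 r hr N eY heY k W m, hm, sub_self]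
    have h0 := rmap_eq_zero φ hX hY p hp F q hF hφ Ψ k hU _ hd
    rw [map_sub, map_sub, sub_eq_zero] at h0
    exact h0.trans (congrArg (rmap hX hY φ q (πk hX (compl hX p hp F) k) U)
      (ΨR_eta f φ hX hY p hp r hr hsq F q eY W m))
  choose k₀ hk₀ using hK
  let K : ℕ → ℕ := fun n => n + (Finset.range (n + 2)).sup k₀
  have hKn : ∀ n, n ≤ K n := fun n => Nat.le_add_right _ _
  have hK0 : ∀ n, k₀ (n + 1) ≤ K n := fun n =>
    (Finset.le_sup (f := k₀) (Finset.mem_range.2 (Nat.lt_succ_self _))).trans (Nat.le_add_left _ _)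
  have hKmono : ∀ n, K n ≤ K (n + 1) := fun n => by
    refine add_le_add n.le_succ (Finset.sup_mono ?_)
    intro a ha
    rw [Finset.mem_range] at ha ⊢
    omega
  have hsmall : ∀ n k, K n ≤ k → ∀ m : Γ(N, W),
      rmap hX hY φ q (πk hX (compl hX p hp F) k) U (φS f φ hX hY p hp r hr hsq F q W m) = 0 →
        pW 𝔜 hY.1 r hr N n W m = 0 := fun n k hk m hm =>
    ((pW_spec 𝔜 hY.1 r hr N hcutY hW n).2 m).2 (hk₀ (n + 1) k ((hK0 n).trans hk) m hm)
  constructor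
  · refine (injective_iff_map_eq_zero _).2 fun x hx => qM_ext 𝔜 hY.1 𝔐 fun n => ?_
    obtain ⟨m, hm⟩ := (pW_spec 𝔜 hY.1 r hr N hcutY hW (K n)).1 (qM 𝔜 hY.1 𝔐 (K n) U x)
    rw [map_zero, ← pW_eq_qM_of_le (hKn n) hm]
    refine hsmall n (K n) le_rfl m ((hkey (K n) x m hm).symm.trans ?_)
    exact (congrArg (rmap hX hY φ q (πk hX (compl hX p hp F) (K n)) U) hx).trans (map_zero _)
  · intro y
    choose m hm using hL y
    have hle : ∀ {k l : ℕ}, k ≤ l →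
        rmap hX hY φ q (πk hX (compl hX p hp F) k) U (φS f φ hX hY p hp r hr hsq F q W (m l)) =
          rmap hX hY φ q (πk hX (compl hX p hp F) k) U y := fun {k l} hkl => by
      rw [← πk_trG hX (compl hX p hp F) hkl, ← rmap_comp, ← rmap_comp]
      exact congrArg (rmap hX hY φ q (trG hX (compl hX p hp F) hkl) U) (hm l)
    obtain ⟨x, hx⟩ := exists_qM 𝔜 hY.1 𝔐 (U := U) (fun n => pW 𝔜 hY.1 r hr N n W (m (K n))) fun n => by
      refine (tM_pW 𝔜 hY.1 r hr N n W _).trans ?_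
      rw [← sub_eq_zero, ← pW_sub]
      refine hsmall n (K n) le_rfl _ ?_
      rw [φS_sub, map_sub, hle (hKmono n), hle le_rfl, sub_self]
    refine ⟨x, sub_eq_zero.1 ((sect_lim hX hY φ (compl hX p hp F) h𝔉 hφ q hU).1 _ fun n => ?_)⟩
    rw [map_sub, hkey n x (m (K n)) (hx n).symm, hle (hKn n), sub_self]

include hsq hF hφ hcl hcut hcutY hN in
omit eY in
/-- The completion of the higher direct image is the higher direct image of the completion. -/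
theorem nonempty_iso :
    Nonempty ((kap 𝔜 hY.1 r hr).pull.obj (Nq f F q) ≅ (RQ hX hY φ q).obj (compl hX p hp F)) := by
  obtain ⟨eY, heY⟩ := exists_pull_iso_pullSys 𝔜 r hr (show Y.Modules from Nq f F q) hY hN
  let Ψ := ΨR f φ hX hY p hp r hr hsq F q eY
  have hb : ∀ U ∈ {U : Opens (𝔜.X 0) | ∃ W : Y.Opens, IsAffineOpen W ∧ U = pU 𝔜 r W},
      Function.Bijective (Ψ.val.app (op U)).hom := by
    rintro _ ⟨W, hW, rfl⟩
    exact bijective_ΨR f φ hX hY p hp r hr hsq F q hF hφ hcl hcut hcutY hN eY heY hW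
  haveI := mono_of_injective_basis (isBasis_pU 𝔜 r) Ψ fun U hU => (hb U hU).1
  haveI := epi_of_surjective_basis (isBasis_pU 𝔜 r) Ψ fun U hU => (hb U hU).2
  haveI : IsIso Ψ := isIso_of_mono_of_epi _
  exact ⟨eY ≪≫ asIso Ψ⟩

end Groth.L17.FSheaf.RpushBC
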