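import Groth.Agent.L17.FSheaf.HomEquiv

/-!
# The module of a coherent system determines the system
-/

set_option autoImplicit false
set_option linter.style.haveILetI false
set_option linter.unusedSectionVars false
set_option backward.isDefEq.respectTransparency false
set_option backward.isDefEq.respectTransparency.types false

universe u

open CategoryTheory CategoryTheory.Limits AlgebraicGeometry TopologicalSpace Opposite

noncomputable section

namespace Groth.L17.FSheaf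

variable (𝔛 : FSch.Sys.{u}) {𝔐 : FSch.ModSys 𝔛}

/-- Every morphism from the module of a coherent system to a direct image from a level factors
uniquely through the projection to that level. -/
theorem existsUnique_push_factor (hX : 𝔛.IsLocNoethFormal) (h𝔐 : 𝔐.IsCoh) {k : ℕ} (G : (𝔛.X k).Modules)
    (θ : FSch.realLim 𝔛 hX.1 𝔐.F 𝔐.toPush ⟶ (FSch.levelMor 𝔛 hX.1 k).push.obj G) :
    ∃! φ : 𝔐.F k ⟶ G, FSch.realProj 𝔛 hX.1 𝔐.F 𝔐.toPush k ≫ (FSch.levelMor 𝔛 hX.1 k).push.map φ = θ := by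
  haveI := epi_realProj 𝔛 hX h𝔐 k
  have hz : kernel.ι (FSch.realProj 𝔛 hX.1 𝔐.F 𝔐.toPush k) ≫ θ = 0 := by
    refine hom_ext_basis (B := {V | IsAffineOpen (V : (𝔛.X 0).Opens)}) (𝔛.X 0).isBasis_affineOpens _ _
      fun U hU z => ?_
    let x : RM 𝔛 hX.1 𝔐 U := ((kernel.ι (FSch.realProj 𝔛 hX.1 𝔐.F 𝔐.toPush k)).val.app (op U)).hom z
    have hx : qM 𝔛 hX.1 𝔐 k U x = 0 := LinearMap.congr_fun
      (congrArg (fun t => ((t : _ ⟶ _).val.app (op U)).hom)
        (kernel.condition (FSch.realProj 𝔛 hX.1 𝔐.F 𝔐.toPush k))) z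
    show (θ.val.app (op U)).hom x = (0 : Γ(G, 𝔛.lvU hX.1 k U))
    have hx' := (((RM_spec 𝔛 𝔐 hX h𝔐 hU).2 k).2 x).1 hx
    let t : RM 𝔛 hX.1 𝔐 U → Γ(G, 𝔛.lvU hX.1 k U) := fun w => (θ.val.app (op U)).hom w
    show t x = 0
    clear_value x
    clear hx
    induction hx' using Submodule.smul_induction_on' with
    | smul r hr n hn =>
      refine ((θ.val.app (op U)).hom.map_smul r n).trans ?_
      show pR 𝔛 hX.1 k U r • t n = 0
      rw [show pR 𝔛 hX.1 k U r = 0 from ((O_spec 𝔛 hX hU).2.2 k).ge hr, zero_smul]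
    | add a ha b hb iha ihb =>
      exact ((θ.val.app (op U)).hom.map_add a b).trans (by
        show t a + t b = 0
        rw [iha, ihb, add_zero])
  obtain ⟨φ, hφ⟩ := exists_push_preimage 𝔛 hX.1
    (Abelian.epiDesc (FSch.realProj 𝔛 hX.1 𝔐.F 𝔐.toPush k) _ hz)
  have h1 : FSch.realProj 𝔛 hX.1 𝔐.F 𝔐.toPush k ≫ (FSch.levelMor 𝔛 hX.1 k).push.map φ = θ := by
    rw [hφ, Abelian.comp_epiDesc]
  exact ⟨φ, h1, fun φ' hφ' => push_injective 𝔛 hX.1 ((cancel_epi _).1 (Eq.trans hφ' h1.symm))⟩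

/-- The levels of the module of a coherent system are those of the system. -/
theorem isIso_adjoint_realProj (hX : 𝔛.IsLocNoethFormal) (h𝔐 : 𝔐.IsCoh) (k : ℕ) :
    IsIso (((FSch.levelMor 𝔛 hX.1 k).adj.homEquiv _ _).symm (FSch.realProj 𝔛 hX.1 𝔐.F 𝔐.toPush k)) := by
  refine isIso_of_coyoneda_map_bijective _ fun T => ?_
  have hb : Function.Bijective fun φ : 𝔐.F k ⟶ T =>
      FSch.realProj 𝔛 hX.1 𝔐.F 𝔐.toPush k ≫ (FSch.levelMor 𝔛 hX.1 k).push.map φ :=
    Function.bijective_iff_existsUnique _ |>.2 (existsUnique_push_factor 𝔛 hX h𝔐 T)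
  have he : (fun φ : 𝔐.F k ⟶ T =>
      ((FSch.levelMor 𝔛 hX.1 k).adj.homEquiv _ _).symm (FSch.realProj 𝔛 hX.1 𝔐.F 𝔐.toPush k) ≫ φ) =
      ((FSch.levelMor 𝔛 hX.1 k).adj.homEquiv _ _).symm ∘ fun φ : 𝔐.F k ⟶ T =>
        FSch.realProj 𝔛 hX.1 𝔐.F 𝔐.toPush k ≫ (FSch.levelMor 𝔛 hX.1 k).push.map φ :=
    funext fun φ => (Adjunction.homEquiv_naturality_right_symm _ _ _).symm
  exact he ▸ (((FSch.levelMor 𝔛 hX.1 k).adj.homEquiv _ _).symm.bijective.comp hb)

end Groth.L17.FSheaf
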