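import Groth.Agent.L17.FSheaf.Sect
import Groth.Agent.L17.FSheaf.OpensFP

/-!
# Modules of coherent systems are coherent
-/

set_option autoImplicit false
set_option linter.style.haveILetI false
set_option linter.unusedSectionVars false
set_option backward.isDefEq.respectTransparency false
set_option backward.isDefEq.respectTransparency.types false

universe u

open CategoryTheory CategoryTheory.Limits AlgebraicGeometry TopologicalSpace Opposite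

noncomputable section

namespace Groth.L17.FSheaf

open Groth.L18.Frame (rs ro)

theorem exists_coeff_of_mem_smul {R : Type u} [CommRing R] {M : Type u} [AddCommGroup M] [Module R M] {n : ℕ}
    (g : Fin n → M) (hg : Submodule.span R (Set.range g) = ⊤) (I : Ideal R) {x : M}
    (hx : x ∈ I • (⊤ : Submodule R M)) : ∃ a : Fin n → R, (∀ i, a i ∈ I) ∧ ∑ i, a i • g i = x := by
  refine Submodule.smul_induction_on hx (fun r hr y _ => ?_) (fun a b ha hb => ?_)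
  · obtain ⟨c, rfl⟩ := (Submodule.mem_span_range_iff_exists_fun R).1 (hg ▸ Submodule.mem_top : y ∈ _)
    exact ⟨fun i => r * c i, fun i => I.mul_mem_right _ hr, by simp [Finset.smul_sum, mul_smul]⟩
  · obtain ⟨a, ha, rfl⟩ := ha
    obtain ⟨b, hb, rfl⟩ := hb
    exact ⟨a + b, fun i => add_mem (ha i) (hb i), by simp [add_smul, Finset.sum_add_distrib]⟩

variable (𝔛 : FSch.Sys.{u}) (h : 𝔛.IsFormal)

/-- Restriction on `O_𝔛`. -/
abbrev resO {U V : (𝔛.X 0).Opens} (hVU : V ≤ U) : O 𝔛 h U →+* O 𝔛 h V :=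
  ((𝔛.Osh h).obj.map (homOfLE hVU).op).hom

theorem pR_resO {U V : (𝔛.X 0).Opens} (hVU : V ≤ U) (k : ℕ) (x : O 𝔛 h U) :
    pR 𝔛 h k V (resO 𝔛 h hVU x) = ro (lvU_mono 𝔛 h k hVU) (pR 𝔛 h k U x) :=
  ConcreteCategory.congr_hom ((𝔛.OshProj h k).hom.naturality (homOfLE hVU).op) x

variable (𝔐 : FSch.ModSys 𝔛)

/-- Restriction on the module of a system. -/
abbrev resM {U V : (𝔛.X 0).Opens} (hVU : V ≤ U) : RM 𝔛 h 𝔐 U → RM 𝔛 h 𝔐 V :=
  res (R := ModSite.ringSh (𝔛.Osh h)) (𝔐.realMod h) hVU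

theorem qM_resM {U V : (𝔛.X 0).Opens} (hVU : V ≤ U) (k : ℕ) (x : RM 𝔛 h 𝔐 U) :
    qM 𝔛 h 𝔐 k V (resM 𝔛 h 𝔐 hVU x) = (rs (𝔐.F k) (lvU_mono 𝔛 h k hVU) (qM 𝔛 h 𝔐 k U x) :
      Γ(𝔐.F k, 𝔛.lvU h k V)) :=
  PresheafOfModules.naturality_apply (FSch.realProj 𝔛 h 𝔐.F 𝔐.toPush k).val (homOfLE hVU).op x

theorem qM_sum {U : (𝔛.X 0).Opens} (k : ℕ) {n : ℕ} (c : Fin n → O 𝔛 h U) (g : Fin n → RM 𝔛 h 𝔐 U) :
    qM 𝔛 h 𝔐 k U (∑ i, c i • g i) =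
      (∑ i, pR 𝔛 h k U (c i) • (show Γ(𝔐.F k, 𝔛.lvU h k U) from qM 𝔛 h 𝔐 k U (g i)) :
        Γ(𝔐.F k, 𝔛.lvU h k U)) := by
  rw [map_sum]
  exact Finset.sum_congr rfl fun i _ => map_smul _ _ _

variable {𝔐} (hX : 𝔛.IsLocNoethFormal) (h𝔐 : 𝔐.IsCoh)

include h𝔐 in
/-- Generators and relations on an affine open restrict to smaller affine opens. -/
theorem restrict_spec {U V : (𝔛.X 0).Opens} (hU : IsAffineOpen U) (hV : IsAffineOpen V) (hVU : V ≤ U)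
    {n m : ℕ} (g : Fin n → RM 𝔛 hX.1 𝔐 U) (hg : Submodule.span (O 𝔛 hX.1 U) (Set.range g) = ⊤)
    (r : Fin m → Fin n → O 𝔛 hX.1 U)
    (hrel : ∀ c : Fin n → O 𝔛 hX.1 U, ∑ i, c i • g i = 0 →
      ∃ d : Fin m → O 𝔛 hX.1 U, ∀ i, c i = ∑ j, d j * r j i)
    (hr : ∀ j, ∑ i, r j i • g i = 0) :
    Submodule.span (O 𝔛 hX.1 V) (Set.range fun i => resM 𝔛 hX.1 𝔐 hVU (g i)) = ⊤ ∧
      ∀ a : Fin n → O 𝔛 hX.1 V, ∑ i, a i • resM 𝔛 hX.1 𝔐 hVU (g i) = 0 →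
        ∃ d : Fin m → O 𝔛 hX.1 V, ∀ i, a i = ∑ j, d j * resO 𝔛 hX.1 hVU (r j i) := by
  classical
  haveI := (O_spec 𝔛 hX hV).1
  haveI := (O_spec 𝔛 hX hV).2.1
  obtain ⟨hfinV, hqV⟩ := RM_spec 𝔛 𝔐 hX h𝔐 hV
  obtain ⟨-, hqU⟩ := RM_spec 𝔛 𝔐 hX h𝔐 hU
  -- generators and relations on the levels
  have hlev : ∀ k, Submodule.span Γ(𝔛.X k, 𝔛.lvU hX.1 k V) (Set.range fun i =>
        rs (𝔐.F k) (lvU_mono 𝔛 hX.1 k hVU) (qM 𝔛 hX.1 𝔐 k U (g i))) = ⊤ ∧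
      ∀ a : Fin n → Γ(𝔛.X k, 𝔛.lvU hX.1 k V),
        ∑ i, a i • rs (𝔐.F k) (lvU_mono 𝔛 hX.1 k hVU) (qM 𝔛 hX.1 𝔐 k U (g i)) = 0 →
        ∃ d : Fin m → Γ(𝔛.X k, 𝔛.lvU hX.1 k V),
          ∀ i, a i = ∑ j, d j * ro (lvU_mono 𝔛 hX.1 k hVU) (pR 𝔛 hX.1 k U (r j i)) := by
    intro k
    haveI := (h𝔐 k).1
    refine span_rel_restrict (𝔐.F k) (isAffineOpen_lvU 𝔛 hX.1 hU k) (isAffineOpen_lvU 𝔛 hX.1 hV k)
      (lvU_mono 𝔛 hX.1 k hVU) (fun i => (qM 𝔛 hX.1 𝔐 k U (g i) : Γ(𝔐.F k, 𝔛.lvU hX.1 k U)))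
      (eq_top_iff.2 fun y _ => ?_) (fun j i => pR 𝔛 hX.1 k U (r j i)) (fun c hc => ?_) (fun j => ?_)
    · obtain ⟨x, rfl⟩ := (hqU k).1 y
      obtain ⟨c, rfl⟩ := (Submodule.mem_span_range_iff_exists_fun _).1 (hg ▸ Submodule.mem_top : x ∈ _)
      exact (Submodule.mem_span_range_iff_exists_fun _).2 ⟨fun i => pR 𝔛 hX.1 k U (c i),
        (qM_sum 𝔛 hX.1 𝔐 k c g).symm⟩
    · choose b hb using fun i => pR_surjective 𝔛 hX.1 hU k (c i)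
      have h0 : qM 𝔛 hX.1 𝔐 k U (∑ i, b i • g i) = 0 := by
        rw [qM_sum]
        simp only [hb]
        exact hc
      obtain ⟨b', hb', hsum⟩ := exists_coeff_of_mem_smul g hg _ (((hqU k).2 _).1 h0)
      obtain ⟨d, hd⟩ := hrel (fun i => b i - b' i) (by
        simp only [sub_smul, Finset.sum_sub_distrib, hsum, sub_self])
      refine ⟨fun j => pR 𝔛 hX.1 k U (d j), fun i => ?_⟩
      have h1 : pR 𝔛 hX.1 k U (b' i) = 0 := RingHom.mem_ker.1 (((O_spec 𝔛 hX hU).2.2 k).symm ▸ hb' i)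
      rw [← hb i, ← sub_zero (pR 𝔛 hX.1 k U (b i)), ← h1, ← map_sub, hd i, map_sum]
      simp only [map_mul]
    · exact (qM_sum 𝔛 hX.1 𝔐 k (r j) g).symm.trans ((congrArg _ (hr j)).trans (map_zero _))
  refine ⟨?_, fun a ha => ?_⟩
  · refine eq_top_of_sup (J 𝔛 hX.1 V) _ (eq_top_iff.2 fun y _ => ?_)
    obtain ⟨c, hc⟩ := (Submodule.mem_span_range_iff_exists_fun _).1
      ((hlev 0).1 ▸ Submodule.mem_top : (show Γ(𝔐.F 0, 𝔛.lvU hX.1 0 V) from qM 𝔛 hX.1 𝔐 0 V y) ∈ _)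
    choose b hb using fun i => pR_surjective 𝔛 hX.1 hV 0 (c i)
    refine Submodule.mem_sup.2 ⟨∑ i, b i • resM 𝔛 hX.1 𝔐 hVU (g i),
      Submodule.sum_mem _ fun i _ => Submodule.smul_mem _ _ (Submodule.subset_span ⟨i, rfl⟩),
      y - ∑ i, b i • resM 𝔛 hX.1 𝔐 hVU (g i), ?_, add_sub_cancel _ _⟩
    have h0 := ((hqV 0).2 (y - ∑ i, b i • resM 𝔛 hX.1 𝔐 hVU (g i))).1 (by
      rw [map_sub, qM_sum, sub_eq_zero]
      refine hc.symm.trans (Finset.sum_congr rfl fun i _ => ?_)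
      rw [hb, qM_resM])
    rwa [zero_add, pow_one] at h0
  · let P : Submodule (O 𝔛 hX.1 V) (Fin n → O 𝔛 hX.1 V) :=
      Submodule.span (O 𝔛 hX.1 V) (Set.range fun j => fun i => resO 𝔛 hX.1 hVU (r j i))
    have h1 : a ∈ P := by
      refine mem_of_forall_mem_sup (J 𝔛 hX.1 V) P fun k => ?_
      obtain ⟨d, hd⟩ := (hlev k).2 (fun i => pR 𝔛 hX.1 k V (a i)) (by
        refine Eq.trans (Finset.sum_congr rfl fun i _ => ?_)
          ((qM_sum 𝔛 hX.1 𝔐 k a fun i => resM 𝔛 hX.1 𝔐 hVU (g i)).symm.trans ((congrArg _ ha).trans (map_zero _)))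
        rw [qM_resM])
      choose b hb using fun j => pR_surjective 𝔛 hX.1 hV k (d j)
      let w : Fin n → O 𝔛 hX.1 V := ∑ j, b j • fun i => resO 𝔛 hX.1 hVU (r j i)
      refine Submodule.mem_sup.2 ⟨w, Submodule.sum_mem _ fun j _ =>
        Submodule.smul_mem _ _ (Submodule.subset_span ⟨j, rfl⟩), a - w, ?_, add_sub_cancel _ _⟩
      have h2 : ∀ i, (a - w) i ∈ J 𝔛 hX.1 V ^ k := fun i => by
        refine Ideal.pow_le_pow_right (Nat.le_succ k) ?_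
        rw [← (O_spec 𝔛 hX hV).2.2 k, RingHom.mem_ker, Pi.sub_apply, map_sub, sub_eq_zero, hd i]
        simp [w, map_sum, pR_resO, hb]
      rw [← Finset.univ_sum_single (a - w)]
      refine Submodule.sum_mem _ fun i _ => ?_
      rw [show (Pi.single i ((a - w) i) : Fin n → O 𝔛 hX.1 V) = (a - w) i • Pi.single i 1 by
        rw [← Pi.single_smul, smul_eq_mul, mul_one]]
      exact Submodule.smul_mem_smul (h2 i) Submodule.mem_top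
    obtain ⟨d, hd⟩ := (Submodule.mem_span_range_iff_exists_fun _).1 h1
    exact ⟨d, fun i => by simp [← hd]⟩

include h𝔐 in
/-- Finitely many generators and relations on an affine open. -/
theorem exists_gen_rel {U : (𝔛.X 0).Opens} (hU : IsAffineOpen U) :
    ∃ (n m : ℕ) (g : Fin n → RM 𝔛 hX.1 𝔐 U) (r : Fin m → Fin n → O 𝔛 hX.1 U),
      Submodule.span (O 𝔛 hX.1 U) (Set.range g) = ⊤ ∧
      (∀ c : Fin n → O 𝔛 hX.1 U, ∑ i, c i • g i = 0 →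
        ∃ d : Fin m → O 𝔛 hX.1 U, ∀ i, c i = ∑ j, d j * r j i) ∧ ∀ j, ∑ i, r j i • g i = 0 := by
  haveI := (O_spec 𝔛 hX hU).1
  haveI := (RM_spec 𝔛 𝔐 hX h𝔐 hU).1
  obtain ⟨n, g, hg⟩ := Module.Finite.exists_fin (R := O 𝔛 hX.1 U) (M := RM 𝔛 hX.1 𝔐 U)
  let π := Fintype.linearCombination (O 𝔛 hX.1 U) g
  obtain ⟨m, r, hr⟩ := Module.Finite.exists_fin (R := O 𝔛 hX.1 U) (M := LinearMap.ker π)
  refine ⟨n, m, g, fun j => (r j).1, hg, fun c hc => ?_, fun j => (r j).2⟩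
  obtain ⟨d, hd⟩ := (Submodule.mem_span_range_iff_exists_fun _).1
    (hr ▸ Submodule.mem_top : (⟨c, hc⟩ : LinearMap.ker π) ∈ _)
  refine ⟨d, fun i => ?_⟩
  have := congrArg (fun z : LinearMap.ker π => (z : Fin n → O 𝔛 hX.1 U) i) hd
  simpa using this.symm

include h𝔐 in
/-- The module of a coherent system is coherent. -/
theorem isCohF_realMod : FSch.IsCohF 𝔛 hX.1 (𝔐.realMod hX.1) := by
  refine isFinitePresentation_of_local (B := {V | IsAffineOpen (V : (𝔛.X 0).Opens)})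
    (𝔛.X 0).isBasis_affineOpens _ fun x => ?_
  obtain ⟨_, ⟨U, hU, rfl⟩, hxU, -⟩ :=
    (𝔛.X 0).isBasis_affineOpens.exists_subset_of_mem_open (Set.mem_univ x) isOpen_univ
  obtain ⟨n, m, g, r, hg, hrel, hr⟩ := exists_gen_rel 𝔛 hX h𝔐 hU
  exact ⟨U, hxU, n, m, g, r, fun V hV hVU => (restrict_spec 𝔛 hX h𝔐 hU hV hVU g hg r hrel hr).1, hr,
    fun V hV hVU => (restrict_spec 𝔛 hX h𝔐 hU hV hVU g hg r hrel hr).2⟩

end Groth.L17.FSheaf
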