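import Groth.Agent.L17.FSheaf.CompSect
import Groth.Agent.L17.FSheaf.OfLevels
import Groth.Agent.L17.FSheaf.PullFP
import Groth.Agent.L17.FSheaf.AdjIso
import Groth.Agent.L17.FSheaf.Coherent
import Groth.Prelude.Def_FSch6

/-!
# Inverse image of the module of a coherent system
-/

set_option autoImplicit false
set_option linter.style.haveILetI false
set_option linter.unusedSectionVars false
set_option backward.isDefEq.respectTransparency false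
set_option backward.isDefEq.respectTransparency.types false

universe u

open CategoryTheory CategoryTheory.Limits AlgebraicGeometry TopologicalSpace Opposite

noncomputable section

namespace Groth.L17.FSheaf

open Groth.L18.Frame (rs ro pull pull_rs rs_rs rs_self)
open Groth.L17.BC.PullSec (app_rs map_pull comp_inv_pull_rs)

variable {𝔛 𝔜 : FSch.Sys.{u}} (φ : 𝔛 ⟶ 𝔜) (h : 𝔛.IsFormal) (h' : 𝔜.IsFormal) (𝔐 : FSch.ModSys 𝔜)

/-- The level of a morphism of systems. -/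
abbrev fL (k : ℕ) : 𝔛.X k ⟶ 𝔜.X k := (φ : FSch.Hom 𝔛 𝔜).app k

/-- The open over an open. -/
abbrev fU (U : (𝔜.X 0).Opens) : (𝔛.X 0).Opens := fL φ 0 ⁻¹ᵁ U

theorem fU_le (k : ℕ) (U : (𝔜.X 0).Opens) : 𝔛.lvU h k (fU φ U) ≤ fL φ k ⁻¹ᵁ 𝔜.lvU h' k U :=
  (FSch.Hom.lvU_preimage φ h h' k U).ge

/-- The transition maps of the inverse image system on sections. -/
theorem tM_pullback (k : ℕ) (U : (𝔜.X 0).Opens) (y : Γ(𝔐.F (k + 1), 𝔜.lvU h' (k + 1) U)) :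
    (tM 𝔛 h (FSch.ModSys.pullback φ 𝔐) k (fU φ U)
      (rs ((Scheme.Modules.pullback (fL φ (k + 1))).obj (𝔐.F (k + 1))) (fU_le φ h h' (k + 1) U)
        (pull (fL φ (k + 1)) (𝔐.F (k + 1)) _ y)) :
      Γ((Scheme.Modules.pullback (fL φ k)).obj (𝔐.F k), 𝔛.lvU h k (fU φ U))) =
      rs ((Scheme.Modules.pullback (fL φ k)).obj (𝔐.F k)) (fU_le φ h h' k U)
        (pull (fL φ k) (𝔐.F k) _ (tM 𝔜 h' 𝔐 k U y : Γ(𝔐.F k, 𝔜.lvU h' k U))) := by
  have e2 : 𝔛.lvU h k (fU φ U) ≤ (fL φ k ≫ 𝔜.ι k) ⁻¹ᵁ 𝔜.lvU h' (k + 1) U :=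
    (fU_le φ h h' k U).trans ((fL φ k).preimage_mono (𝔜.lvU_le h' k U))
  rw [tM_apply, tM_apply]
  show ((Scheme.Modules.pullback (fL φ k)).map (𝔐.e k).hom).app _
      (((Scheme.Modules.pullbackComp (fL φ k) (𝔜.ι k)).inv.app (𝔐.F (k + 1))).app _
        (((Scheme.Modules.pullbackComp (𝔛.ι k) (fL φ (k + 1)) ≪≫
            Scheme.Modules.pullbackCongr ((φ : FSch.Hom 𝔛 𝔜).comm k).symm).app (𝔐.F (k + 1))).hom.app _ _)) = _
  refine (congrArg (fun z => ((Scheme.Modules.pullback (fL φ k)).map (𝔐.e k).hom).app _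
      (((Scheme.Modules.pullbackComp (fL φ k) (𝔜.ι k)).inv.app (𝔐.F (k + 1))).app _ z))
    (pullTrans_app (𝔛.ι k) (fL φ (k + 1)) ((φ : FSch.Hom 𝔛 𝔜).comm k).symm (𝔐.F (k + 1)) _ y
      (fU_le φ h h' (k + 1) U) (𝔛.lvU_le h k _) e2)).trans ?_
  refine (congrArg (((Scheme.Modules.pullback (fL φ k)).map (𝔐.e k).hom).app _)
    (comp_inv_pull_rs (fL φ k) (𝔜.ι k) (𝔐.F (k + 1)) _ y _ e2)).trans ?_
  refine (app_rs _ _ _).trans ?_
  refine (congrArg (rs _ _) (map_pull (fL φ k) (𝔐.e k).hom _ _)).trans ?_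
  refine Eq.trans ?_ (congrArg (rs _ _) (congrArg (pull (fL φ k) (𝔐.F k) _) (app_rs _ _ _).symm))
  refine Eq.trans ?_ (congrArg (rs _ _) (pull_rs (fL φ k) (𝔐.F k) (𝔜.lvU_le h' k U) _))
  exact (rs_rs _ _ _ _).symm

/-- The morphisms from the inverse image to the levels. -/
abbrev pullC (k : ℕ) : (FSch.pullF φ h h').obj (𝔐.realMod h') ⟶
    (FSch.levelMor 𝔛 h k).push.obj ((FSch.ModSys.pullback φ 𝔐).F k) :=
  ((FSch.homMor φ h h').adj.homEquiv _ _).symm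
    (FSch.realProj 𝔜 h' 𝔐.F 𝔐.toPush k ≫
      (FSch.levelMor 𝔜 h' k).push.map ((ModSite.RMor.ofScheme (fL φ k)).adj.unit.app (𝔐.F k)) ≫
        (FSch.lvPushSq φ h h' k).inv.app ((FSch.ModSys.pullback φ 𝔐).F k))

theorem pullC_comp (k : ℕ) :
    pullC φ h h' 𝔐 (k + 1) ≫ (FSch.levelMor 𝔛 h (k + 1)).push.map ((FSch.ModSys.pullback φ 𝔐).toPush k) ≫
      (FSch.pushCompare 𝔛 h k).app ((FSch.ModSys.pullback φ 𝔐).F k) = pullC φ h h' 𝔐 k := by
  refine ((FSch.homMor φ h h').adj.homEquiv _ _).injective ?_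
  refine (Adjunction.homEquiv_naturality_right _ _ _).trans ?_
  refine Eq.trans (congrArg (· ≫ (FSch.homMor φ h h').push.map _) (Equiv.apply_symm_apply _ _)) ?_
  refine Eq.trans ?_ (Equiv.apply_symm_apply _ _).symm
  rw [← FSch.levelSysOf_map_succ 𝔛 h (FSch.ModSys.pullback φ 𝔐).F (FSch.ModSys.pullback φ 𝔐).toPush k,
    ← FSch.realProj_map 𝔜 h' 𝔐.F 𝔐.toPush k, ← FSch.levelSysOf_map_succ 𝔜 h' 𝔐.F 𝔐.toPush k]
  apply SheafOfModules.hom_ext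
  apply PresheafOfModules.Hom.ext
  funext U
  apply ModuleCat.hom_ext
  apply LinearMap.ext
  intro m
  obtain ⟨U⟩ := U
  exact tM_pullback φ h h' 𝔐 k U (qM 𝔜 h' 𝔐 (k + 1) U m)

variable (hX : 𝔛.IsLocNoethFormal) (hY : 𝔜.IsLocNoethFormal) (h𝔐 : 𝔐.IsCoh)

include hY h𝔐 in
theorem isIso_pullC (k : ℕ) :
    IsIso (((FSch.levelMor 𝔛 h k).adj.homEquiv _ _).symm (pullC φ h hY.1 𝔐 k)) := by
  refine isIso_of_coyoneda_map_bijective _ fun T => ?_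
  haveI := isIso_adjoint_realProj 𝔜 hY h𝔐 k
  let a := ((FSch.levelMor 𝔜 hY.1 k).adj.homEquiv _ _).symm (FSch.realProj 𝔜 hY.1 𝔐.F 𝔐.toPush k)
  let e : ((FSch.ModSys.pullback φ 𝔐).F k ⟶ T) ≃
      ((FSch.levelMor 𝔛 h k).pull.obj ((FSch.pullF φ h hY.1).obj (𝔐.realMod hY.1)) ⟶ T) :=
    ((ModSite.RMor.ofScheme (fL φ k)).adj.homEquiv (𝔐.F k) T).trans
      ((asIso a).symm.homFromEquiv.trans
        (((FSch.levelMor 𝔜 hY.1 k).adj.homEquiv _ _).trans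
          (((FSch.lvPushSq φ h hY.1 k).symm.app T).homToEquiv.trans
            (((FSch.homMor φ h hY.1).adj.homEquiv _ _).symm.trans ((FSch.levelMor 𝔛 h k).adj.homEquiv _ T).symm))))
  refine (show ⇑e = (fun x => ((FSch.levelMor 𝔛 h k).adj.homEquiv _ _).symm (pullC φ h hY.1 𝔐 k) ≫ x) from
    funext fun g => ?_) ▸ e.bijective
  rw [← Adjunction.homEquiv_naturality_right_symm]
  refine congrArg ((FSch.levelMor 𝔛 h k).adj.homEquiv _ T).symm ?_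
  rw [pullC, ← Adjunction.homEquiv_naturality_right_symm]
  refine congrArg ((FSch.homMor φ h hY.1).adj.homEquiv _ _).symm ?_
  show (FSch.levelMor 𝔜 hY.1 k).adj.homEquiv _ _ (a ≫ (ModSite.RMor.ofScheme (fL φ k)).adj.homEquiv _ _ g) ≫
    (FSch.lvPushSq φ h hY.1 k).inv.app T = _
  rw [Adjunction.homEquiv_naturality_right, Equiv.apply_symm_apply, Adjunction.homEquiv_unit, Functor.map_comp,
    Category.assoc, Category.assoc, Category.assoc, Category.assoc]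
  exact congrArg (fun t => _ ≫ _ ≫ t) ((FSch.lvPushSq φ h hY.1 k).inv.naturality g)

theorem isCohF_pullF (𝔊 : FSch.ModF 𝔜 hY.1) (h𝔊 : FSch.IsCohF 𝔜 hY.1 𝔊) :
    FSch.IsCohF 𝔛 hX.1 ((FSch.pullF φ hX.1 hY.1).obj 𝔊) := by
  haveI : SheafOfModules.IsFinitePresentation (R := ModSite.ringSh (𝔜.Osh hY.1)) 𝔊 := h𝔊
  exact isFinitePresentation_pullback (R := ModSite.ringSh (𝔛.Osh hX.1)) (S := ModSite.ringSh (𝔜.Osh hY.1))
    (fL φ 0).base (FSch.homMor φ hX.1 hY.1).sharpR 𝔊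

include h𝔐 in
/-- The inverse image of the module of a coherent system is the module of the inverse image system. -/
theorem exists_pullF_iso_realMod :
    ∃ e : (FSch.pullF φ hX.1 hY.1).obj (𝔐.realMod hY.1) ≅ (FSch.ModSys.pullback φ 𝔐).realMod hX.1,
      ∀ k : ℕ, (FSch.homMor φ hX.1 hY.1).adj.homEquiv _ _ e.hom ≫
          (FSch.pushF φ hX.1 hY.1).map (FSch.realProj 𝔛 hX.1 _ _ k) ≫
          (FSch.lvPushSq φ hX.1 hY.1 k).hom.app ((FSch.ModSys.pullback φ 𝔐).F k) =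
        FSch.realProj 𝔜 hY.1 _ _ k ≫
          (FSch.levelMor 𝔜 hY.1 k).push.map
            ((ModSite.RMor.ofScheme ((φ : FSch.Hom 𝔛 𝔜).app k)).adj.unit.app (𝔐.F k)) := by
  haveI := isIso_liftReal 𝔛 hX _ (isCohF_pullF φ hX hY _ (isCohF_realMod 𝔜 hY h𝔐)) (FSch.ModSys.pullback φ 𝔐)
    (pullC φ hX.1 hY.1 𝔐) (pullC_comp φ hX.1 hY.1 𝔐) (isIso_pullC φ hX.1 𝔐 hY h𝔐)
  refine ⟨asIso (liftReal 𝔛 hX _ (FSch.ModSys.pullback φ 𝔐) (pullC φ hX.1 hY.1 𝔐) (pullC_comp φ hX.1 hY.1 𝔐)),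
    fun k => ?_⟩
  refine (Category.assoc _ _ _).symm.trans ?_
  refine (congrArg (· ≫ _) (Adjunction.homEquiv_naturality_right _ _ _).symm).trans ?_
  refine (congrArg (· ≫ _) (congrArg ((FSch.homMor φ hX.1 hY.1).adj.homEquiv _ _)
    (liftReal_proj 𝔛 hX _ (FSch.ModSys.pullback φ 𝔐) (pullC φ hX.1 hY.1 𝔐) (pullC_comp φ hX.1 hY.1 𝔐) k))).trans ?_
  refine (congrArg (· ≫ _) (Equiv.apply_symm_apply _ _)).trans ?_
  rw [Category.assoc, Category.assoc, Iso.inv_hom_id_app]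
  exact congrArg _ (Category.comp_id _)

end Groth.L17.FSheaf
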