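import Groth.Agent.L17.FSheaf.RpushCoh

/-!
# Coherence of the direct image of the structure sheaf under a proper morphism of formal schemes
-/

set_option autoImplicit false
set_option linter.style.haveILetI false
set_option linter.unusedSectionVars false
set_option backward.isDefEq.respectTransparency false
set_option backward.isDefEq.respectTransparency.types false

universe u

open CategoryTheory CategoryTheory.Limits AlgebraicGeometry TopologicalSpace Opposite

noncomputable section

namespace Groth.L17.FSheaf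

theorem isFinitePresentation_unit {X : TopCat.{u}} (O : Sheaf (Opens.grothendieckTopology X) CommRingCat.{u}) :
    SheafOfModules.IsFinitePresentation (R := ModSite.ringSh O) (ModSite.unit O) := by
  refine isFinitePresentation_of_local (R := ModSite.ringSh O) (B := Set.univ)
    (Opens.isBasis_iff_nbhd.2 fun {U x} hx => ⟨U, trivial, hx, le_rfl⟩) _ fun x => ?_
  refine ⟨⊤, trivial, 1, 0, fun _ => (show (ModSite.unit O).val.obj (op ⊤) from (1 : O.obj.obj (op ⊤))),
    fun j => j.elim0, fun V _ h => ?_, fun j => j.elim0, fun V _ h a ha => ?_⟩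
  · refine eq_top_iff.2 fun y _ => ?_
    have e : res (R := ModSite.ringSh O) (ModSite.unit O) h (1 : O.obj.obj (op ⊤)) = (1 : O.obj.obj (op V)) :=
      map_one (O.obj.map (homOfLE h).op).hom
    rw [show y = (show O.obj.obj (op V) from y) • res (R := ModSite.ringSh O) (ModSite.unit O) h
      (1 : O.obj.obj (op ⊤)) by rw [e]; exact (mul_one (show O.obj.obj (op V) from y)).symm]
    exact Submodule.smul_mem _ _ (Submodule.subset_span ⟨0, rfl⟩)
  · refine ⟨fun j => j.elim0, fun i => ?_⟩
    rw [Fin.sum_univ_one] at ha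
    rw [Finset.univ_eq_empty, Finset.sum_empty, Subsingleton.elim i 0, ← ha]
    exact ((congrArg (a 0 * ·) (map_one (O.obj.map (homOfLE h).op).hom)).trans (mul_one _)).symm

theorem hasInjectiveResolutions_modF (𝔛 : FSch.Sys.{u}) (h : 𝔛.IsFormal) :
    HasInjectiveResolutions (FSch.ModF 𝔛 h) :=
  inferInstance

theorem isCohF_pushF_unitF {𝔛 𝔜 : FSch.Sys.{u}} (hX : 𝔛.IsLocNoethFormal) (hY : 𝔜.IsLocNoethFormal) (f : 𝔛 ⟶ 𝔜)
    (hf : FSch.IsProperHom f) : FSch.IsCohF 𝔜 hY.1 ((FSch.pushF f hX.1 hY.1).obj (FSch.unitF 𝔛 hX.1)) := by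
  haveI := hasInjectiveResolutions_modF 𝔛 hX.1
  haveI : PreservesFiniteLimits (FSch.pushF f hX.1 hY.1) := inferInstance
  haveI : SheafOfModules.IsFinitePresentation (R := ModSite.ringSh (𝔜.Osh hY.1))
      ((RpushF.RQ hX hY f 0).obj (FSch.unitF 𝔛 hX.1)) :=
    RpushF.isCohF_rpushF hX hY f _ (isFinitePresentation_unit (𝔛.Osh hX.1)) hf 0
  exact (SheafOfModules.isFinitePresentation.{u} (R := ModSite.ringSh (𝔜.Osh hY.1))).prop_of_iso
    ((FSch.pushF f hX.1 hY.1).rightDerivedZeroIsoSelf.app (FSch.unitF 𝔛 hX.1)) this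

end Groth.L17.FSheaf
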