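import Groth.Agent.L17.FSheaf.CohCat
import Groth.Agent.L17.ThickSys
import Groth.Agent.L22.Ideal
import Groth.Prelude.Def_DerComp

/-!
# Adic formal schemes over an adic ring: scalars and the ideal of definition
-/

set_option autoImplicit false
set_option linter.style.haveILetI false
set_option linter.unusedSectionVars false
set_option backward.isDefEq.respectTransparency false
set_option backward.isDefEq.respectTransparency.types false

universe u

open CategoryTheory CategoryTheory.Limits AlgebraicGeometry TopologicalSpace Opposite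

noncomputable section

namespace Groth.L17.FSheaf.AdicBase

open Groth.L17.FSheaf

variable {A : Type u} [CommRing A] {I : Ideal A} {𝔛 : FSch.Sys.{u}} (f : 𝔛 ⟶ FSch.spf A I)

/-- The morphisms of the levels to the base. -/
def pA (k : ℕ) : 𝔛.X k ⟶ Spec (CommRingCat.of A) :=
  ((f : FSch.Hom 𝔛 (FSch.spf A I)).app k) ≫ FSch.spfToSpec A I k

theorem pA_comm (k : ℕ) : 𝔛.ι k ≫ pA f (k + 1) = pA f k := by
  rw [pA, pA, ← Category.assoc, ← (f : FSch.Hom 𝔛 (FSch.spf A I)).comm k, Category.assoc, FSch.spfToSpec_comm]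

variable (h : 𝔛.IsFormal)

/-- The scalars as global sections of `O_𝔛`. -/
def ΓA : A →+* O 𝔛 h ⊤ :=
  (((FSch.schSharp 𝔛 h (pA f) (pA_comm f)).hom.app (op ⊤)).hom).comp
    (Scheme.ΓSpecIso (CommRingCat.of A)).inv.hom

/-- The scalars as sections over an open. -/
def ΓU (U : (𝔛.X 0).Opens) : A →+* O 𝔛 h U := (resO 𝔛 h (le_top : U ≤ ⊤)).comp (ΓA f h)

theorem resO_ΓU {U V : (𝔛.X 0).Opens} (hVU : V ≤ U) (a : A) : resO 𝔛 h hVU (ΓU f h U a) = ΓU f h V a := by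
  show ((𝔛.Osh h).obj.map (homOfLE hVU).op).hom (((𝔛.Osh h).obj.map (homOfLE le_top).op).hom (ΓA f h a)) =
    ((𝔛.Osh h).obj.map (homOfLE le_top).op).hom (ΓA f h a)
  rw [← CommRingCat.comp_apply, ← Functor.map_comp]
  rfl

/-- The scalars as global sections. -/
def gs : A →+* DerComp.GSec (𝔛.Osh h) where
  toFun a := ⟨fun U => ΓU f h U a, fun U V g => by
    show resO 𝔛 h (leOfHom g) (ΓU f h U a) = ΓU f h V a
    exact resO_ΓU f h _ a⟩
  map_one' := Subtype.ext (funext fun U => map_one (ΓU f h U))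
  map_mul' a b := Subtype.ext (funext fun U => map_mul (ΓU f h U) a b)
  map_zero' := Subtype.ext (funext fun U => map_zero (ΓU f h U))
  map_add' a b := Subtype.ext (funext fun U => map_add (ΓU f h U) a b)

theorem gs_apply (a : A) (U : (𝔛.X 0).Opens) : (gs f h a).1 U = ΓU f h U a := rfl

theorem pR_ΓU (k : ℕ) (U : (𝔛.X 0).Opens) (a : A) :
    pR 𝔛 h k U (ΓU f h U a) =
      ((pA f k).appLE ⊤ (𝔛.lvU h k U) le_top).hom ((Scheme.ΓSpecIso (CommRingCat.of A)).inv a) := by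
  refine (pR_resO 𝔛 h le_top k (ΓA f h a)).trans ?_
  have h1 := ConcreteCategory.congr_hom (congrArg (fun t => t.hom.app (op (⊤ : (Spec (CommRingCat.of A)).Opens)))
    (FSch.schSharp_proj 𝔛 h (pA f) (pA_comm f) k)) ((Scheme.ΓSpecIso (CommRingCat.of A)).inv a)
  refine (congrArg ((𝔛.X k).presheaf.map (homOfLE (lvU_mono 𝔛 h k (le_top : U ≤ ⊤))).op) h1).trans ?_
  show ((pA f k).appLE ⊤ (𝔛.lvU h k (pA f 0 ⁻¹ᵁ ⊤)) _ ≫ (𝔛.X k).presheaf.map _) _ = _
  rw [Scheme.Hom.appLE_map]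

theorem specMap_appLE {R S : CommRingCat.{u}} (φ : R ⟶ S) (x : R) :
    (Spec.map φ).appLE ⊤ ⊤ le_top ((Scheme.ΓSpecIso R).inv x) = (Scheme.ΓSpecIso S).inv (φ x) := by
  have h : (Spec.map φ).appLE ⊤ ⊤ le_top = (Spec.map φ).appTop := by
    rw [Scheme.Hom.appTop, Scheme.Hom.app_eq_appLE]
    rfl
  rw [h]
  exact (ConcreteCategory.congr_hom (Scheme.ΓSpecIso_inv_naturality φ) x).symm

theorem specMap_ker_ideal {R S : CommRingCat.{u}} (φ : R ⟶ S) (hφ : Function.Surjective φ.hom) :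
    (Spec.map φ).ker.ideal ⟨⊤, isAffineOpen_top _⟩ = (RingHom.ker φ.hom).map (Scheme.ΓSpecIso R).inv.hom := by
  haveI : IsClosedImmersion (Spec.map φ) := IsClosedImmersion.spec_of_surjective _ hφ
  rw [Scheme.Hom.ker_apply]
  have hR : Function.Bijective (Scheme.ΓSpecIso R).inv.hom :=
    (Scheme.ΓSpecIso R).symm.commRingCatIsoToRingEquiv.bijective
  have hS : Function.Injective (Scheme.ΓSpecIso S).inv.hom :=
    (Scheme.ΓSpecIso S).symm.commRingCatIsoToRingEquiv.injective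
  have e : ∀ y, (Spec.map φ).appTop ((Scheme.ΓSpecIso R).inv y) = (Scheme.ΓSpecIso S).inv (φ y) := fun y =>
    (ConcreteCategory.congr_hom (Scheme.ΓSpecIso_inv_naturality φ) y).symm
  change RingHom.ker (Spec.map φ).appTop.hom = _
  ext x
  obtain ⟨y, rfl⟩ := hR.2 x
  rw [RingHom.mem_ker, e, map_eq_zero_iff _ hS, Ideal.mem_map_iff_of_surjective _ hR.2]
  exact ⟨fun h => ⟨y, h, rfl⟩, fun ⟨z, hz, hzy⟩ => hR.1 hzy ▸ hz⟩

theorem ker_factor {R : Type u} [CommRing R] {S T : Ideal R} (h : S ≤ T) :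
    RingHom.ker (Ideal.Quotient.factor h) = T.map (Ideal.Quotient.mk S) := by
  ext x
  obtain ⟨a, rfl⟩ := Ideal.Quotient.mk_surjective x
  rw [RingHom.mem_ker, Ideal.Quotient.factor_mk, Ideal.Quotient.eq_zero_iff_mem,
    Ideal.mem_quotient_iff_mem h]

variable (hX : 𝔛.IsLocNoethFormal) [IsNoetherianRing A]

theorem idealTop_spfι :
    (((FSch.spf A I).ι 0).ker).ideal
        ⟨⊤, isAffineOpen_top (Spec (CommRingCat.of (A ⧸ I ^ (1 + 1))))⟩ =
      (I.map (Ideal.Quotient.mk (I ^ (1 + 1)))).map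
        (Scheme.ΓSpecIso (CommRingCat.of (A ⧸ I ^ (1 + 1)))).inv.hom := by
  have key : ∀ (S T : Ideal A) (h : S ≤ T),
      (Spec.map (CommRingCat.ofHom (Ideal.Quotient.factor h))).ker.ideal
          ⟨⊤, isAffineOpen_top (Spec (CommRingCat.of (A ⧸ S)))⟩ =
        (T.map (Ideal.Quotient.mk S)).map (Scheme.ΓSpecIso (CommRingCat.of (A ⧸ S))).inv.hom := fun S T h => by
    rw [specMap_ker_ideal (CommRingCat.ofHom (Ideal.Quotient.factor h)) (Ideal.Quotient.factor_surjective h),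
      CommRingCat.hom_ofHom, ker_factor]
  have h2 := key (I ^ (1 + 1)) (I ^ (0 + 1)) (Ideal.pow_le_pow_right (Nat.le_succ (0 + 1)))
  have h3 : (I ^ (0 + 1)).map (Ideal.Quotient.mk (I ^ (1 + 1))) = I.map (Ideal.Quotient.mk (I ^ (1 + 1))) := by
    rw [zero_add, pow_one]
  exact h2.trans (congrArg (Ideal.map _) h3)

variable (hf : FSch.IsAdicHom f)

include hf in
/-- The ideal of definition is generated by the ideal of the base. -/
theorem J_eq {U : (𝔛.X 0).Opens} (hU : IsAffineOpen U) : J 𝔛 hX.1 U = I.map (ΓU f hX.1 U) := by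
  haveI := (O_spec 𝔛 hX hU).1
  haveI := (O_spec 𝔛 hX hU).2.1
  haveI := (hX.1 0).1
  haveI : IsClosedImmersion ((FSch.spf A I).ι 0) :=
    IsClosedImmersion.spec_of_surjective _
      (Ideal.Quotient.factor_surjective (Ideal.pow_le_pow_right (Nat.le_succ (0 + 1))))
  have hV := isAffineOpen_lvU 𝔛 hX.1 hU (0 + 1)
  let g := (f : FSch.Hom 𝔛 (FSch.spf A I)).app 1
  -- the kernel on the first level
  have hker : RingHom.ker (tR 𝔛 hX.1 0 U) =
      (I.map (ΓU f hX.1 U)).map (pR 𝔛 hX.1 (0 + 1) U) := by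
    rw [ker_appLE (𝔛.ι 0) (𝔛.lvU_succ hX.1 0 U).symm, ← Scheme.Hom.ker_apply (𝔛.ι 0) ⟨_, hV⟩,
      Groth.L17.Thick.ker_of_isPullback (hf 0),
      Groth.L22.Ideals.comap_ideal g _ ⟨⊤, isAffineOpen_top (Spec (CommRingCat.of (A ⧸ I ^ (1 + 1))))⟩ ⟨_, hV⟩ le_top, idealTop_spfι,
      Ideal.map_map, Ideal.map_map, Ideal.map_map]
    refine congrArg (Ideal.map · I) (RingHom.ext fun a => ?_)
    refine Eq.trans ?_ (pR_ΓU f hX.1 (0 + 1) U a).symm
    have h2 := ConcreteCategory.congr_hom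
      (FSch.appLE_comp_appLE_of_eq g (FSch.spfToSpec A I 1) (pA f 1) rfl ⊤ ⊤ (𝔛.lvU hX.1 (0 + 1) U)
        le_top le_top le_top) ((Scheme.ΓSpecIso (CommRingCat.of A)).inv a)
    refine Eq.trans ?_ h2
    show g.appLE ⊤ _ le_top ((Scheme.ΓSpecIso (CommRingCat.of (A ⧸ I ^ (1 + 1)))).inv (Ideal.Quotient.mk _ a)) =
      g.appLE ⊤ _ le_top ((Spec.map (CommRingCat.ofHom (Ideal.Quotient.mk (I ^ (1 + 1))))).appLE ⊤ ⊤ le_top
        ((Scheme.ΓSpecIso (CommRingCat.of A)).inv a))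
    exact congrArg _ (specMap_appLE (R := CommRingCat.of A) (S := CommRingCat.of (A ⧸ I ^ (1 + 1)))
      (CommRingCat.ofHom (Ideal.Quotient.mk (I ^ (1 + 1)))) a).symm
  -- the scalars of the ideal vanish on the smallest level
  have h0 : I.map (ΓU f hX.1 U) ≤ J 𝔛 hX.1 U := by
    intro x hx
    rw [J, RingHom.mem_ker, ← tR_pR 𝔛 hX.1 0 U x]
    exact RingHom.mem_ker.1 (hker.ge (Ideal.mem_map_of_mem _ hx))
  refine le_antisymm ?_ h0
  have hle : J 𝔛 hX.1 U ≤ I.map (ΓU f hX.1 U) ⊔ J 𝔛 hX.1 U • J 𝔛 hX.1 U := by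
    intro x hx
    have h1 : pR 𝔛 hX.1 (0 + 1) U x ∈ (I.map (ΓU f hX.1 U)).map (pR 𝔛 hX.1 (0 + 1) U) := by
      rw [← hker, RingHom.mem_ker, tR_pR]
      exact hx
    obtain ⟨y, hy, hxy⟩ :=
      (Ideal.mem_map_iff_of_surjective _ (pR_surjective 𝔛 hX.1 hU (0 + 1))).1 h1
    refine Submodule.mem_sup.2 ⟨y, hy, x - y, ?_, add_sub_cancel _ _⟩
    have h2 : x - y ∈ J 𝔛 hX.1 U ^ (1 + 1) := by
      rw [← (O_spec 𝔛 hX hU).2.2 1, RingHom.mem_ker, map_sub, sub_eq_zero]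
      exact hxy.symm
    rwa [pow_two] at h2
  exact Submodule.le_of_le_smul_of_le_jacobson_bot (IsNoetherian.noetherian _)
    (IsAdicComplete.le_jacobson_bot _) hle

end Groth.L17.FSheaf.AdicBase
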