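import Mathlib.RingTheory.IsTensorProduct
import Mathlib.RingTheory.AdicCompletion.Basic
import Mathlib.RingTheory.Filtration
import Mathlib.RingTheory.Nakayama
import Mathlib.RingTheory.Finiteness.Basic
import Mathlib.RingTheory.Noetherian.Basic
import Mathlib.LinearAlgebra.Quotient.Basic
import Mathlib.Algebra.Module.Torsion.Basic

/-!
# Algebra for sections of formal modules
-/

set_option autoImplicit false
set_option linter.style.haveILetI false

universe u

open TensorProduct Submodule

noncomputable section

namespace Groth.L17.FSheaf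

section BaseChange

variable {R S : Type u} [CommRing R] [CommRing S] [Algebra R S] {M N : Type u} [AddCommGroup M] [Module R M]
  [AddCommGroup N] [Module R N] [Module S N] [IsScalarTower R S N] (g : M →ₗ[R] N) (hg : IsBaseChange S g)

include hg in
theorem span_range_of_baseChange {n : ℕ} (m : Fin n → M) (hm : span R (Set.range m) = ⊤) :
    span S (Set.range fun i => g (m i)) = ⊤ := by
  refine eq_top_iff.2 fun x _ => ?_
  clear * - hg hm
  induction x using hg.inductionOn with
  | zero => exact zero_mem _
  | tmul y =>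
    have hy : y ∈ span R (Set.range m) := hm ▸ mem_top
    obtain ⟨c, rfl⟩ := (mem_span_range_iff_exists_fun R).1 hy
    rw [map_sum]
    refine sum_mem fun i _ => ?_
    rw [map_smul, ← algebraMap_smul S (c i) (g (m i))]
    exact smul_mem _ _ (subset_span ⟨i, rfl⟩)
  | smul s y h => exact smul_mem _ _ h
  | add a b ha hb => exact add_mem ha hb

include hg in
/-- Relations of a base change. -/
theorem rel_of_baseChange {n k : ℕ} (m : Fin n → M) (hm : span R (Set.range m) = ⊤) (r : Fin k → Fin n → R)
    (hrel : ∀ c : Fin n → R, ∑ i, c i • m i = 0 → ∃ d : Fin k → R, ∀ i, c i = ∑ j, d j * r j i)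
    (hr : ∀ j, ∑ i, r j i • m i = 0) (a : Fin n → S) (ha : ∑ i, a i • g (m i) = 0) :
    ∃ d : Fin k → S, ∀ i, a i = ∑ j, d j * algebraMap R S (r j i) := by
  classical
  let P : Submodule S (Fin n → S) := span S (Set.range fun j => fun i => algebraMap R S (r j i))
  let φ : (Fin n → R) →ₗ[R] ((Fin n → S) ⧸ P) :=
    (P.mkQ.restrictScalars R).comp (LinearMap.pi fun i => (Algebra.linearMap R S).comp (LinearMap.proj i))
  let π : (Fin n → R) →ₗ[R] M := Fintype.linearCombination R m
  have hπ : Function.Surjective π := by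
    rw [← LinearMap.range_eq_top, Fintype.range_linearCombination, hm]
  have hker : LinearMap.ker π ≤ LinearMap.ker φ := fun c hc => by
    obtain ⟨d, hd⟩ := hrel c hc
    refine LinearMap.mem_ker.2 ((Submodule.Quotient.mk_eq_zero P).2 ?_)
    have : (fun i => algebraMap R S (c i)) = ∑ j, algebraMap R S (d j) • fun i => algebraMap R S (r j i) := by
      funext i
      simp [hd i, Algebra.smul_def]
    show (fun i => algebraMap R S (c i)) ∈ P
    rw [this]
    exact sum_mem fun j _ => smul_mem _ _ (subset_span ⟨j, rfl⟩)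
  let ψ₀ : M →ₗ[R] ((Fin n → S) ⧸ P) :=
    (Submodule.liftQ (LinearMap.ker π) φ hker).comp (π.quotKerEquivOfSurjective hπ).symm.toLinearMap
  have hψ₀ : ∀ c, ψ₀ (π c) = φ c := fun c => by
    show Submodule.liftQ _ φ hker ((π.quotKerEquivOfSurjective hπ).symm (π c)) = _
    rw [(LinearEquiv.symm_apply_eq _).2 (show π c = π.quotKerEquivOfSurjective hπ (Submodule.Quotient.mk c) from rfl)]
    rfl
  let ψ : N →ₗ[S] ((Fin n → S) ⧸ P) := hg.lift ψ₀
  have hψ : ∀ i, ψ (g (m i)) = P.mkQ (Pi.single i 1) := fun i => by
    rw [hg.lift_eq, show m i = π (Pi.single i 1) from (Fintype.linearCombination_apply_single R m i 1).trans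
      (one_smul _ _) |>.symm, hψ₀]
    refine congrArg P.mkQ (funext fun l => ?_)
    show algebraMap R S ((Pi.single i 1 : Fin n → R) l) = (Pi.single i 1 : Fin n → S) l
    rcases eq_or_ne l i with rfl | h
    · simp
    · simp [Pi.single_eq_of_ne h]
  have h1 : P.mkQ a = 0 := by
    rw [show a = ∑ i, a i • (Pi.single i 1 : Fin n → S) from (by funext l; simp [Pi.single_apply]), map_sum]
    simp only [map_smul, ← hψ]
    simp only [← map_smul]
    rw [← map_sum, ha, map_zero]
  obtain ⟨d, hd⟩ := (mem_span_range_iff_exists_fun S).1 ((Submodule.Quotient.mk_eq_zero P).1 h1)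
  exact ⟨d, fun i => by simp [← hd]⟩

include hg in
/-- Base change along a surjection. -/
theorem surjective_of_baseChange (hS : Function.Surjective (algebraMap R S)) :
    Function.Surjective g ∧ LinearMap.ker g = RingHom.ker (algebraMap R S) • (⊤ : Submodule R M) := by
  refine ⟨fun x => ?_, ?_⟩
  · induction x using hg.inductionOn with
    | zero => exact ⟨0, map_zero g⟩
    | tmul y => exact ⟨y, rfl⟩
    | smul s y h =>
      obtain ⟨r, rfl⟩ := hS s
      obtain ⟨z, rfl⟩ := h
      exact ⟨r • z, by rw [map_smul, algebraMap_smul]⟩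
    | add a b ha hb =>
      obtain ⟨y, rfl⟩ := ha
      obtain ⟨z, rfl⟩ := hb
      exact ⟨y + z, map_add g y z⟩
  · refine le_antisymm (fun x hx => ?_) (smul_le.2 fun r hr y _ => LinearMap.mem_ker.2 ?_)
    · let Q := M ⧸ (RingHom.ker (algebraMap R S) • (⊤ : Submodule R M))
      have hQ : Module.IsTorsionBySet R Q (RingHom.ker (algebraMap R S) : Set R) :=
        Module.isTorsionBySet_quotient_ideal_smul M _
      letI : Module (R ⧸ RingHom.ker (algebraMap R S)) Q := hQ.module
      let e := RingHom.quotientKerEquivOfSurjective hS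
      letI : Module S Q := Module.compHom Q e.symm.toRingHom
      haveI : IsScalarTower R S Q := IsScalarTower.of_algebraMap_smul fun r q => by
        show e.symm (algebraMap R S r) • q = r • q
        rw [show e.symm (algebraMap R S r) = Ideal.Quotient.mk _ r from
          e.symm_apply_eq.2 rfl]
        exact hQ.mk_smul r q
      have := hg.lift_eq ((RingHom.ker (algebraMap R S) • (⊤ : Submodule R M)).mkQ) x
      rw [LinearMap.mem_ker.1 hx, map_zero] at this
      exact (Submodule.Quotient.mk_eq_zero _).1 this.symm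
    · rw [map_smul, ← algebraMap_smul S r (g y), RingHom.mem_ker.1 hr, zero_smul]

end BaseChange

section Complete

variable {R : Type u} [CommRing R] [IsNoetherianRing R] (J : Ideal R) [IsAdicComplete J R]
  {M : Type u} [AddCommGroup M] [Module R M] [Module.Finite R M]

/-- Submodules of finite modules are closed. -/
theorem mem_of_forall_mem_sup (N : Submodule R M) {x : M} (hx : ∀ k, x ∈ N ⊔ J ^ k • (⊤ : Submodule R M)) :
    x ∈ N := by
  have hJ : J ≤ Ideal.jacobson ⊥ := IsAdicComplete.le_jacobson_bot J
  have hs : ⨅ k : ℕ, J ^ k • (⊤ : Submodule R (M ⧸ N)) = ⊥ := Ideal.iInf_pow_smul_eq_bot_of_le_jacobson J hJ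
  rw [← Submodule.Quotient.mk_eq_zero N, ← mem_bot R, ← hs, mem_iInf]
  intro k
  obtain ⟨a, ha, b, hb, rfl⟩ := mem_sup.1 (hx k)
  rw [show (Submodule.Quotient.mk (a + b) : M ⧸ N) = N.mkQ b by
    rw [Submodule.Quotient.mk_add, (Submodule.Quotient.mk_eq_zero N).2 ha, zero_add]; rfl]
  have := mem_map_of_mem (f := N.mkQ) hb
  rw [map_smul'', Submodule.map_top, Submodule.range_mkQ] at this
  exact this

/-- Generation can be checked modulo the ideal. -/
theorem eq_top_of_sup (N : Submodule R M) (h : N ⊔ J • (⊤ : Submodule R M) = ⊤) : N = ⊤ := by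
  refine top_le_iff.1 (le_of_le_smul_of_le_jacobson_bot (Module.Finite.fg_top) (IsAdicComplete.le_jacobson_bot J) ?_)
  exact h.ge

end Complete

section Semilinear

variable {R S : Type u} [CommRing R] [CommRing S] (p : R →+* S) (hp : Function.Surjective p)
  {M : Type u} [AddCommGroup M] [Module R M] [Module S M] (hM : ∀ (r : R) (x : M), r • x = p r • x)

include hp hM in
theorem mem_map_smul_top_iff (I : Ideal R) (x : M) :
    x ∈ I • (⊤ : Submodule R M) ↔ x ∈ I.map p • (⊤ : Submodule S M) := by
  constructor
  · intro h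
    refine smul_induction_on h (fun a ha y _ => ?_) fun a b ha hb => add_mem ha hb
    rw [hM]
    exact smul_mem_smul (Ideal.mem_map_of_mem p ha) mem_top
  · intro h
    refine smul_induction_on h (fun a ha y _ => ?_) fun a b ha hb => add_mem ha hb
    obtain ⟨r, hr, rfl⟩ := (Ideal.mem_map_iff_of_surjective p hp).1 ha
    rw [← hM]
    exact smul_mem_smul hr mem_top

end Semilinear

end Groth.L17.FSheaf
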