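import Groth.Agent.L17.FSheaf.CohCat
import Groth.Agent.L17.FSheaf.CompSect
import Groth.Agent.L17.ProperOver
import Groth.Agent.L16.CohSupport
import Groth.Agent.L19.SupportPullback
import Groth.Agent.L21.Mod.Locality
import Groth.Prelude.Def_ClSub2

/-!
# Coherent formal modules with proper support
-/

set_option autoImplicit false
set_option linter.style.haveILetI false
set_option linter.unusedSectionVars false
set_option backward.isDefEq.respectTransparency false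
set_option backward.isDefEq.respectTransparency.types false

universe u

open CategoryTheory CategoryTheory.Limits AlgebraicGeometry TopologicalSpace Opposite

noncomputable section

namespace Groth.L17.FSheaf

open Groth.L18.Frame (rs pull rs_rs)

variable (𝔛 : FSch.Sys.{u}) (hX : 𝔛.IsLocNoethFormal)

/-- No sections on the affine opens near a point. -/
def VanishNear (𝔉 : FSch.ModF 𝔛 hX.1) (x : 𝔛.X 0) : Prop :=
  ∃ U : (𝔛.X 0).Opens, x ∈ U ∧ ∀ V ≤ U, IsAffineOpen V → Subsingleton (SF 𝔛 hX.1 𝔉 V)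

variable {𝔛 hX} {x : 𝔛.X 0}

theorem VanishNear.of_mono {K F : FSch.ModF 𝔛 hX.1} (i : K ⟶ F) [Mono i] (hF : VanishNear 𝔛 hX F x) :
    VanishNear 𝔛 hX K x := by
  obtain ⟨U, hx, hU⟩ := hF
  refine ⟨U, hx, fun V hV hVa => ?_⟩
  haveI := hU V hV hVa
  have hinj : Function.Injective (i.val.app (op V)).hom := by
    haveI : (SheafOfModules.forget.{u} (ModSite.ringSh (𝔛.Osh hX.1))).PreservesMonomorphisms := inferInstance
    let G : FSch.ModF 𝔛 hX.1 ⥤ _ := SheafOfModules.evaluation.{u} (ModSite.ringSh (𝔛.Osh hX.1)) (op V)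
    haveI : Mono (G.map i) := inferInstance
    exact (ModuleCat.mono_iff_injective (G.map i)).1 inferInstance
  exact hinj.subsingleton

theorem VanishNear.of_iso {K F : FSch.ModF 𝔛 hX.1} (e : K ≅ F) (hF : VanishNear 𝔛 hX F x) :
    VanishNear 𝔛 hX K x := hF.of_mono e.hom

theorem VanishNear.of_epi {F Q : FSch.ModF 𝔛 hX.1} (hF' : FSch.IsCohF 𝔛 hX.1 F) (hQ : FSch.IsCohF 𝔛 hX.1 Q)
    (q : F ⟶ Q) [Epi q] (hF : VanishNear 𝔛 hX F x) : VanishNear 𝔛 hX Q x := by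
  obtain ⟨U, hx, hU⟩ := hF
  refine ⟨U, hx, fun V hV hVa => ?_⟩
  haveI := hU V hV hVa
  exact (surjective_of_epi 𝔛 hX hF' hQ q hVa).subsingleton

theorem VanishNear.of_kernel {F G : FSch.ModF 𝔛 hX.1} (u : F ⟶ G) (hK : VanishNear 𝔛 hX (kernel u) x)
    (hG : VanishNear 𝔛 hX G x) : VanishNear 𝔛 hX F x := by
  obtain ⟨U, hx, hU⟩ := hK
  obtain ⟨U', hx', hU'⟩ := hG
  refine ⟨U ⊓ U', ⟨hx, hx'⟩, fun V hV hVa => ?_⟩
  haveI := hU V (hV.trans inf_le_left) hVa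
  haveI := hU' V (hV.trans inf_le_right) hVa
  refine subsingleton_of_forall_eq 0 fun z => ?_
  obtain ⟨k, rfl⟩ := (exists_kernel_sect u (op V)).1 z
    ((‹Subsingleton (SF 𝔛 hX.1 G V)›).elim _ _)
  rw [(‹Subsingleton (SF 𝔛 hX.1 (kernel u) V)›).elim k 0, map_zero]

variable (𝔛) in
/-- The sections of a module without stalks on an open vanish. -/
theorem subsingleton_sections_of_support {k : ℕ} (M : (𝔛.X k).Modules) {W : (𝔛.X k).Opens}
    (hW : ∀ y ∈ W, y ∉ CohB1.support M) : Subsingleton Γ(M, W) := by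
  refine ⟨fun a b => TopCat.Presheaf.section_ext (⟨M.presheaf, M.isSheaf⟩ : TopCat.Sheaf Ab.{u} (𝔛.X k)) W a b
    fun y hy => ?_⟩
  exact (not_not.1 (show ¬¬ Subsingleton (M.presheaf.stalk y) from hW y hy)).elim _ _

theorem vanishNear_realMod (𝔐 : FSch.ModSys 𝔛) {U : (𝔛.X 0).Opens} (hx : x ∈ U)
    (hU : ∀ k, ∀ y ∈ 𝔛.lvU hX.1 k U, y ∉ CohB1.support (𝔐.F k)) :
    VanishNear 𝔛 hX (𝔐.realMod hX.1) x := by
  refine ⟨U, hx, fun V hV _ => ⟨fun a b => qM_ext 𝔛 hX.1 𝔐 fun k => ?_⟩⟩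
  exact (subsingleton_sections_of_support 𝔛 (𝔐.F k) fun y hy => hU k y (lvU_mono 𝔛 hX.1 k hV hy)).elim _ _

theorem notMem_support_of_vanishNear (𝔐 : FSch.ModSys 𝔛) (h𝔐 : 𝔐.IsCoh)
    (hV : VanishNear 𝔛 hX (𝔐.realMod hX.1) x) : x ∉ CohB1.support (𝔐.F 0) := by
  obtain ⟨U, hx, hU⟩ := hV
  have hl : ∀ W : (𝔛.X 0).Opens, 𝔛.lvU hX.1 0 W = W := fun W => lvU_toX 𝔛 hX.1 0 W
  refine fun h => h ⟨fun a b => ?_⟩
  have hz : ∀ c : (𝔐.F 0).presheaf.stalk x, c = 0 := by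
    intro c
    obtain ⟨W, hxW, s, rfl⟩ := TopCat.Presheaf.exists_germ_eq (F := (𝔐.F 0).presheaf) (x := x) c
    obtain ⟨_, ⟨V, hVa, rfl⟩, hxV, hVW⟩ := (𝔛.X 0).isBasis_affineOpens.exists_subset_of_mem_open
      (show x ∈ W ⊓ U from ⟨hxW, hx⟩) (W ⊓ U).2
    haveI := hU V (fun y hy => (hVW hy).2) hVa
    have hsub : Subsingleton (LM 𝔛 hX.1 𝔐 0 V) := ((RM_spec 𝔛 𝔐 hX h𝔐 hVa).2 0).1.subsingleton
    have hle : 𝔛.lvU hX.1 0 V ≤ W := (hl V).le.trans fun y hy => (hVW hy).1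
    have hxV' : x ∈ 𝔛.lvU hX.1 0 V := (hl V).ge hxV
    rw [← TopCat.Presheaf.germ_res_apply (𝔐.F 0).presheaf (homOfLE hle) x hxV' s]
    exact (congrArg ((𝔐.F 0).presheaf.germ _ x hxV')
      (@Subsingleton.elim Γ(𝔐.F 0, 𝔛.lvU hX.1 0 V) hsub _ 0)).trans (map_zero _)
  rw [hz a, hz b]

section Supp

variable {X S : Scheme.{u}} (f : X ⟶ S) (i : 𝔛.X 0 ⟶ X) (hX)

/-- Support proper over the base. -/
def PropSuppF (𝔉 : FSch.ModF 𝔛 hX.1) : Prop :=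
  ∃ T : Set X, ClSub.IsProperOver f T ∧ ∀ x, i x ∉ T → VanishNear 𝔛 hX 𝔉 x

variable {hX f i}

theorem PropSuppF.of_mono {K F : FSch.ModF 𝔛 hX.1} (j : K ⟶ F) [Mono j] :
    PropSuppF hX f i F → PropSuppF hX f i K :=
  fun ⟨T, hT, h⟩ => ⟨T, hT, fun x hx => (h x hx).of_mono j⟩

theorem PropSuppF.of_epi {F Q : FSch.ModF 𝔛 hX.1} (hF : FSch.IsCohF 𝔛 hX.1 F) (hQ : FSch.IsCohF 𝔛 hX.1 Q)
    (q : F ⟶ Q) [Epi q] : PropSuppF hX f i F → PropSuppF hX f i Q :=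
  fun ⟨T, hT, h⟩ => ⟨T, hT, fun x hx => (h x hx).of_epi hF hQ q⟩

theorem PropSuppF.of_kernel [LocallyOfFiniteType f] {F G : FSch.ModF 𝔛 hX.1} (u : F ⟶ G) :
    PropSuppF hX f i (kernel u) → PropSuppF hX f i G → PropSuppF hX f i F :=
  fun ⟨T, hT, h⟩ ⟨T', hT', h'⟩ => ⟨T ∪ T', Groth.L17.ProperOver.isProperOver_union hT hT', fun x hx =>
    .of_kernel u (h x fun hx' => hx (Or.inl hx')) (h' x fun hx' => hx (Or.inr hx'))⟩

theorem PropSuppF.of_shortExact [LocallyOfFiniteType f] (Q : ShortComplex (FSch.ModF 𝔛 hX.1)) (hQ : Q.ShortExact)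
    (h₁ : PropSuppF hX f i Q.X₁) (h₃ : PropSuppF hX f i Q.X₃) : PropSuppF hX f i Q.X₂ := by
  haveI := hQ.mono_f
  refine .of_kernel Q.g ?_ h₃
  exact h₁.of_mono (IsLimit.conePointUniqueUpToIso (kernelIsKernel Q.g) hQ.exact.fIsKernel).hom

end Supp

/-- Completions of modules with proper support have proper support. -/
theorem propSuppF_pullSys {X S : Scheme.{u}} (f : X ⟶ S) (p : ∀ k, 𝔛.X k ⟶ X)
    (hp : ∀ k, 𝔛.ι k ≫ p (k + 1) = p k) (G : X.Modules) (hG : Coh.IsCoh G)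
    (hT : ClSub.IsProperOver f (CohB1.support G)) :
    PropSuppF hX f (p 0) ((pullSys 𝔛 p hp G).realMod hX.1) := by
  refine ⟨CohB1.support G, hT, fun x hx => ?_⟩
  obtain ⟨hc, -⟩ := hT
  let C : X.Opens := ⟨(CohB1.support G)ᶜ, hc.isOpen_compl⟩
  refine vanishNear_realMod (pullSys 𝔛 p hp G) (U := pU 𝔛 p C) hx fun k y hy => ?_
  haveI : Coh.IsQCoh G := hG.1
  show y ∉ CohB1.support ((Scheme.Modules.pullback (p k)).obj G)
  rw [Groth.L19.SupportPullback.support_pullback (p k) G hG.2]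
  exact pU_le 𝔛 hX.1 p hp k C hy

end Groth.L17.FSheaf
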