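import Groth.Agent.L17.FSheaf.LevelPres
import Groth.Agent.L17.FSheaf.Coherent
import Groth.Agent.L17.FSheaf.HomEquiv

/-!
# Coherent modules are the limits of their inverse images to the levels
-/

set_option autoImplicit false
set_option linter.style.haveILetI false
set_option linter.unusedSectionVars false
set_option backward.isDefEq.respectTransparency false
set_option backward.isDefEq.respectTransparency.types false

universe u

open CategoryTheory CategoryTheory.Limits AlgebraicGeometry TopologicalSpace Opposite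

noncomputable section

namespace Groth.L17.FSheaf

open Groth.L18.Frame (rs ro)

variable (𝔛 : FSch.Sys.{u})

/-- The transition morphism of the inverse images to the levels. -/
abbrev LFmap (h : 𝔛.IsFormal) (𝔉 : FSch.ModF 𝔛 h) (k : ℕ) :
    LF 𝔛 h 𝔉 (k + 1) ⟶ (Scheme.Modules.pushforward (𝔛.ι k)).obj (LF 𝔛 h 𝔉 k) :=
  ((FSch.levelMor 𝔛 h (k + 1)).adj.homEquiv _ _).symm
    ((FSch.levelMor 𝔛 h k).adj.unit.app 𝔉 ≫ (FSch.pushCompareInv 𝔛 h k).app (LF 𝔛 h 𝔉 k))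

/-- The adjunct of the transition morphism is an isomorphism. -/
theorem isIso_LFmap (h : 𝔛.IsFormal) (𝔉 : FSch.ModF 𝔛 h) (k : ℕ) :
    IsIso (((Scheme.Modules.pullbackPushforwardAdjunction (𝔛.ι k)).homEquiv _ _).symm (LFmap 𝔛 h 𝔉 k)) := by
  refine isIso_of_coyoneda_map_bijective _ fun T => ?_
  haveI : IsIso ((FSch.pushCompareInv 𝔛 h k).app T) :=
    ⟨(FSch.pushCompare 𝔛 h k).app T, FSch.pushCompareInv_pushCompare 𝔛 h k T,
      FSch.pushCompare_pushCompareInv 𝔛 h k T⟩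
  let e : (LF 𝔛 h 𝔉 k ⟶ T) ≃
      ((Scheme.Modules.pullback (𝔛.ι k)).obj (LF 𝔛 h 𝔉 (k + 1)) ⟶ T) :=
    ((FSch.levelMor 𝔛 h k).adj.homEquiv 𝔉 T).trans
      (((asIso ((FSch.pushCompareInv 𝔛 h k).app T)).homToEquiv).trans
        (((FSch.levelMor 𝔛 h (k + 1)).adj.homEquiv 𝔉 _).symm.trans
          ((Scheme.Modules.pullbackPushforwardAdjunction (𝔛.ι k)).homEquiv _ T).symm))
  refine (show ⇑e = (fun x => ((Scheme.Modules.pullbackPushforwardAdjunction (𝔛.ι k)).homEquiv _ _).symm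
    (LFmap 𝔛 h 𝔉 k) ≫ x) from funext fun g => ?_) ▸ e.bijective
  rw [← Adjunction.homEquiv_naturality_right_symm]
  refine congrArg ((Scheme.Modules.pullbackPushforwardAdjunction (𝔛.ι k)).homEquiv _ T).symm ?_
  rw [LFmap, ← Adjunction.homEquiv_naturality_right_symm]
  refine congrArg ((FSch.levelMor 𝔛 h (k + 1)).adj.homEquiv 𝔉 _).symm ?_
  show (FSch.levelMor 𝔛 h k).adj.homEquiv 𝔉 T g ≫ (FSch.pushCompareInv 𝔛 h k).app T = _
  rw [Adjunction.homEquiv_unit, Category.assoc, Category.assoc]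
  exact congrArg _ ((FSch.pushCompareInv 𝔛 h k).naturality g)

/-- The system of the inverse images to the levels. -/
def canonSys (h : 𝔛.IsFormal) (𝔉 : FSch.ModF 𝔛 h) : FSch.ModSys 𝔛 where
  F := LF 𝔛 h 𝔉
  e k :=
    haveI := isIso_LFmap 𝔛 h 𝔉 k
    asIso (((Scheme.Modules.pullbackPushforwardAdjunction (𝔛.ι k)).homEquiv _ _).symm (LFmap 𝔛 h 𝔉 k))

theorem canonSys_toPush (h : 𝔛.IsFormal) (𝔉 : FSch.ModF 𝔛 h) (k : ℕ) :
    (canonSys 𝔛 h 𝔉).toPush k = LFmap 𝔛 h 𝔉 k := by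
  show ((Scheme.Modules.pullbackPushforwardAdjunction (𝔛.ι k)).homEquiv _ _)
    (((Scheme.Modules.pullbackPushforwardAdjunction (𝔛.ι k)).homEquiv _ _).symm (LFmap 𝔛 h 𝔉 k)) = _
  exact Equiv.apply_symm_apply _ _

/-- The comparison with the limit of the inverse images. -/
def toCanon (h : 𝔛.IsFormal) (𝔉 : FSch.ModF 𝔛 h) : 𝔉 ⟶ (canonSys 𝔛 h 𝔉).realMod h :=
  limit.lift (FSch.levelSysOf 𝔛 h (canonSys 𝔛 h 𝔉).F (canonSys 𝔛 h 𝔉).toPush)
    { pt := 𝔉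
      π := NatTrans.ofOpSequence (F := (Functor.const ℕᵒᵖ).obj 𝔉)
        (fun k => (FSch.levelMor 𝔛 h k).adj.unit.app 𝔉) fun k => by
          rw [FSch.levelSysOf_map_succ, canonSys_toPush]
          exact (Category.id_comp _).trans (FSch.unit_levelTrans 𝔛 h 𝔉 k).symm }

theorem toCanon_proj (h : 𝔛.IsFormal) (𝔉 : FSch.ModF 𝔛 h) (k : ℕ) :
    toCanon 𝔛 h 𝔉 ≫ FSch.realProj 𝔛 h (canonSys 𝔛 h 𝔉).F (canonSys 𝔛 h 𝔉).toPush k =
      (FSch.levelMor 𝔛 h k).adj.unit.app 𝔉 :=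
  limit.lift_π _ _

variable (hX : 𝔛.IsLocNoethFormal) (𝔉 : FSch.ModF 𝔛 hX.1) (h𝔉 : FSch.IsCohF 𝔛 hX.1 𝔉)

/-- The affine opens with a presentation by sections. -/
def presBasis : Set (Opens (𝔛.X 0)) :=
  {U | IsAffineOpen (U : (𝔛.X 0).Opens) ∧ ∃ (n m : ℕ) (s : Fin n → SF 𝔛 hX.1 𝔉 U)
    (r : Fin m → Fin n → O 𝔛 hX.1 U), LocPres (R := ModSite.ringSh (𝔛.Osh hX.1)) 𝔉 s r}

include h𝔉 in
theorem isBasis_presBasis : Opens.IsBasis (presBasis 𝔛 hX 𝔉) := by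
  refine Opens.isBasis_iff_nbhd.2 fun {W x} hx => ?_
  haveI : SheafOfModules.IsFinitePresentation (R := ModSite.ringSh (𝔛.Osh hX.1)) 𝔉 := h𝔉
  obtain ⟨U, hxU, n, m, s, r, hp⟩ := exists_locPres (R := ModSite.ringSh (𝔛.Osh hX.1)) 𝔉 x
  obtain ⟨V, hV, hxV, hVW⟩ := Opens.isBasis_iff_nbhd.1 (𝔛.X 0).isBasis_affineOpens
    (show x ∈ W ⊓ U from ⟨hx, hxU⟩)
  exact ⟨V, ⟨hV, n, m, _, _, hp.restrict (hVW.trans inf_le_right)⟩, hxV, hVW.trans inf_le_left⟩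

include h𝔉 in
/-- The inverse images to the levels are coherent. -/
theorem isCoh_canonSys : (canonSys 𝔛 hX.1 𝔉).IsCoh := fun k => by
  have hfp : CohB1.IsFP (LF 𝔛 hX.1 𝔉 k) := Groth.L19.isFP_of_tilde_charts _ fun x => by
    obtain ⟨U, ⟨hU, n, m, s, r, hp⟩, hxU, -⟩ := Opens.isBasis_iff_nbhd.1 (isBasis_presBasis 𝔛 hX 𝔉 h𝔉)
      (Opens.mem_top ((𝔛.gInv hX.1 k) x))
    obtain ⟨-, -, N, hN, hiso⟩ := level_spec 𝔛 hX.1 k hp (isAffineOpen_lvU 𝔛 hX.1 hU k)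
    refine ⟨_, (isAffineOpen_lvU 𝔛 hX.1 hU k).fromSpec, inferInstance, N, ?_, hN, hiso⟩
    rw [IsAffineOpen.opensRange_fromSpec]
    exact hxU
  haveI : SheafOfModules.IsFinitePresentation (R := (𝔛.X k).ringCatSheaf) (LF 𝔛 hX.1 𝔉 k) := hfp
  show Coh.IsCoh (LF 𝔛 hX.1 𝔉 k)
  exact ⟨inferInstance, inferInstance⟩

theorem qM_toCanon (k : ℕ) (U : (𝔛.X 0).Opens) (x : SF 𝔛 hX.1 𝔉 U) :
    (qM 𝔛 hX.1 (canonSys 𝔛 hX.1 𝔉) k U (((toCanon 𝔛 hX.1 𝔉).val.app (op U)).hom x) :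
      Γ(LF 𝔛 hX.1 𝔉 k, 𝔛.lvU hX.1 k U)) = ηF 𝔛 hX.1 𝔉 k U x :=
  LinearMap.congr_fun (congrArg (fun t => ((t : 𝔉 ⟶ _).val.app (op U)).hom) (toCanon_proj 𝔛 hX.1 𝔉 k)) x

include h𝔉 in
/-- A coherent module is the limit of its inverse images to the levels. -/
theorem isIso_toCanon : IsIso (toCanon 𝔛 hX.1 𝔉) := by
  have hB := isBasis_presBasis 𝔛 hX 𝔉 h𝔉
  have h𝔐 := isCoh_canonSys 𝔛 hX 𝔉 h𝔉
  let φ := toCanon 𝔛 hX.1 𝔉
  haveI : Epi φ := by
    refine epi_of_surjective_basis hB φ ?_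
    rintro U ⟨hU, n, m, s, r, hp⟩ y
    haveI := (O_spec 𝔛 hX hU).1
    haveI := (O_spec 𝔛 hX hU).2.1
    obtain ⟨hfin, hq⟩ := RM_spec 𝔛 (canonSys 𝔛 hX.1 𝔉) hX h𝔐 hU
    let g : Fin n → RM 𝔛 hX.1 (canonSys 𝔛 hX.1 𝔉) U := fun i => (φ.val.app (op U)).hom (s i)
    have htop : Submodule.span (O 𝔛 hX.1 U) (Set.range g) = ⊤ := by
      refine eq_top_of_sup (J 𝔛 hX.1 U) _ (eq_top_iff.2 fun y _ => ?_)
      obtain ⟨c, hc⟩ := (level_spec 𝔛 hX.1 0 hp (isAffineOpen_lvU 𝔛 hX.1 hU 0)).1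
        (qM 𝔛 hX.1 (canonSys 𝔛 hX.1 𝔉) 0 U y)
      choose b hb using fun i => pR_surjective 𝔛 hX.1 hU 0 (c i)
      refine Submodule.mem_sup.2 ⟨∑ i, b i • g i,
        Submodule.sum_mem _ fun i _ => Submodule.smul_mem _ _ (Submodule.subset_span ⟨i, rfl⟩),
        y - ∑ i, b i • g i, ?_, add_sub_cancel _ _⟩
      have h0 := ((hq 0).2 (y - ∑ i, b i • g i)).1 (by
        rw [map_sub, qM_sum, sub_eq_zero]
        refine hc.symm.trans (Finset.sum_congr rfl fun i _ => ?_)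
        rw [hb]
        exact congrArg (c i • ·) (qM_toCanon 𝔛 hX 𝔉 0 U (s i)).symm)
      rwa [zero_add, pow_one] at h0
    obtain ⟨c, hc⟩ := (Submodule.mem_span_range_iff_exists_fun _).1 (htop ▸ Submodule.mem_top :
      (show RM 𝔛 hX.1 (canonSys 𝔛 hX.1 𝔉) U from y) ∈ _)
    refine ⟨∑ i, c i • s i, ?_⟩
    rw [map_sum]
    refine Eq.trans ?_ hc
    exact Finset.sum_congr rfl fun i _ => map_smul _ _ _
  haveI : Mono φ := by
    refine Preadditive.mono_of_kernel_zero (hom_ext_basis (𝔛.X 0).isBasis_affineOpens _ _ fun W hW z => ?_)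
    let y : SF 𝔛 hX.1 𝔉 W := ((kernel.ι φ).val.app (op W)).hom z
    have hy : (φ.val.app (op W)).hom y = 0 :=
      LinearMap.congr_fun (congrArg (fun t => ((t : kernel φ ⟶ _).val.app (op W)).hom) (kernel.condition φ)) z
    show y = 0
    clear_value y
    refine eq_of_locally (R := ModSite.ringSh (𝔛.Osh hX.1)) 𝔉 _ _ fun x hx => ?_
    obtain ⟨U, ⟨hU, n, m, s, r, hp⟩, hxU, hUW⟩ := Opens.isBasis_iff_nbhd.1 hB hx
    obtain ⟨V₀, hV₀, hxV₀, c₀, hc₀⟩ := hp.gen (le_refl U) x hxU (res (R := ModSite.ringSh (𝔛.Osh hX.1)) 𝔉 hUW y)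
    obtain ⟨V, hV, hxV, hVV₀⟩ := Opens.isBasis_iff_nbhd.1 (𝔛.X 0).isBasis_affineOpens hxV₀
    have hVU : V ≤ U := hVV₀.trans hV₀
    refine ⟨V, hVU.trans hUW, hxV, ?_⟩
    rw [res_zero]
    have hpV := hp.restrict hVU
    let c : Fin n → O 𝔛 hX.1 V := fun i => rres (R := ModSite.ringSh (𝔛.Osh hX.1)) hVV₀ (c₀ i)
    let s' : Fin n → SF 𝔛 hX.1 𝔉 V := fun i => res (R := ModSite.ringSh (𝔛.Osh hX.1)) 𝔉 hVU (s i)
    have hyc : res (R := ModSite.ringSh (𝔛.Osh hX.1)) 𝔉 (hVU.trans hUW) y = ∑ i, c i • s' i := by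
      have h1 := congrArg (res (R := ModSite.ringSh (𝔛.Osh hX.1)) 𝔉 hVV₀) hc₀
      rw [res_comb, res_res, res_res] at h1
      exact h1
    haveI := (O_spec 𝔛 hX hV).1
    haveI := (O_spec 𝔛 hX hV).2.1
    have h0 : (φ.val.app (op V)).hom (∑ i, c i • s' i) = 0 := by
      rw [← hyc]
      refine (PresheafOfModules.naturality_apply φ.val (homOfLE (hVU.trans hUW)).op y).trans ?_
      exact (congrArg _ hy).trans (map_zero _)
    let r' : Fin m → Fin n → O 𝔛 hX.1 V := fun j i => rres (R := ModSite.ringSh (𝔛.Osh hX.1)) hVU (r j i)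
    let P : Submodule (O 𝔛 hX.1 V) (Fin n → O 𝔛 hX.1 V) := Submodule.span (O 𝔛 hX.1 V) (Set.range r')
    have h1 : c ∈ P := by
      refine mem_of_forall_mem_sup (J 𝔛 hX.1 V) P fun k => ?_
      obtain ⟨d, hd⟩ := (level_spec 𝔛 hX.1 k hpV (isAffineOpen_lvU 𝔛 hX.1 hV k)).2.1
        (fun i => pR 𝔛 hX.1 k V (c i)) (by
        refine Eq.trans ?_ (((qM_toCanon 𝔛 hX 𝔉 k V (∑ i, c i • s' i)).symm.trans
          (congrArg _ h0)).trans (map_zero _))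
        refine Eq.trans ?_ (map_sum (((FSch.levelMor 𝔛 hX.1 k).adj.unit.app 𝔉).val.app (op V)).hom _ _).symm
        exact Finset.sum_congr rfl fun i _ => (ηF_smul 𝔛 hX.1 𝔉 k V (c i) (s' i)).symm)
      choose b hb using fun j => pR_surjective 𝔛 hX.1 hV k (d j)
      let w : Fin n → O 𝔛 hX.1 V := ∑ j, b j • r' j
      refine Submodule.mem_sup.2 ⟨w, Submodule.sum_mem _ fun j _ =>
        Submodule.smul_mem _ _ (Submodule.subset_span ⟨j, rfl⟩), c - w, ?_, add_sub_cancel _ _⟩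
      have h2 : ∀ i, (c - w) i ∈ J 𝔛 hX.1 V ^ k := fun i => by
        refine Ideal.pow_le_pow_right (Nat.le_succ k) ?_
        rw [← (O_spec 𝔛 hX hV).2.2 k, RingHom.mem_ker, Pi.sub_apply, map_sub, sub_eq_zero, hd i]
        simp [w, r', map_sum, hb]
      rw [← Finset.univ_sum_single (c - w)]
      refine Submodule.sum_mem _ fun i _ => ?_
      rw [show (Pi.single i ((c - w) i) : Fin n → O 𝔛 hX.1 V) = (c - w) i • Pi.single i 1 by
        rw [← Pi.single_smul, smul_eq_mul, mul_one]]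
      exact Submodule.smul_mem_smul (h2 i) Submodule.mem_top
    obtain ⟨d, hd⟩ := (Submodule.mem_span_range_iff_exists_fun _).1 h1
    rw [hyc, ← hd]
    simp only [Finset.sum_apply, Pi.smul_apply, smul_eq_mul, Finset.sum_smul, mul_smul]
    rw [Finset.sum_comm]
    refine Finset.sum_eq_zero fun j _ => ?_
    rw [← Finset.smul_sum]
    refine Eq.trans (congrArg (d j • ·) (hpV.rel_zero j)) (smul_zero _)
  exact isIso_of_mono_of_epi φ

end Groth.L17.FSheaf
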