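import Groth.Agent.L17.FSheaf.CompBridge
import Groth.Agent.L17.FSheaf.PropSupp
import Groth.Agent.L17.FSheaf.HomEquiv
import Groth.Agent.L22.Ideal
import Groth.Agent.S0799
import Groth.Agent.S3854
import Groth.Agent.S13334
import Groth.Agent.S13335

/-!
# Algebraizable modules on completions
-/

set_option autoImplicit false
set_option linter.style.haveILetI false
set_option linter.unusedSectionVars false
set_option backward.isDefEq.respectTransparency false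
set_option backward.isDefEq.respectTransparency.types false

universe u

open CategoryTheory CategoryTheory.Limits AlgebraicGeometry TopologicalSpace Opposite

noncomputable section

namespace Groth.L17.FSheaf

open Groth.L16.AffineBC (scal)

/-- The module of isomorphic systems. -/
theorem nonempty_realMod_iso (𝔛 : FSch.Sys.{u}) (h : 𝔛.IsFormal) {𝔐 𝔑 : FSch.ModSys 𝔛} (e : 𝔐 ≅ 𝔑) :
    Nonempty (𝔐.realMod h ≅ 𝔑.realMod h) := by
  have hh : ∀ (a : 𝔐 ⟶ 𝔑), (∀ k, IsIso (a.app k)) → IsIso (FSch.ModSys.realModMap h a) := by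
    intro a ha
    haveI : ∀ j : ℕᵒᵖ, IsIso ((FSch.levelSysMap 𝔛 h a.app (FSch.ModSys.Hom.toPush_comm a)).app j) := by
      rintro ⟨k⟩
      haveI := ha k
      exact inferInstanceAs (IsIso ((FSch.levelMor 𝔛 h k).push.map (a.app k)))
    haveI : IsIso (FSch.levelSysMap 𝔛 h a.app (FSch.ModSys.Hom.toPush_comm a)) := NatIso.isIso_of_isIso_app _
    exact inferInstanceAs (IsIso (lim.map (FSch.levelSysMap 𝔛 h a.app (FSch.ModSys.Hom.toPush_comm a))))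
  haveI := hh e.hom fun k => ⟨e.inv.app k, congrArg (fun t : 𝔐 ⟶ 𝔐 => t.app k) e.hom_inv_id,
    congrArg (fun t : 𝔑 ⟶ 𝔑 => t.app k) e.inv_hom_id⟩
  exact ⟨asIso (FSch.ModSys.realModMap h e.hom)⟩

variable {A : Type u} [CommRing A] [IsNoetherianRing A] (J : Ideal A) [IsAdicComplete J A]
  {X : Scheme.{u}} (f : X ⟶ Spec (CommRingCat.of A)) [IsSeparated f] [LocallyOfFiniteType f] [QuasiCompact f]
  (𝔛 : FSch.Sys.{u}) (hX : 𝔛.IsLocNoethFormal) (p : ∀ k, 𝔛.X k ⟶ X) (hp : ∀ k, 𝔛.ι k ≫ p (k + 1) = p k)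

include hX hp in
/-- Coherent modules with proper support are algebraizable. -/
theorem exists_algebraization (hcl : ∀ k, IsClosedImmersion (p k))
    (hcut : letI : X.Over (Spec (CommRingCat.of A)) := ⟨f⟩; CutOver J 𝔛 p)
    (𝔉 : FSch.ModF 𝔛 hX.1) (h𝔉 : FSch.IsCohF 𝔛 hX.1 𝔉) (hs : PropSuppF hX f (p 0) 𝔉) :
    ∃ G : X.Modules, Coh.IsCoh G ∧ ClSub.IsProperOver f (CohB1.support G) ∧
      Nonempty (𝔉 ≅ (pullSys 𝔛 p hp G).realMod hX.1) := by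
  letI : X.Over (Spec (CommRingCat.of A)) := ⟨f⟩
  haveI : IsLocallyNoetherian X := LocallyOfFiniteType.isLocallyNoetherian f
  haveI : CompactSpace X := QuasiCompact.compactSpace_of_compactSpace f
  haveI : AlgebraicGeometry.IsNoetherian X := ⟨⟩
  haveI : IsSeparated (X ↘ Spec (CommRingCat.of A)) := ‹IsSeparated f›
  haveI : LocallyOfFiniteType (X ↘ Spec (CommRingCat.of A)) := ‹LocallyOfFiniteType f›
  haveI : QuasiCompact (X ↘ Spec (CommRingCat.of A)) := ‹QuasiCompact f›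
  obtain ⟨𝔐, h𝔐, ⟨e⟩⟩ := Groth.Agent.S13335.result 𝔛 hX 𝔉 h𝔉
  haveI := hcl 0
  haveI := hX.2.2 0
  obtain ⟨T, hT, hV⟩ := hs
  have hG := isCohFormal_gSys hp 𝔐 hcl hcut h𝔐
  have hsub : CohB1.support ((gSys 𝔛 p hp 𝔐).obj (op 0)) ⊆ T := fun y hy => by
    obtain ⟨x, hx, rfl⟩ := Groth.L16.Exist.support_push_image (p 0) (h𝔐 0) hy
    by_contra hyT
    exact notMem_support_of_vanishNear 𝔐 h𝔐 ((hV x hyT).of_iso e.symm) hx
  obtain ⟨M, hM, hMs, ⟨θ⟩⟩ := Groth.Agent.S0799.result A J X (gSys 𝔛 p hp 𝔐) hG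
    (Groth.L17.ProperOver.isProperOver_mono hT
      (Groth.L16.CohSupport.isClosed_support _ (hG.1 0).2) hsub)
  obtain ⟨e'⟩ := nonempty_iso_pullSys_of_completion hp 𝔐 hcl hcut hM θ
  obtain ⟨e''⟩ := nonempty_realMod_iso 𝔛 hX.1 e'
  exact ⟨M, hM, hMs, ⟨e ≪≫ e''⟩⟩

/-- Algebraizable: isomorphic to the completion of a coherent module with proper support. -/
def IsAlgz (hX : 𝔛.IsLocNoethFormal) (𝔉 : FSch.ModF 𝔛 hX.1) : Prop :=
  ∃ G : X.Modules, Coh.IsCoh G ∧ ClSub.IsProperOver f (CohB1.support G) ∧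
    Nonempty (𝔉 ≅ (pullSys 𝔛 p hp G).realMod hX.1)

theorem isCohF_of_isAlgz {𝔉 : FSch.ModF 𝔛 hX.1} (h : IsAlgz f 𝔛 p hp hX 𝔉) : FSch.IsCohF 𝔛 hX.1 𝔉 := by
  obtain ⟨G, hG, -, ⟨e⟩⟩ := h
  haveI := hX.2.2
  exact (SheafOfModules.isFinitePresentation.{u} (ModSite.ringSh (𝔛.Osh hX.1))).prop_of_iso e.symm
    (Groth.Agent.S13334.result 𝔛 hX _ (isCoh_pullSys 𝔛 p hp G hG))

omit [IsNoetherianRing A] [IsAdicComplete J A] in
theorem propSuppF_of_isAlgz {𝔉 : FSch.ModF 𝔛 hX.1} (h : IsAlgz f 𝔛 p hp hX 𝔉) :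
    PropSuppF hX f (p 0) 𝔉 := by
  obtain ⟨G, hG, hs, ⟨e⟩⟩ := h
  exact (propSuppF_pullSys f p hp G hG hs).of_mono e.hom

variable (hcl : ∀ k, IsClosedImmersion (p k))
  (hcut : letI : X.Over (Spec (CommRingCat.of A)) := ⟨f⟩; CutOver J 𝔛 p)

include hcl hcut in
/-- Kernels, images and cokernels of algebraizable modules are algebraizable. -/
theorem isAlgz_kernel_image_cokernel {𝔉 𝔊 : FSch.ModF 𝔛 hX.1} (h𝔉 : IsAlgz f 𝔛 p hp hX 𝔉)
    (h𝔊 : IsAlgz f 𝔛 p hp hX 𝔊) (u : 𝔉 ⟶ 𝔊) :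
    IsAlgz f 𝔛 p hp hX (kernel u) ∧ IsAlgz f 𝔛 p hp hX (Abelian.image u) ∧ IsAlgz f 𝔛 p hp hX (cokernel u) := by
  have c₁ := isCohF_of_isAlgz f 𝔛 hX p hp h𝔉
  have c₂ := isCohF_of_isAlgz f 𝔛 hX p hp h𝔊
  have s₁ := propSuppF_of_isAlgz f 𝔛 hX p hp h𝔉
  have s₂ := propSuppF_of_isAlgz f 𝔛 hX p hp h𝔊
  exact ⟨exists_algebraization J f 𝔛 hX p hp hcl hcut _ (isCohF_kernel 𝔛 hX c₁ c₂ u) (s₁.of_mono (kernel.ι u)),
    exists_algebraization J f 𝔛 hX p hp hcl hcut _ (isCohF_image 𝔛 hX c₁ c₂ u) (s₂.of_mono (Abelian.image.ι u)),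
    exists_algebraization J f 𝔛 hX p hp hcl hcut _ (isCohF_cokernel 𝔛 hX c₁ c₂ u)
      (s₂.of_epi c₂ (isCohF_cokernel 𝔛 hX c₁ c₂ u) (cokernel.π u))⟩

include hcl hcut in
/-- A coherent module with algebraizable target and kernel of a morphism is algebraizable. -/
theorem isAlgz_of_kernel {𝔉 𝔊 : FSch.ModF 𝔛 hX.1} (c : FSch.IsCohF 𝔛 hX.1 𝔉) (u : 𝔉 ⟶ 𝔊)
    (hk : IsAlgz f 𝔛 p hp hX (kernel u)) (h𝔊 : IsAlgz f 𝔛 p hp hX 𝔊) : IsAlgz f 𝔛 p hp hX 𝔉 :=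
  exists_algebraization J f 𝔛 hX p hp hcl hcut 𝔉 c
    (.of_kernel u (propSuppF_of_isAlgz f 𝔛 hX p hp hk) (propSuppF_of_isAlgz f 𝔛 hX p hp h𝔊))

include hcl hcut in
/-- Extensions of algebraizable modules are algebraizable. -/
theorem isAlgz_of_shortExact (S : ShortComplex (FSch.ModF 𝔛 hX.1)) (hS : S.ShortExact)
    (c : FSch.IsCohF 𝔛 hX.1 S.X₂) (h₁ : IsAlgz f 𝔛 p hp hX S.X₁) (h₃ : IsAlgz f 𝔛 p hp hX S.X₃) :
    IsAlgz f 𝔛 p hp hX S.X₂ :=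
  exists_algebraization J f 𝔛 hX p hp hcl hcut S.X₂ c
    (.of_shortExact S hS (propSuppF_of_isAlgz f 𝔛 hX p hp h₁) (propSuppF_of_isAlgz f 𝔛 hX p hp h₃))

section Completion

variable {B : Type u} [CommRing B] (K : Ideal B) {Y : Scheme.{u}} (g : Y ⟶ Spec (CommRingCat.of B))
  (𝓘 : Y.IdealSheafData) (h𝓘 : 𝓘 = (FSch.idealSpec B K).comap g)

include h𝓘 in
theorem cutOver_of_cutBy (𝔜 : FSch.Sys.{u}) (q : ∀ k, 𝔜.X k ⟶ Y) (hq : CutBy 𝔜 q 𝓘)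
    (htop : (FSch.idealSpec B K).ideal ⟨⊤, isAffineOpen_top _⟩ =
      K.map (Scheme.ΓSpecIso (CommRingCat.of B)).inv.hom) :
    letI : Y.Over (Spec (CommRingCat.of B)) := ⟨g⟩
    CutOver K 𝔜 q := by
  letI : Y.Over (Spec (CommRingCat.of B)) := ⟨g⟩
  intro k U hU
  obtain ⟨h1, h2⟩ := hq k ⟨U, hU⟩
  refine ⟨h1, h2.trans (congrArg (· ^ (k + 1)) ?_)⟩
  rw [h𝓘, Groth.L22.Ideals.comap_ideal g (FSch.idealSpec B K) ⟨⊤, isAffineOpen_top _⟩ ⟨U, hU⟩ le_top, htop,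
    Ideal.map_map]
  rfl

end Completion

end Groth.L17.FSheaf
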