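import Groth.Agent.L17.FSheaf.PushSys
import Groth.Agent.L17.ComplUnit.Pin
import Groth.Agent.L17.FSheaf.HomEquiv

/-!
# Base change along closed immersions of formal schemes
-/

set_option autoImplicit false
set_option linter.style.haveILetI false
set_option linter.unusedSectionVars false
set_option backward.isDefEq.respectTransparency false
set_option backward.isDefEq.respectTransparency.types false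
set_option maxHeartbeats 800000

universe u

open CategoryTheory CategoryTheory.Limits AlgebraicGeometry TopologicalSpace Opposite

noncomputable section

namespace Groth.L17.ClosedBC

open Groth.L17.FSheaf Groth.L17.ComplUnit
open Groth.L18.Frame (rs ro pull pull_rs rs_rs rs_self rs_smul pull_smul)
open Groth.L17.BC.PullSec (app_rs)

theorem lvU_mono (𝔛 : FSch.Sys.{u}) (h : 𝔛.IsFormal) (k : ℕ) {U V : (𝔛.X 0).Opens} (e : U ≤ V) :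
    𝔛.lvU h k U ≤ 𝔛.lvU h k V :=
  ((Opens.map (𝔛.gInv h k)).map (homOfLE e)).le

theorem qM_res (𝔛 : FSch.Sys.{u}) (h : 𝔛.IsFormal) (𝔐 : FSch.ModSys 𝔛) (k : ℕ) {U V : (𝔛.X 0).Opens}
    (e : U ≤ V) (x : RM 𝔛 h 𝔐 V) :
    (qM 𝔛 h 𝔐 k U (Groth.L17.FSheaf.res (R := ModSite.ringSh (𝔛.Osh h)) (𝔐.realMod h) e x) :
        Γ(𝔐.F k, 𝔛.lvU h k U)) =
      rs (𝔐.F k) (lvU_mono 𝔛 h k e) (qM 𝔛 h 𝔐 k V x) :=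
  PresheafOfModules.naturality_apply (FSch.realProj 𝔛 h 𝔐.F 𝔐.toPush k).val (homOfLE e).op x

variable {𝔛 𝔜 𝔖 ℨ : FSch.Sys.{u}} (p : ℨ ⟶ 𝔛) (f : 𝔛 ⟶ 𝔖) (q : ℨ ⟶ 𝔜) (g : 𝔜 ⟶ 𝔖) (w : p ≫ f = q ≫ g)

theorem bcMapF_natural (hℨ : ℨ.IsFormal) (h𝔛 : 𝔛.IsFormal) (h𝔜 : 𝔜.IsFormal) (h𝔖 : 𝔖.IsFormal)
    {A B : FSch.ModF 𝔛 h𝔛} (θ : A ⟶ B) :
    (FSch.pullF g h𝔜 h𝔖).map ((FSch.pushF f h𝔛 h𝔖).map θ) ≫ FSch.bcMapF p f q g w hℨ h𝔛 h𝔜 h𝔖 B =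
      FSch.bcMapF p f q g w hℨ h𝔛 h𝔜 h𝔖 A ≫ (FSch.pushF q hℨ h𝔜).map ((FSch.pullF p hℨ h𝔛).map θ) := by
  refine ((FSch.homMor g h𝔜 h𝔖).adj.homEquiv _ _).injective ?_
  refine (Adjunction.homEquiv_naturality_left _ _ _).trans ?_
  refine Eq.trans ?_ (Adjunction.homEquiv_naturality_right _ _ _).symm
  refine (congrArg (fun t => (FSch.pushF f h𝔛 h𝔖).map θ ≫ t) (FSch.bcMapF_transpose p f q g w hℨ h𝔛 h𝔜 h𝔖 B)).trans ?_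
  refine Eq.trans ?_ (congrArg (fun t => t ≫ (FSch.pushF g h𝔜 h𝔖).map ((FSch.pushF q hℨ h𝔜).map
    ((FSch.pullF p hℨ h𝔛).map θ))) (FSch.bcMapF_transpose p f q g w hℨ h𝔛 h𝔜 h𝔖 A)).symm
  refine (Category.assoc _ _ _).symm.trans ?_
  refine Eq.trans ?_ (Category.assoc _ _ _).symm
  refine Eq.trans ?_ (congrArg (fun t => (FSch.pushF f h𝔛 h𝔖).map ((FSch.homMor p hℨ h𝔛).adj.unit.app A) ≫ t)
    ((FSch.pushSq p f q g w hℨ h𝔛 h𝔜 h𝔖).hom.naturality ((FSch.pullF p hℨ h𝔛).map θ)))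
  refine Eq.trans ?_ (Category.assoc _ _ _)
  refine congrArg (fun t => t ≫ (FSch.pushSq p f q g w hℨ h𝔛 h𝔜 h𝔖).hom.app _) ?_
  refine ((FSch.pushF f h𝔛 h𝔖).map_comp _ _).symm.trans (Eq.trans ?_ ((FSch.pushF f h𝔛 h𝔖).map_comp _ _))
  exact congrArg _ ((FSch.homMor p hℨ h𝔛).adj.unit.naturality θ)

variable (hℨ : ℨ.IsLocNoethFormal) (h𝔛 : 𝔛.IsLocNoethFormal) (h𝔜 : 𝔜.IsLocNoethFormal)
  (h𝔖 : 𝔖.IsLocNoethFormal)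
  (hf : FSch.IsAdicHom f) (hcl : ∀ k, IsClosedImmersion (fL f k))
  (hpb : ∀ k, IsPullback (fL p k) (fL q k) (fL f k) (fL g k))
  (𝔑 : FSch.ModSys 𝔛) (h𝔑 : 𝔑.IsCoh)

/-- The direct image system. -/
abbrev MS : FSch.ModSys 𝔖 :=
  pushSys f hf (fun k => haveI := hcl k; inferInstance) 𝔑 fun k => (h𝔑 k).1

include h𝔖 in
theorem isCoh_MS : (MS f hf hcl 𝔑 h𝔑).IsCoh := fun k => by
  haveI := hcl k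
  haveI := h𝔖.2.2 k
  exact Groth.L16.Exist.isCoh_pushforward (fL f k) (h𝔑 k)

theorem isCoh_pullback_sys (𝔐 : FSch.ModSys 𝔖) (h : 𝔐.IsCoh) : (FSch.ModSys.pullback g 𝔐).IsCoh := fun k =>
  Groth.L16.AffineBC.isCoh_pullback (fL g k) (h k)

variable (eg : (FSch.pullF g h𝔜.1 h𝔖.1).obj ((MS f hf hcl 𝔑 h𝔑).realMod h𝔖.1) ≅
    (FSch.ModSys.pullback g (MS f hf hcl 𝔑 h𝔑)).realMod h𝔜.1)
  (heg : ∀ k : ℕ, (FSch.homMor g h𝔜.1 h𝔖.1).adj.homEquiv _ _ eg.hom ≫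
          (FSch.pushF g h𝔜.1 h𝔖.1).map (FSch.realProj 𝔜 h𝔜.1 _ _ k) ≫
          (FSch.lvPushSq g h𝔜.1 h𝔖.1 k).hom.app ((FSch.ModSys.pullback g (MS f hf hcl 𝔑 h𝔑)).F k) =
        FSch.realProj 𝔖 h𝔖.1 _ _ k ≫
          (FSch.levelMor 𝔖 h𝔖.1 k).push.map
            ((ModSite.RMor.ofScheme ((g : FSch.Hom 𝔜 𝔖).app k)).adj.unit.app ((MS f hf hcl 𝔑 h𝔑).F k)))
  (ep : (FSch.pullF p hℨ.1 h𝔛.1).obj (𝔑.realMod h𝔛.1) ≅ (FSch.ModSys.pullback p 𝔑).realMod hℨ.1)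
  (hep : ∀ k : ℕ, (FSch.homMor p hℨ.1 h𝔛.1).adj.homEquiv _ _ ep.hom ≫
          (FSch.pushF p hℨ.1 h𝔛.1).map (FSch.realProj ℨ hℨ.1 _ _ k) ≫
          (FSch.lvPushSq p hℨ.1 h𝔛.1 k).hom.app ((FSch.ModSys.pullback p 𝔑).F k) =
        FSch.realProj 𝔛 h𝔛.1 _ _ k ≫
          (FSch.levelMor 𝔛 h𝔛.1 k).push.map
            ((ModSite.RMor.ofScheme ((p : FSch.Hom ℨ 𝔛).app k)).adj.unit.app (𝔑.F k)))

/-- The comparison of the two systems. -/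
abbrev Ψ (eM : (FSch.pushF f h𝔛.1 h𝔖.1).obj (𝔑.realMod h𝔛.1) ≅ (MS f hf hcl 𝔑 h𝔑).realMod h𝔖.1) :
    (FSch.ModSys.pullback g (MS f hf hcl 𝔑 h𝔑)).realMod h𝔜.1 ⟶
      (FSch.pushF q hℨ.1 h𝔜.1).obj ((FSch.ModSys.pullback p 𝔑).realMod hℨ.1) :=
  eg.inv ≫ (FSch.pullF g h𝔜.1 h𝔖.1).map eM.inv ≫ FSch.bcMapF p f q g w hℨ.1 h𝔛.1 h𝔜.1 h𝔖.1 (𝔑.realMod h𝔛.1) ≫
    (FSch.pushF q hℨ.1 h𝔜.1).map ep.hom

variable (eM : (FSch.pushF f h𝔛.1 h𝔖.1).obj (𝔑.realMod h𝔛.1) ≅ (MS f hf hcl 𝔑 h𝔑).realMod h𝔖.1)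
  (heM : eM.hom = pushReal f hf (fun k => haveI := hcl k; inferInstance) 𝔑 (fun k => (h𝔑 k).1) h𝔛 h𝔖)

theorem transpose_Ψ :
    (FSch.homMor g h𝔜.1 h𝔖.1).adj.homEquiv _ _ eg.hom ≫ (FSch.pushF g h𝔜.1 h𝔖.1).map (Ψ p f q g w hℨ h𝔛 h𝔜 h𝔖 hf hcl 𝔑 h𝔑 eg ep eM) =
      eM.inv ≫ (FSch.pushF f h𝔛.1 h𝔖.1).map ((FSch.homMor p hℨ.1 h𝔛.1).adj.homEquiv _ _ ep.hom) ≫
        (FSch.pushSq p f q g w hℨ.1 h𝔛.1 h𝔜.1 h𝔖.1).hom.app ((FSch.ModSys.pullback p 𝔑).realMod hℨ.1) := by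
  refine (Adjunction.homEquiv_naturality_right _ _ _).symm.trans ?_
  rw [Ψ, Iso.hom_inv_id_assoc]
  refine (Adjunction.homEquiv_naturality_left _ _ _).trans (congrArg (fun t => eM.inv ≫ t) ?_)
  refine (Adjunction.homEquiv_naturality_right _ _ _).trans ?_
  refine (congrArg (fun t => t ≫ (FSch.pushF g h𝔜.1 h𝔖.1).map ((FSch.pushF q hℨ.1 h𝔜.1).map ep.hom))
    (FSch.bcMapF_transpose p f q g w hℨ.1 h𝔛.1 h𝔜.1 h𝔖.1 (𝔑.realMod h𝔛.1))).trans ?_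
  refine (Category.assoc _ _ _).trans ?_
  refine (congrArg (fun t => _ ≫ t) ((FSch.pushSq p f q g w hℨ.1 h𝔛.1 h𝔜.1 h𝔖.1).hom.naturality ep.hom).symm).trans ?_
  refine (Category.assoc _ _ _).symm.trans ?_
  refine congrArg (fun t => t ≫ _) ?_
  rw [Adjunction.homEquiv_unit]
  exact ((FSch.pushF f h𝔛.1 h𝔖.1).map_comp _ _).symm

include hpb in
theorem sq_le {k : ℕ} {V : (𝔖.X k).Opens} {V' : (𝔜.X k).Opens} (e : V' ≤ fL g k ⁻¹ᵁ V) :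
    fL q k ⁻¹ᵁ V' ≤ fL p k ⁻¹ᵁ (fL f k ⁻¹ᵁ V) := by
  rw [← Scheme.Hom.comp_preimage, (hpb k).w, Scheme.Hom.comp_preimage]
  exact (fL q k).preimage_mono e

/-- The comparison on a level. -/
def qΨ (k : ℕ) (W : (𝔜.X 0).Opens) :
    RM 𝔜 h𝔜.1 (FSch.ModSys.pullback g (MS f hf hcl 𝔑 h𝔑)) W →+
      Γ((Scheme.Modules.pushforward (fL q k)).obj ((Scheme.Modules.pullback (fL p k)).obj (𝔑.F k)), 𝔜.lvU h𝔜.1 k W) where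
  toFun x := rs ((Scheme.Modules.pullback (fL p k)).obj (𝔑.F k)) (fU_ge q hℨ.1 h𝔜.1 k W)
    (qM ℨ hℨ.1 (FSch.ModSys.pullback p 𝔑) k (fU q W)
      (((Ψ p f q g w hℨ h𝔛 h𝔜 h𝔖 hf hcl 𝔑 h𝔑 eg ep eM).val.app (op W)).hom x))
  map_zero' := by simp only [map_zero]
  map_add' a b := by simp only [map_add]

include heg hep heM hpb in
theorem qΨ_gen (k : ℕ) {V : (𝔖.X 0).Opens} {W : (𝔜.X 0).Opens} (eVW : W ≤ fU g V)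
    (m : RM 𝔖 h𝔖.1 (MS f hf hcl 𝔑 h𝔑) V) :
    qΨ p f q g w hℨ h𝔛 h𝔜 h𝔖 hf hcl 𝔑 h𝔑 eg ep eM k W
      (Groth.L17.FSheaf.res (R := ModSite.ringSh (𝔜.Osh h𝔜.1))
        ((FSch.ModSys.pullback g (MS f hf hcl 𝔑 h𝔑)).realMod h𝔜.1) eVW
        ((((FSch.homMor g h𝔜.1 h𝔖.1).adj.homEquiv _ _ eg.hom).val.app (op V)).hom m)) =
      (bcT (hpb k).w (𝔑.F k)).app (𝔜.lvU h𝔜.1 k W)
        (rs ((Scheme.Modules.pullback (fL g k)).obj ((MS f hf hcl 𝔑 h𝔑).F k))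
          ((lvU_mono 𝔜 h𝔜.1 k eVW).trans (fU_le g h𝔜.1 h𝔖.1 k V))
          (pull (fL g k) ((MS f hf hcl 𝔑 h𝔑).F k) _ (qM 𝔖 h𝔖.1 (MS f hf hcl 𝔑 h𝔑) k V m))) := by
  let n : RM 𝔛 h𝔛.1 𝔑 (fU f V) := (eM.inv.val.app (op V)).hom m
  have hm : ((pushReal f hf (fun k => haveI := hcl k; inferInstance) 𝔑 (fun k => (h𝔑 k).1) h𝔛 h𝔖).val.app
      (op V)).hom n = m := by
    rw [← heM]
    exact LinearMap.congr_fun (congrArg (fun t => ((t : (MS f hf hcl 𝔑 h𝔑).realMod h𝔖.1 ⟶ _).val.app (op V)).hom)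
      eM.inv_hom_id) m
  have hqm : (qM 𝔖 h𝔖.1 (MS f hf hcl 𝔑 h𝔑) k V m : Γ((MS f hf hcl 𝔑 h𝔑).F k, 𝔖.lvU h𝔖.1 k V)) =
      rs (𝔑.F k) (fU_ge f h𝔛.1 h𝔖.1 k V) (qM 𝔛 h𝔛.1 𝔑 k (fU f V) n) :=
    (congrArg (qM 𝔖 h𝔖.1 (MS f hf hcl 𝔑 h𝔑) k V) hm).symm.trans
      (qM_pushReal f hf _ 𝔑 _ h𝔛 h𝔖 k V n)
  have e0 : fU q (fU g V) ≤ fU p (fU f V) := (FSch.Hom.sq_preimage p f q g w V).ge
  have hval : ((Ψ p f q g w hℨ h𝔛 h𝔜 h𝔖 hf hcl 𝔑 h𝔑 eg ep eM).val.app (op (fU g V))).hom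
      ((((FSch.homMor g h𝔜.1 h𝔖.1).adj.homEquiv _ _ eg.hom).val.app (op V)).hom m) =
      Groth.L17.FSheaf.res (R := ModSite.ringSh (ℨ.Osh hℨ.1)) ((FSch.ModSys.pullback p 𝔑).realMod hℨ.1) e0
        ((((FSch.homMor p hℨ.1 h𝔛.1).adj.homEquiv _ _ ep.hom).val.app (op (fU f V))).hom n) :=
    LinearMap.congr_fun (congrArg (fun t => ((t : (MS f hf hcl 𝔑 h𝔑).realMod h𝔖.1 ⟶ _).val.app (op V)).hom)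
      (transpose_Ψ p f q g w hℨ h𝔛 h𝔜 h𝔖 hf hcl 𝔑 h𝔑 eg ep eM)) m
  have e1 : fU q W ≤ fU q (fU g V) := (fL q 0).preimage_mono eVW
  have hnat := PresheafOfModules.naturality_apply (Ψ p f q g w hℨ h𝔛 h𝔜 h𝔖 hf hcl 𝔑 h𝔑 eg ep eM).val
    (homOfLE eVW).op ((((FSch.homMor g h𝔜.1 h𝔖.1).adj.homEquiv _ _ eg.hom).val.app (op V)).hom m)
  refine (congrArg (fun t => rs ((Scheme.Modules.pullback (fL p k)).obj (𝔑.F k)) (fU_ge q hℨ.1 h𝔜.1 k W)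
      (qM ℨ hℨ.1 (FSch.ModSys.pullback p 𝔑) k (fU q W) t))
    (hnat.trans (congrArg (Groth.L17.FSheaf.res (R := ModSite.ringSh (ℨ.Osh hℨ.1))
      ((FSch.ModSys.pullback p 𝔑).realMod hℨ.1) e1) hval))).trans ?_
  rw [qM_res ℨ hℨ.1 (FSch.ModSys.pullback p 𝔑) k e1, qM_res ℨ hℨ.1 (FSch.ModSys.pullback p 𝔑) k e0]
  refine (congrArg (fun t => rs _ _ (rs _ _ (rs _ _ t))) (qM_unit p hℨ h𝔛 𝔑 ep hep k (fU f V) n)).trans ?_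
  refine Eq.trans ?_ (bcT_app (hpb k).w (𝔑.F k) (𝔖.lvU h𝔖.1 k V) (𝔜.lvU h𝔜.1 k W) _
    (sq_le p f q g hpb ((lvU_mono 𝔜 h𝔜.1 k eVW).trans (fU_le g h𝔜.1 h𝔖.1 k V))) _).symm
  refine Eq.trans ?_ (congrArg (fun t => rs _ _ (pull (fL p k) (𝔑.F k) _ t)) hqm).symm
  rw [← pull_rs, rs_rs, rs_rs, rs_rs]
  exact rs_rs ((Scheme.Modules.pullback (fL p k)).obj (𝔑.F k)) _ _ _

theorem sharp_level {A B : FSch.Sys.{u}} (φ : A ⟶ B) (hA : A.IsFormal) (hB : B.IsFormal) (k : ℕ)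
    (U : (B.X 0).Opens) (a : O B hB U) :
    pR A hA k (fU φ U) (((FSch.Hom.sharp φ hA hB).hom.app (op U)).hom a) =
      ((fL φ k).appLE (B.lvU hB k U) (A.lvU hA k (fU φ U)) (fU_le φ hA hB k U)).hom (pR B hB k U a) :=
  ConcreteCategory.congr_hom (congrArg (fun t => t.hom.app (op U)) (FSch.Hom.sharp_proj φ hA hB k)) a

theorem qΨ_smul (k : ℕ) (W : (𝔜.X 0).Opens) (a : O 𝔜 h𝔜.1 W)
    (x : RM 𝔜 h𝔜.1 (FSch.ModSys.pullback g (MS f hf hcl 𝔑 h𝔑)) W) :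
    qΨ p f q g w hℨ h𝔛 h𝔜 h𝔖 hf hcl 𝔑 h𝔑 eg ep eM k W (a • x) =
      pR 𝔜 h𝔜.1 k W a • qΨ p f q g w hℨ h𝔛 h𝔜 h𝔖 hf hcl 𝔑 h𝔑 eg ep eM k W x := by
  let Ψ₀ := ((Ψ p f q g w hℨ h𝔛 h𝔜 h𝔖 hf hcl 𝔑 h𝔑 eg ep eM).val.app (op W)).hom
  let a' : O ℨ hℨ.1 (fU q W) := ((FSch.Hom.sharp q hℨ.1 h𝔜.1).hom.app (op W)).hom a
  let y : RM ℨ hℨ.1 (FSch.ModSys.pullback p 𝔑) (fU q W) := Ψ₀ x
  have h1 : Ψ₀ (a • x) = a' • y := map_smul Ψ₀ a x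
  have h2 : (qM ℨ hℨ.1 (FSch.ModSys.pullback p 𝔑) k (fU q W) (a' • y) :
      Γ((Scheme.Modules.pullback (fL p k)).obj (𝔑.F k), ℨ.lvU hℨ.1 k (fU q W))) =
      pR ℨ hℨ.1 k (fU q W) a' • (show Γ((Scheme.Modules.pullback (fL p k)).obj (𝔑.F k), ℨ.lvU hℨ.1 k (fU q W))
        from qM ℨ hℨ.1 (FSch.ModSys.pullback p 𝔑) k (fU q W) y) :=
    (map_smul (qM ℨ hℨ.1 (FSch.ModSys.pullback p 𝔑) k (fU q W)) a' y).trans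
      (smul_LM ℨ hℨ.1 (FSch.ModSys.pullback p 𝔑) k a' _)
  refine (congrArg (fun t => rs ((Scheme.Modules.pullback (fL p k)).obj (𝔑.F k)) (fU_ge q hℨ.1 h𝔜.1 k W)
    (qM ℨ hℨ.1 (FSch.ModSys.pullback p 𝔑) k (fU q W) t)) h1).trans ?_
  refine ((congrArg (rs _ _) h2).trans (rs_smul _ _ _ _)).trans ?_
  show _ = HSMul.hSMul (β := Γ((Scheme.Modules.pullback (fL p k)).obj (𝔑.F k), fL q k ⁻¹ᵁ 𝔜.lvU h𝔜.1 k W))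
    (show Γ(ℨ.X k, fL q k ⁻¹ᵁ 𝔜.lvU h𝔜.1 k W) from (fL q k).app (𝔜.lvU h𝔜.1 k W) (pR 𝔜 h𝔜.1 k W a))
    (rs ((Scheme.Modules.pullback (fL p k)).obj (𝔑.F k)) (fU_ge q hℨ.1 h𝔜.1 k W)
      (qM ℨ hℨ.1 (FSch.ModSys.pullback p 𝔑) k (fU q W) y))
  refine congrArg (fun (c : Γ(ℨ.X k, fL q k ⁻¹ᵁ 𝔜.lvU h𝔜.1 k W)) => c •
    rs ((Scheme.Modules.pullback (fL p k)).obj (𝔑.F k)) (fU_ge q hℨ.1 h𝔜.1 k W)
      (qM ℨ hℨ.1 (FSch.ModSys.pullback p 𝔑) k (fU q W) y)) ?_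
  rw [sharp_level q hℨ.1 h𝔜.1 k W a, Scheme.Hom.app_eq_appLE]
  exact ConcreteCategory.congr_hom ((fL q k).appLE_map (fU_le q hℨ.1 h𝔜.1 k W)
    (homOfLE (fU_ge q hℨ.1 h𝔜.1 k W)).op) _

theorem qΨ_zero (k : ℕ) {W : (𝔜.X 0).Opens} (hW : IsAffineOpen W)
    (x : RM 𝔜 h𝔜.1 (FSch.ModSys.pullback g (MS f hf hcl 𝔑 h𝔑)) W)
    (hx : qM 𝔜 h𝔜.1 (FSch.ModSys.pullback g (MS f hf hcl 𝔑 h𝔑)) k W x = 0) :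
    qΨ p f q g w hℨ h𝔛 h𝔜 h𝔖 hf hcl 𝔑 h𝔑 eg ep eM k W x = 0 := by
  have hmem := (((RM_spec 𝔜 _ h𝔜 (isCoh_pullback_sys g _ (isCoh_MS f h𝔖 hf hcl 𝔑 h𝔑)) hW).2 k).2 x).1 hx
  have h0 : qM ℨ hℨ.1 (FSch.ModSys.pullback p 𝔑) k (fU q W)
      (((Ψ p f q g w hℨ h𝔛 h𝔜 h𝔖 hf hcl 𝔑 h𝔑 eg ep eM).val.app (op W)).hom x) = 0 :=
    qM_pushed_eq_zero q hℨ h𝔜 _ _ (Ψ p f q g w hℨ h𝔛 h𝔜 h𝔖 hf hcl 𝔑 h𝔑 eg ep eM) hW k x hmem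
  exact (congrArg (rs ((Scheme.Modules.pullback (fL p k)).obj (𝔑.F k)) (fU_ge q hℨ.1 h𝔜.1 k W)) h0).trans
    (map_zero _)

include heg hep heM hpb in
theorem qΨ_eq (k : ℕ) {V : (𝔖.X 0).Opens} {W : (𝔜.X 0).Opens} (hV : IsAffineOpen V) (hW : IsAffineOpen W)
    (eVW : W ≤ fU g V) (x : RM 𝔜 h𝔜.1 (FSch.ModSys.pullback g (MS f hf hcl 𝔑 h𝔑)) W) :
    qΨ p f q g w hℨ h𝔛 h𝔜 h𝔖 hf hcl 𝔑 h𝔑 eg ep eM k W x =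
      (bcT (hpb k).w (𝔑.F k)).app (𝔜.lvU h𝔜.1 k W)
        (qM 𝔜 h𝔜.1 (FSch.ModSys.pullback g (MS f hf hcl 𝔑 h𝔑)) k W x) := by
  let 𝔐 := MS f hf hcl 𝔑 h𝔑
  let 𝔐' := FSch.ModSys.pullback g 𝔐
  let u₀ := (bcT (hpb k).w (𝔑.F k)).app (𝔜.lvU h𝔜.1 k W)
  let F := qΨ p f q g w hℨ h𝔛 h𝔜 h𝔖 hf hcl 𝔑 h𝔑 eg ep eM k W
  have h𝔐 : 𝔐.IsCoh := isCoh_MS f h𝔖 hf hcl 𝔑 h𝔑
  haveI : Coh.IsQCoh (𝔐.F k) := (h𝔐 k).1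
  have eU : 𝔜.lvU h𝔜.1 k W ≤ fL g k ⁻¹ᵁ 𝔖.lvU h𝔖.1 k V :=
    (lvU_mono 𝔜 h𝔜.1 k eVW).trans (fU_le g h𝔜.1 h𝔖.1 k V)
  have key : ∀ y : Γ((Scheme.Modules.pullback (fL g k)).obj (𝔐.F k), 𝔜.lvU h𝔜.1 k W),
      ∃ x, qM 𝔜 h𝔜.1 𝔐' k W x = y ∧ F x = u₀ y := by
    letI : Algebra Γ(𝔖.X k, 𝔖.lvU h𝔖.1 k V) Γ(𝔜.X k, 𝔜.lvU h𝔜.1 k W) := ((fL g k).appLE _ _ eU).hom.toAlgebra
    letI := Module.compHom Γ((Scheme.Modules.pullback (fL g k)).obj (𝔐.F k), 𝔜.lvU h𝔜.1 k W)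
      ((fL g k).appLE _ _ eU).hom
    haveI : IsScalarTower Γ(𝔖.X k, 𝔖.lvU h𝔖.1 k V) Γ(𝔜.X k, 𝔜.lvU h𝔜.1 k W)
        Γ((Scheme.Modules.pullback (fL g k)).obj (𝔐.F k), 𝔜.lvU h𝔜.1 k W) :=
      IsScalarTower.of_algebraMap_smul fun _ _ => rfl
    have hbc := Groth.L16.AffineBC.isBaseChange_pull (fL g k) (𝔐.F k) (isAffineOpen_lvU 𝔖 h𝔖.1 hV k)
      (isAffineOpen_lvU 𝔜 h𝔜.1 hW k) eU
    intro y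
    induction y using hbc.inductionOn with
    | zero => exact ⟨0, map_zero _, (map_zero F).trans (map_zero u₀.hom).symm⟩
    | tmul n =>
      obtain ⟨m, hm⟩ := ((RM_spec 𝔖 𝔐 h𝔖 h𝔐 hV).2 k).1 n
      refine ⟨Groth.L17.FSheaf.res (R := ModSite.ringSh (𝔜.Osh h𝔜.1)) (𝔐'.realMod h𝔜.1) eVW
        ((((FSch.homMor g h𝔜.1 h𝔖.1).adj.homEquiv _ _ eg.hom).val.app (op V)).hom m), ?_, ?_⟩
      · refine (qM_res 𝔜 h𝔜.1 𝔐' k eVW _).trans ?_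
        refine (congrArg (rs _ _) (qM_unit g h𝔜 h𝔖 𝔐 eg heg k V m)).trans ?_
        refine (rs_rs ((Scheme.Modules.pullback (fL g k)).obj (𝔐.F k)) _ _ _).trans ?_
        rw [hm]
        rfl
      · refine (qΨ_gen p f q g w hℨ h𝔛 h𝔜 h𝔖 hf hcl hpb 𝔑 h𝔑 eg heg ep hep eM heM k eVW m).trans ?_
        rw [hm]
        rfl
    | smul c y hy =>
      obtain ⟨x, hx, hx'⟩ := hy
      obtain ⟨a, rfl⟩ := pR_surjective 𝔜 h𝔜.1 hW k c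
      refine ⟨a • x, ?_, ?_⟩
      · rw [map_smul, hx]; rfl
      · refine (qΨ_smul p f q g w hℨ h𝔛 h𝔜 h𝔖 hf hcl 𝔑 h𝔑 eg ep eM k W a x).trans ?_
        refine (congrArg (fun t => pR 𝔜 h𝔜.1 k W a • t) hx').trans ?_
        exact ((bcT (hpb k).w (𝔑.F k)).app_smul _ _).symm
    | add a b ha hb =>
      obtain ⟨x, hx, hx'⟩ := ha
      obtain ⟨x₂, hx₂, hx₂'⟩ := hb
      exact ⟨x + x₂, by rw [map_add, hx, hx₂], by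
        rw [map_add, hx', hx₂']; exact (map_add u₀.hom _ _).symm⟩
  obtain ⟨x', hx', hΨ⟩ := key (qM 𝔜 h𝔜.1 𝔐' k W x)
  refine Eq.trans ?_ hΨ
  rw [← sub_eq_zero]
  refine (map_sub F x x').symm.trans ?_
  exact qΨ_zero p f q g w hℨ h𝔛 h𝔜 h𝔖 hf hcl 𝔑 h𝔑 eg ep eM k hW _
    ((map_sub _ _ _).trans (sub_eq_zero.2 hx'.symm))

include hpb hcl h𝔑 in
theorem isIso_level (k : ℕ) : IsIso (bcT (hpb k).w (𝔑.F k)) :=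
  haveI := hcl k
  haveI := (h𝔑 k).1
  Groth.L17.DegZero.isIso_of_isAffineHom (fL f k) (fL g k) (fL p k) (fL q k) (𝔑.F k) (hpb k)

include hpb hcl h𝔑 in
theorem bijective_level (k : ℕ) (U : (𝔜.X k).Opens) : Function.Bijective ((bcT (hpb k).w (𝔑.F k)).app U) := by
  haveI := isIso_level p f q g hcl hpb 𝔑 h𝔑 k
  exact ⟨fun a b hab => by
      have := congrArg ((inv (bcT (hpb k).w (𝔑.F k))).app U) hab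
      rwa [← ConcreteCategory.comp_apply, ← ConcreteCategory.comp_apply, ← Scheme.Modules.Hom.comp_app,
        IsIso.hom_inv_id] at this,
    fun b => ⟨(inv (bcT (hpb k).w (𝔑.F k))).app U b, by
      rw [← ConcreteCategory.comp_apply, ← Scheme.Modules.Hom.comp_app, IsIso.inv_hom_id]; rfl⟩⟩

include heg hep heM hpb in
theorem injective_Ψ {V : (𝔖.X 0).Opens} {W : (𝔜.X 0).Opens} (hV : IsAffineOpen V) (hW : IsAffineOpen W)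
    (eVW : W ≤ fU g V) :
    Function.Injective ((Ψ p f q g w hℨ h𝔛 h𝔜 h𝔖 hf hcl 𝔑 h𝔑 eg ep eM).val.app (op W)).hom := by
  intro x y hxy
  refine qM_ext 𝔜 h𝔜.1 _ fun k => (bijective_level p f q g hcl hpb 𝔑 h𝔑 k _).1 ?_
  refine (qΨ_eq p f q g w hℨ h𝔛 h𝔜 h𝔖 hf hcl hpb 𝔑 h𝔑 eg heg ep hep eM heM k hV hW eVW x).symm.trans ?_
  refine Eq.trans ?_ (qΨ_eq p f q g w hℨ h𝔛 h𝔜 h𝔖 hf hcl hpb 𝔑 h𝔑 eg heg ep hep eM heM k hV hW eVW y)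
  exact congrArg (fun t => rs ((Scheme.Modules.pullback (fL p k)).obj (𝔑.F k)) (fU_ge q hℨ.1 h𝔜.1 k W)
    (qM ℨ hℨ.1 (FSch.ModSys.pullback p 𝔑) k (fU q W) t)) hxy

include heg hep heM hpb in
theorem surjective_Ψ {V : (𝔖.X 0).Opens} {W : (𝔜.X 0).Opens} (hV : IsAffineOpen V) (hW : IsAffineOpen W)
    (eVW : W ≤ fU g V) :
    Function.Surjective ((Ψ p f q g w hℨ h𝔛 h𝔜 h𝔖 hf hcl 𝔑 h𝔑 eg ep eM).val.app (op W)).hom := by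
  intro y₀
  let y : RM ℨ hℨ.1 (FSch.ModSys.pullback p 𝔑) (fU q W) := y₀
  let yk := fun k => rs ((Scheme.Modules.pullback (fL p k)).obj (𝔑.F k)) (fU_ge q hℨ.1 h𝔜.1 k W)
    (qM ℨ hℨ.1 (FSch.ModSys.pullback p 𝔑) k (fU q W) y)
  have h𝔐' := isCoh_pullback_sys g _ (isCoh_MS f h𝔖 hf hcl 𝔑 h𝔑)
  choose a ha using fun k => (bijective_level p f q g hcl hpb 𝔑 h𝔑 k (𝔜.lvU h𝔜.1 k W)).2 (yk k)
  have hc : ∀ k, tM 𝔜 h𝔜.1 (FSch.ModSys.pullback g (MS f hf hcl 𝔑 h𝔑)) k W (a (k + 1)) = a k := fun k => by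
    obtain ⟨x, hx⟩ := ((RM_spec 𝔜 _ h𝔜 h𝔐' hW).2 (k + 1)).1 (a (k + 1))
    refine (bijective_level p f q g hcl hpb 𝔑 h𝔑 k _).1 (Eq.trans ?_ (ha k).symm)
    rw [← hx]
    refine (congrArg _ (LinearMap.congr_fun (tM_qM 𝔜 h𝔜.1 _ k) x)).trans ?_
    refine (qΨ_eq p f q g w hℨ h𝔛 h𝔜 h𝔖 hf hcl hpb 𝔑 h𝔑 eg heg ep hep eM heM k hV hW eVW x).symm.trans ?_
    refine congrArg (rs ((Scheme.Modules.pullback (fL p k)).obj (𝔑.F k)) (fU_ge q hℨ.1 h𝔜.1 k W)) ?_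
    let Px := ((Ψ p f q g w hℨ h𝔛 h𝔜 h𝔖 hf hcl 𝔑 h𝔑 eg ep eM).val.app (op W)).hom x
    have hk1 : qM ℨ hℨ.1 (FSch.ModSys.pullback p 𝔑) (k + 1) (fU q W) Px =
        qM ℨ hℨ.1 (FSch.ModSys.pullback p 𝔑) (k + 1) (fU q W) y := by
      refine rs_bij_eq ((Scheme.Modules.pullback (fL p (k + 1))).obj (𝔑.F (k + 1)))
        (fU_ge q hℨ.1 h𝔜.1 (k + 1) W) (fU_le q hℨ.1 h𝔜.1 (k + 1) W) ?_
      refine (qΨ_eq p f q g w hℨ h𝔛 h𝔜 h𝔖 hf hcl hpb 𝔑 h𝔑 eg heg ep hep eM heM (k + 1) hV hW eVW x).trans ?_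
      rw [hx]
      exact ha (k + 1)
    exact (LinearMap.congr_fun (tM_qM ℨ hℨ.1 (FSch.ModSys.pullback p 𝔑) k) Px).symm.trans
      ((congrArg (tM ℨ hℨ.1 (FSch.ModSys.pullback p 𝔑) k (fU q W)) hk1).trans
        (LinearMap.congr_fun (tM_qM ℨ hℨ.1 (FSch.ModSys.pullback p 𝔑) k) y))
  obtain ⟨x, hx⟩ := exists_qM 𝔜 h𝔜.1 (FSch.ModSys.pullback g (MS f hf hcl 𝔑 h𝔑)) a hc
  refine ⟨x, qM_ext ℨ hℨ.1 (FSch.ModSys.pullback p 𝔑) fun k => ?_⟩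
  refine rs_bij_eq ((Scheme.Modules.pullback (fL p k)).obj (𝔑.F k))
    (fU_ge q hℨ.1 h𝔜.1 k W) (fU_le q hℨ.1 h𝔜.1 k W) ?_
  refine (qΨ_eq p f q g w hℨ h𝔛 h𝔜 h𝔖 hf hcl hpb 𝔑 h𝔑 eg heg ep hep eM heM k hV hW eVW x).trans ?_
  rw [hx k]
  exact ha k

include hf hcl hpb h𝔑 in
omit eg ep eM in
theorem isIso_bcMapF_realMod :
    IsIso (FSch.bcMapF p f q g w hℨ.1 h𝔛.1 h𝔜.1 h𝔖.1 (𝔑.realMod h𝔛.1)) := by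
  obtain ⟨eg, heg⟩ := exists_pullF_iso_realMod g (MS f hf hcl 𝔑 h𝔑) h𝔜 h𝔖 (isCoh_MS f h𝔖 hf hcl 𝔑 h𝔑)
  obtain ⟨ep, hep⟩ := exists_pullF_iso_realMod p 𝔑 hℨ h𝔛 h𝔑
  haveI := isIso_pushReal f hf (fun k => haveI := hcl k; inferInstance) 𝔑 (fun k => (h𝔑 k).1) h𝔛 h𝔖
  let eM : (FSch.pushF f h𝔛.1 h𝔖.1).obj (𝔑.realMod h𝔛.1) ≅ (MS f hf hcl 𝔑 h𝔑).realMod h𝔖.1 :=
    asIso (pushReal f hf (fun k => haveI := hcl k; inferInstance) 𝔑 (fun k => (h𝔑 k).1) h𝔛 h𝔖)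
  let Φ := Ψ p f q g w hℨ h𝔛 h𝔜 h𝔖 hf hcl 𝔑 h𝔑 eg ep eM
  have hB : Opens.IsBasis {W : (𝔜.X 0).Opens | IsAffineOpen W ∧ ∃ V, IsAffineOpen V ∧ W ≤ fU g V} := by
    refine Opens.isBasis_iff_nbhd.2 fun {U x} hx => ?_
    obtain ⟨_, ⟨V, hV, rfl⟩, hxV, -⟩ :=
      (𝔖.X 0).isBasis_affineOpens.exists_subset_of_mem_open (Set.mem_univ (fL g 0 x)) isOpen_univ
    obtain ⟨_, ⟨W, hW, rfl⟩, hxW, hWU⟩ := (𝔜.X 0).isBasis_affineOpens.exists_subset_of_mem_open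
      (show x ∈ U ⊓ fU g V from ⟨hx, hxV⟩) (U ⊓ fU g V).2
    exact ⟨W, ⟨hW, V, hV, fun z hz => (hWU hz).2⟩, hxW, fun z hz => (hWU hz).1⟩
  haveI : Mono Φ := mono_of_injective_basis hB Φ fun W hW => by
    obtain ⟨hW, V, hV, e⟩ := hW
    exact injective_Ψ p f q g w hℨ h𝔛 h𝔜 h𝔖 hf hcl hpb 𝔑 h𝔑 eg heg ep hep eM rfl hV hW e
  haveI : Epi Φ := epi_of_surjective_basis hB Φ fun W hW => by
    obtain ⟨hW, V, hV, e⟩ := hW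
    exact surjective_Ψ p f q g w hℨ h𝔛 h𝔜 h𝔖 hf hcl hpb 𝔑 h𝔑 eg heg ep hep eM rfl hV hW e
  haveI : IsIso Φ := isIso_of_mono_of_epi _
  have e : FSch.bcMapF p f q g w hℨ.1 h𝔛.1 h𝔜.1 h𝔖.1 (𝔑.realMod h𝔛.1) =
      (FSch.pullF g h𝔜.1 h𝔖.1).map eM.hom ≫ eg.hom ≫ Φ ≫ inv ((FSch.pushF q hℨ.1 h𝔜.1).map ep.hom) := by
    simp [Φ, Ψ]
  rw [e]
  infer_instance

end Groth.L17.ClosedBC
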