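import Groth.Agent.L17.FSheaf.FormalPush
import Groth.Agent.L17.FSheaf.CompPull
import Groth.Agent.L17.LimCoh
import Groth.Agent.L17.AffinePush
import Groth.Agent.L16.Rees.FormalFunctions

/-!
# Cohomology of completions of coherent modules
-/

set_option autoImplicit false
set_option linter.style.haveILetI false
set_option linter.unusedSectionVars false
set_option backward.isDefEq.respectTransparency false
set_option backward.isDefEq.respectTransparency.types false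
set_option maxHeartbeats 1500000

universe u

open CategoryTheory CategoryTheory.Limits AlgebraicGeometry TopologicalSpace Opposite Abelian

noncomputable section

namespace Groth.L17.FSheaf

open Groth.L18.Frame (rs ro pull rs_rs rs_self)
open Groth.L16.AffineBC (scal)
open Formal (modPow modPowπ modPowTrans modPowπ_trans)
open Formal2 (modPowLE modPowπ_modPowLE)

variable {X : Scheme.{u}} (𝔛 : FSch.Sys.{u}) (h : 𝔛.IsFormal) (p : ∀ k, 𝔛.X k ⟶ X)
  (hp : ∀ k, 𝔛.ι k ≫ p (k + 1) = p k) (𝔐 : FSch.ModSys 𝔛)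

/-- The transition maps on sections, through the direct images. -/
theorem tM_rs (k : ℕ) (W : X.Opens) (z : Γ(gObj 𝔛 p 𝔐 (k + 1), W)) :
    (tM 𝔛 h 𝔐 k (pU 𝔛 p W) (rs (𝔐.F (k + 1)) (pU_le 𝔛 h p hp (k + 1) W) z) :
      Γ(𝔐.F k, 𝔛.lvU h k (pU 𝔛 p W))) =
      rs (𝔐.F k) (pU_le 𝔛 h p hp k W) ((gTr 𝔛 p hp 𝔐 k).app W z) := by
  refine (tM_apply 𝔛 h 𝔐 k _).trans ?_
  refine Eq.trans ?_ (congrArg (rs (𝔐.F k) (pU_le 𝔛 h p hp k W)) (gTr_app 𝔛 p hp 𝔐 k W z)).symm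
  refine Eq.trans ?_ (Groth.L17.BC.PullSec.app_rs _ _ _)
  refine congrArg ((𝔐.e k).hom.app _) ?_
  rw [← Groth.L18.Frame.pull_rs, rs_rs, rs_rs]
  rfl

/-- The direct image of a limit on the scheme. -/
abbrev kPush : X.Modules := (kap 𝔛 h p hp).push.obj (𝔐.realMod h)

/-- The projection of the direct image of a limit to the direct images of the levels. -/
def rho (k : ℕ) : kPush 𝔛 h p hp 𝔐 ⟶ gObj 𝔛 p 𝔐 k :=
  haveI := isIso_schPushCompare 𝔛 h p hp k (𝔐.F k)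
  (kap 𝔛 h p hp).push.map (FSch.realProj 𝔛 h 𝔐.F 𝔐.toPush k) ≫
    inv ((FSch.schPushCompare 𝔛 h p hp k).app (𝔐.F k))

theorem rs_rho_app (k : ℕ) (W : X.Opens) (y : Γ(kPush 𝔛 h p hp 𝔐, W)) :
    rs (𝔐.F k) (pU_le 𝔛 h p hp k W)
      ((rho 𝔛 h p hp 𝔐 k).app W y) =
      qM 𝔛 h 𝔐 k (pU 𝔛 p W) (show RM 𝔛 h 𝔐 (pU 𝔛 p W) from y) := by
  haveI := isIso_schPushCompare 𝔛 h p hp k (𝔐.F k)
  exact ConcreteCategory.congr_hom (congrArg (fun t => Scheme.Modules.Hom.app t W)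
    (show rho 𝔛 h p hp 𝔐 k ≫ (FSch.schPushCompare 𝔛 h p hp k).app (𝔐.F k) =
      (kap 𝔛 h p hp).push.map (FSch.realProj 𝔛 h 𝔐.F 𝔐.toPush k) from
      (Category.assoc _ _ _).trans ((congrArg (_ ≫ ·) (IsIso.inv_hom_id _)).trans (Category.comp_id _))))
    y

theorem rs_injective (k : ℕ) (W : X.Opens) :
    Function.Injective (fun z : Γ(gObj 𝔛 p 𝔐 k, W) => rs (𝔐.F k) (pU_le 𝔛 h p hp k W) z) := fun a b e => by
  have e' := congrArg (rs (𝔐.F k) (FSch.lvU_p 𝔛 h p hp k W).le) e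
  rwa [rs_rs, rs_rs, rs_self, rs_self] at e'

theorem rho_gTr (k : ℕ) :
    rho 𝔛 h p hp 𝔐 (k + 1) ≫ gTr 𝔛 p hp 𝔐 k = rho 𝔛 h p hp 𝔐 k := by
  refine Groth.L16.AffineBC.hom_ext_affine _ _ fun W _ y => rs_injective 𝔛 h p hp 𝔐 k W ?_
  refine (tM_rs 𝔛 h p hp 𝔐 k W _).symm.trans ?_
  refine (congrArg (fun z => tM 𝔛 h 𝔐 k (pU 𝔛 p W) z) (rs_rho_app 𝔛 h p hp 𝔐 (k + 1) W y)).trans ?_
  exact (LinearMap.congr_fun (tM_qM 𝔛 h 𝔐 k) (show RM 𝔛 h 𝔐 (pU 𝔛 p W) from y)).trans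
    (rs_rho_app 𝔛 h p hp 𝔐 k W y).symm

theorem rho_ext (W : X.Opens) (x y : Γ(kPush 𝔛 h p hp 𝔐, W))
    (he : ∀ k, (rho 𝔛 h p hp 𝔐 k).app W x = (rho 𝔛 h p hp 𝔐 k).app W y) : x = y :=
  qM_ext 𝔛 h 𝔐 (U := pU 𝔛 p W) (x := (show RM 𝔛 h 𝔐 (pU 𝔛 p W) from x))
    (y := (show RM 𝔛 h 𝔐 (pU 𝔛 p W) from y)) fun k =>
      (rs_rho_app 𝔛 h p hp 𝔐 k W x).symm.trans
        ((congrArg (rs (𝔐.F k) (pU_le 𝔛 h p hp k W)) (he k)).trans (rs_rho_app 𝔛 h p hp 𝔐 k W y))

theorem exists_rho (W : X.Opens) (z : ∀ k, Γ(gObj 𝔛 p 𝔐 k, W))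
    (hz : ∀ k, (gTr 𝔛 p hp 𝔐 k).app W (z (k + 1)) = z k) :
    ∃ x : Γ(kPush 𝔛 h p hp 𝔐, W), ∀ k, (rho 𝔛 h p hp 𝔐 k).app W x = z k := by
  obtain ⟨x, hx⟩ := exists_qM 𝔛 h 𝔐 (U := pU 𝔛 p W) (fun k => rs (𝔐.F k) (pU_le 𝔛 h p hp k W) (z k))
    fun k => (tM_rs 𝔛 h p hp 𝔐 k W _).trans (congrArg (rs _ _) (hz k))
  exact ⟨x, fun k => rs_injective 𝔛 h p hp 𝔐 k W ((rs_rho_app 𝔛 h p hp 𝔐 k W x).trans (hx k))⟩

/-- Naturality of the comparison with cohomology over the whole space. -/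
theorem hTop_natural {Y : TopCat.{u}} {M N : AbSheaf Y} (a : M ⟶ N) {m : ℕ} (x : Sheaf.H.{u} M m) :
    hTopEquiv N m (Sheaf.H.map a m x) = huMap a (hTopEquiv M m x) :=
  (Ext.comp_assoc_of_third_deg_zero _ _ _ (zero_add m)).symm

section Coh

variable {A : Type u} [CommRing A] [IsNoetherianRing A] (I : Ideal A)

/-- Mittag-Leffler for the cohomology of the reductions, as solvability of difference equations. -/
theorem exists_solution [X.Over (Spec (CommRingCat.of A))] [IsProper (X ↘ Spec (CommRingCat.of A))]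
    {F : X.Modules} (hF : Coh.IsCoh F) (m : ℕ) (y : ∀ k, Formal.HHmodPow I F m k) :
    ∃ x : ∀ k, Formal.HHmodPow I F m k, ∀ k, x k - Formal.HHmodPowTrans I F m k (x (k + 1)) = y k := by
  obtain ⟨c, hc⟩ := Groth.L16.Rees.exists_range_eq I hF m
  refine Groth.L17.Tower.exists_solution_of_ml (Formal.HHmodPowTrans I F m)
    (fun i => ⟨i + c, Nat.le_add_right i c, fun k _ => ?_⟩) y
  rintro _ ⟨x, hx, rfl⟩
  obtain ⟨z, hz⟩ := hc i (i + c) (Nat.le_add_right i c) le_rfl (x (i + c))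
  haveI : ∀ l, Epi (modPowπ I l F) := fun l => inferInstanceAs (Epi (cokernel.π _))
  have hle : ∀ (j : ℕ) (hj : i ≤ j), j ≤ i + c →
      Groth.L16.CohLinear.hmap (modPowLE I (Nat.succ_le_succ hj) F) m (x j) = x i := by
    intro j hj
    induction j, hj using Nat.le_induction with
    | base =>
      intro _
      have h1 : modPowLE I (Nat.succ_le_succ (le_refl i)) F = 𝟙 _ := by
        rw [← cancel_epi (modPowπ I (i + 1) F), modPowπ_modPowLE, Category.comp_id]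
      rw [h1, Groth.L16.CohLinear.hmap_id]
    | succ j hj ih =>
      intro hjc
      have h1 : modPowLE I (Nat.succ_le_succ (hj.trans j.le_succ)) F =
          modPowTrans I (j + 1) F ≫ modPowLE I (Nat.succ_le_succ hj) F := by
        rw [← cancel_epi (modPowπ I (j + 1 + 1) F), modPowπ_modPowLE, ← Category.assoc, modPowπ_trans,
          modPowπ_modPowLE]
      rw [h1, Groth.L16.CohLinear.hmap_comp]
      exact (congrArg (Groth.L16.CohLinear.hmap (modPowLE I (Nat.succ_le_succ hj) F) m)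
        (hx j hj (by omega)).symm).trans (ih (by omega))
  refine ⟨fun n => Formal.toHHmodPow I F m n z, fun n _ _ => (Groth.L16.Rees.trans_toHHmodPow I F m n z).symm, ?_⟩
  exact hz.trans (hle (i + c) (Nat.le_add_right i c) le_rfl)

variable [X.Over (Spec (CommRingCat.of A))] [IsProper (X ↘ Spec (CommRingCat.of A))]
  [AlgebraicGeometry.IsNoetherian X]

include hp in
/-- The direct image of a completion is the limit of the reductions, on sections. -/
theorem exists_limit_cone (hX : 𝔛.IsLocNoethFormal) (hcl : ∀ k, IsClosedImmersion (p k)) (hcut : CutOver I 𝔛 p)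
    {F : X.Modules} (hF : Coh.IsCoh F) :
    ∃ π : ∀ k, kPush 𝔛 hX.1 p hp (pullSys 𝔛 p hp F) ⟶ modPow I (k + 1) F,
      (∀ k, π (k + 1) ≫ modPowTrans I (k + 1) F = π k) ∧
      (∀ (W : X.Opens) (x y : Γ(kPush 𝔛 hX.1 p hp (pullSys 𝔛 p hp F), W)),
        (∀ k, (π k).app W x = (π k).app W y) → x = y) ∧
      ∀ (W : X.Opens) (y : ∀ k, Γ(modPow I (k + 1) F, W)),
        (∀ k, (modPowTrans I (k + 1) F).app W (y (k + 1)) = y k) →
          ∃ x : Γ(kPush 𝔛 hX.1 p hp (pullSys 𝔛 p hp F), W), ∀ k, (π k).app W x = y k := by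
  haveI : Coh.IsQCoh F := hF.1
  haveI := hcl 0
  let 𝔐 := pullSys 𝔛 p hp F
  let L : X.Modules := kPush 𝔛 hX.1 p hp 𝔐
  have hv : ∀ k, ∀ W : X.Opens, IsAffineOpen W → Function.Surjective ((uG 𝔛 p hp F k).app W) ∧
      ∀ m, (uG 𝔛 p hp F k).app W m = 0 ↔
        m ∈ I.map (scal A X W) ^ (k + 1) • (⊤ : Submodule Γ(X, W) Γ(F, W)) := fun k W hW => by
    haveI := hcl k
    let U := p k ⁻¹ᵁ W
    let e : U ≤ p k ⁻¹ᵁ W := le_rfl
    let P := (Scheme.Modules.pullback (p k)).obj F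
    letI : Algebra Γ(X, W) Γ(𝔛.X k, U) := ((p k).appLE W U e).hom.toAlgebra
    letI := Module.compHom Γ(P, U) ((p k).appLE W U e).hom
    haveI : IsScalarTower Γ(X, W) Γ(𝔛.X k, U) Γ(P, U) := IsScalarTower.of_algebraMap_smul fun _ _ => rfl
    obtain ⟨hs, hk⟩ := surjective_of_baseChange _
      (Groth.L16.AffineBC.isBaseChange_pull (p k) F hW (hW.preimage _) e)
      (appLE_surjective_of_eq (p k) rfl (hcut k W hW).1)
    rw [show RingHom.ker (algebraMap Γ(X, W) Γ(𝔛.X k, U)) = I.map (scal A X W) ^ (k + 1) from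
      (ker_appLE (p k) rfl).trans (hcut k W hW).2] at hk
    have hres : ∀ m, Groth.L16.AffineBC.pullRes (p k) F e m = (uG 𝔛 p hp F k).app W m := fun m => rs_self _ _ _
    refine ⟨fun z => ?_, fun m => ?_⟩
    · obtain ⟨m, hm⟩ := hs z
      exact ⟨m, (hres m).symm.trans hm⟩
    · rw [← hk, LinearMap.mem_ker, hres]
  choose e he using fun k => exists_iso_modPow I hF (uG 𝔛 p hp F k) (k + 1) (hv k)
  let π : ∀ k, L ⟶ modPow I (k + 1) F := fun k => rho 𝔛 hX.1 p hp 𝔐 k ≫ (e k).inv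
  haveI : ∀ l, Epi (modPowπ I l F) := fun l => inferInstanceAs (Epi (cokernel.π _))
  have hnat : ∀ k, (e (k + 1)).inv ≫ modPowTrans I (k + 1) F = gTr 𝔛 p hp 𝔐 k ≫ (e k).inv := fun k => by
    rw [Iso.inv_comp_eq, ← Category.assoc, Iso.eq_comp_inv, ← cancel_epi (modPowπ I (k + 1 + 1) F),
      ← Category.assoc, modPowπ_trans, he, ← Category.assoc, he, uG_gTr]
  have hπ : ∀ k, π (k + 1) ≫ modPowTrans I (k + 1) F = π k := fun k => by
    simp only [π, Category.assoc, hnat]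
    rw [← Category.assoc, rho_gTr 𝔛 hX.1 p hp 𝔐 k]
  have hinv : ∀ k (W : X.Opens) (a : Γ(gObj 𝔛 p 𝔐 k, W)), (e k).hom.app W ((e k).inv.app W a) = a := fun k W a =>
    ConcreteCategory.congr_hom (congrArg (fun t => Scheme.Modules.Hom.app t W) (e k).inv_hom_id) a
  have hext : ∀ (W : X.Opens) (x y : Γ(L, W)), (∀ k, (π k).app W x = (π k).app W y) → x = y := fun W x y hxy =>
    rho_ext 𝔛 hX.1 p hp 𝔐 W x y fun k =>
      (hinv k W _).symm.trans ((congrArg ((e k).hom.app W) (hxy k)).trans (hinv k W _))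
  have hex : ∀ (W : X.Opens) (y : ∀ k, Γ(modPow I (k + 1) F, W)),
      (∀ k, (modPowTrans I (k + 1) F).app W (y (k + 1)) = y k) → ∃ x : Γ(L, W), ∀ k, (π k).app W x = y k := by
    intro W y hy
    obtain ⟨x, hx⟩ := exists_rho 𝔛 hX.1 p hp 𝔐 W (fun k => (e k).hom.app W (y k)) fun k => by
      have h1 : (e (k + 1)).hom ≫ gTr 𝔛 p hp 𝔐 k = modPowTrans I (k + 1) F ≫ (e k).hom := by
        rw [← Iso.eq_inv_comp, ← Category.assoc, hnat, Category.assoc, Iso.inv_hom_id, Category.comp_id]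
      exact (ConcreteCategory.congr_hom (congrArg (fun t => Scheme.Modules.Hom.app t W) h1) (y (k + 1))).trans
        (congrArg ((e k).hom.app W) (hy k))
    refine ⟨x, fun k => ?_⟩
    show (e k).inv.app W ((rho 𝔛 hX.1 p hp 𝔐 k).app W x) = y k
    rw [hx k]
    exact ConcreteCategory.congr_hom (congrArg (fun t => Scheme.Modules.Hom.app t W) (e k).hom_inv_id) (y k)
  exact ⟨π, hπ, hext, hex⟩

include I in
/-- The cohomology of a limit of the reductions is the limit of their cohomologies. -/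
theorem nonempty_HH_limit_equiv {F : X.Modules} (hF : Coh.IsCoh F) {L : X.Modules}
    (π : ∀ k, L ⟶ modPow I (k + 1) F) (hπ : ∀ k, π (k + 1) ≫ modPowTrans I (k + 1) F = π k)
    (hext : ∀ (W : X.Opens) (x y : Γ(L, W)), (∀ k, (π k).app W x = (π k).app W y) → x = y)
    (hex : ∀ (W : X.Opens) (y : ∀ k, Γ(modPow I (k + 1) F, W)),
      (∀ k, (modPowTrans I (k + 1) F).app W (y (k + 1)) = y k) → ∃ x : Γ(L, W), ∀ k, (π k).app W x = y k)
    (n : ℕ) : Nonempty (Coh.HH X L n ≃+ Formal.HHlim I F n) := by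
  let T := toAbF X
  let G : ℕ → AbSheaf X.toTopCat := fun k => T.obj (modPow I (k + 1) F)
  let t : ∀ k, G (k + 1) ⟶ G k := fun k => T.map (modPowTrans I (k + 1) F)
  let π' : ∀ k, T.obj L ⟶ G k := fun k => T.map (π k)
  have hsurj : ∀ W ∈ X.affineOpens, ∀ k, Function.Surjective ((t k).hom.app (op W)) := fun W hW k z => by
    obtain ⟨m, rfl⟩ := ((Groth.L16.Exist.modPow_spec I hF (k + 1)).2 W hW).1 z
    exact ⟨(modPowπ I (k + 1 + 1) F).app W m,
      ConcreteCategory.congr_hom (congrArg (fun t => Scheme.Modules.Hom.app t W) (modPowπ_trans I (k + 1) F)) m⟩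
  have hG : ∀ k, LimCoh.AcyclicOn (X := X.toTopCat) X.affineOpens (G k) := fun k W hW m x => by
    haveI : Coh.IsQCoh (modPow I (k + 1) F) := (Groth.L16.Exist.modPow_spec I hF (k + 1)).1.1
    exact hu_affine_eq_zero _ hW m x
  have key := LimCoh.hu_lim (X := X.toTopCat) X.isBasis_affineOpens G t π'
    (fun k => (T.map_comp _ _).symm.trans (congrArg T.map (hπ k))) hext hex hsurj hG ⊤ n
  let ν : ∀ {M N : X.Modules} (a : M ⟶ N) {m : ℕ} (x : Coh.HH X M m),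
      hTopEquiv (T.obj N) m (Sheaf.H.map (T.map a) m x) = huMap (T.map a) (hTopEquiv (T.obj M) m x) :=
    fun a m x => hTop_natural (T.map a) x
  have hml : ∀ m : ℕ, m + 1 = n → ∀ y : ∀ k, HU ⊤ (G k) m, ∃ x : ∀ k, HU ⊤ (G k) m,
      ∀ k, x k - huMap (t k) (x (k + 1)) = y k := by
    intro m _ y
    obtain ⟨x, hx⟩ := exists_solution I hF m fun k => (hTopEquiv (G k) m).symm (y k)
    refine ⟨fun k => hTopEquiv (G k) m (x k), fun k => ?_⟩
    rw [← ν (modPowTrans I (k + 1) F) (x (k + 1)), ← map_sub]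
    exact (congrArg _ (hx k)).trans (AddEquiv.apply_symm_apply _ _)
  let Φ : Coh.HH X L n →+ Formal.HHlim I F n :=
    AddMonoidHom.mk' (fun x => ⟨fun k => Sheaf.H.map (T.map (π k)) n x, fun k =>
      (Formal.HHmap_comp (π (k + 1)) (modPowTrans I (k + 1) F) n x).trans
        (congrArg (fun φ => Sheaf.H.map (T.map φ) n x) (hπ k))⟩)
      fun a b => Subtype.ext (funext fun k => map_add _ a b)
  have hΦ : Function.Bijective Φ := by
    refine ⟨(injective_iff_map_eq_zero Φ).2 fun x hx => (hTopEquiv (T.obj L) n).injective ?_, fun y => ?_⟩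
    · rw [map_zero]
      refine key.1 hml _ fun k => (ν (π k) x).symm.trans ?_
      exact (congrArg _ (congrFun (congrArg Subtype.val hx) k)).trans (map_zero _)
    · obtain ⟨x, hx⟩ := key.2 (fun k => hTopEquiv (G k) n (y.1 k)) fun k =>
        (ν (modPowTrans I (k + 1) F) (y.1 (k + 1))).symm.trans (congrArg _ (y.2 k))
      refine ⟨(hTopEquiv (T.obj L) n).symm x, Subtype.ext (funext fun k => (hTopEquiv (G k) n).injective ?_)⟩
      refine (ν (π k) _).trans ?_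
      rw [AddEquiv.apply_symm_apply]
      exact hx k
  exact ⟨AddEquiv.ofBijective Φ hΦ⟩

include hp in
/-- The cohomology of a completion is the limit of the cohomologies of the reductions. -/
theorem nonempty_HF_equiv (hX : 𝔛.IsLocNoethFormal) (hcl : ∀ k, IsClosedImmersion (p k)) (hcut : CutOver I 𝔛 p)
    {F : X.Modules} (hF : Coh.IsCoh F) (n : ℕ) :
    Nonempty (FSch.HF 𝔛 hX.1 ((kap 𝔛 hX.1 p hp).pull.obj F) n ≃+ Formal.HHlim I F n) := by
  haveI := hcl 0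
  obtain ⟨π, hπ, hext, hex⟩ := exists_limit_cone 𝔛 p hp I hX hcl hcut hF
  obtain ⟨c⟩ := nonempty_HH_limit_equiv I hF π hπ hext hex n
  let 𝔐 := pullSys 𝔛 p hp F
  let L : X.Modules := kPush 𝔛 hX.1 p hp 𝔐
  obtain ⟨eF, -⟩ := exists_pull_iso_pullSys 𝔛 p hp F hX hF
  obtain ⟨a⟩ : Nonempty (FSch.HF 𝔛 hX.1 ((kap 𝔛 hX.1 p hp).pull.obj F) n ≃+
      FSch.HF 𝔛 hX.1 (𝔐.realMod hX.1) n) :=
    ⟨((extFunctorObj _ n).mapIso ((SheafOfModules.toSheaf _).mapIso eF)).addCommGroupIsoToAddEquiv⟩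
  obtain ⟨b⟩ : Nonempty (FSch.HF 𝔛 hX.1 (𝔐.realMod hX.1) n ≃+ Coh.HH X L n) :=
    Groth.L10.TopCoh.nonempty_H_push (Y := X.toTopCat) (p 0).base
      (ModSite.toAb (𝔐.realMod hX.1)) (Groth.L10.TopCoh.locAcyclic_of_isClosedEmbedding _
        (p 0).isClosedEmbedding _) n
  exact ⟨a.trans (b.trans c)⟩

end Coh

end Groth.L17.FSheaf
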