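import Groth.Agent.L17.FSheaf.GrML
import Groth.Agent.L17.LimCoh
import Groth.Agent.L17.Tower
import Groth.Agent.L10.TopCoh
import Groth.Agent.L17.AffineVanishing

/-!
# The cohomology of a coherent module on a proper adic formal scheme is the limit over the levels
-/

set_option autoImplicit false
set_option linter.style.haveILetI false
set_option linter.unusedSectionVars false
set_option backward.isDefEq.respectTransparency false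
set_option backward.isDefEq.respectTransparency.types false

universe u

open CategoryTheory CategoryTheory.Limits AlgebraicGeometry TopologicalSpace Opposite Abelian

noncomputable section

namespace Groth.L17.FSheaf.GrQuot

open Groth.L17.FSheaf

variable {A : Type u} [CommRing A] [IsNoetherianRing A] {I : Ideal A} {𝔛 : FSch.Sys.{u}}
  {hX : 𝔛.IsLocNoethFormal} {𝔉 : FSch.ModF 𝔛 hX.1}

/-- The abelian sheaves of quasi-coherent modules on the levels have no cohomology on affine opens. -/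
theorem acyclicOn_push (h : 𝔛.IsFormal) (k : ℕ) (M : (𝔛.X k).Modules) [Coh.IsQCoh M] :
    LimCoh.AcyclicOn (X := (𝔛.X 0).toTopCat) (𝔛.X 0).affineOpens
      ((TF h).obj ((FSch.levelMor 𝔛 h k).push.obj M)) := by
  intro U hU m x
  haveI : IsIso (𝔛.gInv h k) := inferInstance
  have hemb : Topology.IsClosedEmbedding (𝔛.gInv h k) :=
    (TopCat.homeoOfIso (TopCat.isoOfHomeo (𝔛.levelHomeo h k)).symm).isClosedEmbedding
  obtain ⟨e⟩ := Groth.L10.SiteCoh.nonempty_push_compare (Opens.grothendieckTopology (𝔛.X 0))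
    (Opens.map (𝔛.gInv h k)) U
    (fun J' m _ => Groth.L10.TopCoh.subsingleton_ext_of_flasque _
      (@Groth.L10.TopCoh.isFlasque_of_injective _ _ (Groth.L10.TopCoh.push_injective (𝔛.gInv h k) J')) U m)
    (Coh.toAb M) (Groth.L10.TopCoh.locAcyclic_of_isClosedEmbedding _ hemb _) (m + 1)
  refine e.symm.injective ?_
  exact (hu_affine_eq_zero M (isAffineOpen_lvU 𝔛 h hU k) m (e.symm x)).trans (map_zero e.symm).symm

variable (h𝔉 : FSch.IsCohF 𝔛 hX.1 𝔉)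

/-- Shorthand for the levels. -/
abbrev levG (hX : 𝔛.IsLocNoethFormal) (𝔉 : FSch.ModF 𝔛 hX.1) (k : ℕ) :
    Sheaf (Opens.grothendieckTopology (𝔛.X 0)) AddCommGrpCat.{u} :=
  (TF hX.1).obj ((FSch.levelMor 𝔛 hX.1 k).push.obj ((FSch.levelMor 𝔛 hX.1 k).pull.obj 𝔉))

/-- The projections to the levels. -/
abbrev levπ (hX : 𝔛.IsLocNoethFormal) (𝔉 : FSch.ModF 𝔛 hX.1) (k : ℕ) : (TF hX.1).obj 𝔉 ⟶ levG hX 𝔉 k :=
  (TF hX.1).map ((FSch.levelMor 𝔛 hX.1 k).adj.unit.app 𝔉)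

/-- The transition maps of the levels. -/
abbrev levT (hX : 𝔛.IsLocNoethFormal) (𝔉 : FSch.ModF 𝔛 hX.1) (k : ℕ) : levG hX 𝔉 (k + 1) ⟶ levG hX 𝔉 k :=
  (TF hX.1).map (FSch.levelTrans 𝔛 hX.1 𝔉 k)

theorem levπ_levT (k : ℕ) : levπ hX 𝔉 (k + 1) ≫ levT hX 𝔉 k = levπ hX 𝔉 k :=
  ((TF hX.1).map_comp _ _).symm.trans (congrArg (TF hX.1).map (FSch.unit_levelTrans 𝔛 hX.1 𝔉 k))

theorem tM_levelTrans (k : ℕ) (U : (𝔛.X 0).Opens)
    (y : LM 𝔛 hX.1 (canonSys 𝔛 hX.1 𝔉) (k + 1) U) :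
    tM 𝔛 hX.1 (canonSys 𝔛 hX.1 𝔉) k U y = ((FSch.levelTrans 𝔛 hX.1 𝔉 k).val.app (op U)).hom y := by
  have h1 : (FSch.levelSysOf 𝔛 hX.1 (canonSys 𝔛 hX.1 𝔉).F (canonSys 𝔛 hX.1 𝔉).toPush).map
      (homOfLE (Nat.le_add_right k 1)).op = FSch.levelTrans 𝔛 hX.1 𝔉 k := by
    rw [FSch.levelSysOf_map_succ, canonSys_toPush]
    rfl
  exact LinearMap.congr_fun (congrArg (fun t : (FSch.levelMor 𝔛 hX.1 (k + 1)).push.obj _ ⟶ _ =>
    (t.val.app (op U)).hom) h1) y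

include h𝔉 in
theorem levπ_ext (W : (𝔛.X 0).Opens) (x y : ((TF hX.1).obj 𝔉).obj.obj (op W))
    (h : ∀ k, (levπ hX 𝔉 k).hom.app (op W) x = (levπ hX 𝔉 k).hom.app (op W) y) : x = y := by
  refine (canF_bijective 𝔛 hX h𝔉 W).1 (qM_ext 𝔛 hX.1 (canonSys 𝔛 hX.1 𝔉) fun k => ?_)
  exact (qM_toCanon 𝔛 hX 𝔉 k W x).trans ((h k).trans (qM_toCanon 𝔛 hX 𝔉 k W y).symm)

include h𝔉 in
theorem exists_ηF (W : (𝔛.X 0).Opens) (y : ∀ k, LM 𝔛 hX.1 (canonSys 𝔛 hX.1 𝔉) k W)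
    (hy : ∀ k, tM 𝔛 hX.1 (canonSys 𝔛 hX.1 𝔉) k W (y (k + 1)) = y k) :
    ∃ x : SF 𝔛 hX.1 𝔉 W, ∀ k, ηF 𝔛 hX.1 𝔉 k W x = y k := by
  obtain ⟨z, hz⟩ := exists_qM 𝔛 hX.1 (canonSys 𝔛 hX.1 𝔉) (U := W) y hy
  obtain ⟨x, hx⟩ := (canF_bijective 𝔛 hX h𝔉 W).2 z
  subst hx
  exact ⟨x, fun k => (qM_toCanon 𝔛 hX 𝔉 k W x).symm.trans (hz k)⟩

theorem exists_levTF {h : 𝔛.IsFormal} {M : FSch.ModF 𝔛 h} (G : ℕ → FSch.ModF 𝔛 h) (t : ∀ k, G (k + 1) ⟶ G k)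
    (π : ∀ k, M ⟶ G k) (W : (𝔛.X 0).Opens)
    (hex : ∀ y : ∀ k, SF 𝔛 h (G k) W, (∀ k, ((t k).val.app (op W)).hom (y (k + 1)) = y k) →
      ∃ x : SF 𝔛 h M W, ∀ k, ((π k).val.app (op W)).hom x = y k)
    (y : ∀ k, ((TF h).obj (G k)).obj.obj (op W))
    (hy : ∀ k, ((TF h).map (t k)).hom.app (op W) (y (k + 1)) = y k) :
    ∃ x, ∀ k, ((TF h).map (π k)).hom.app (op W) x = y k :=
  hex y hy

include h𝔉 in
theorem exists_unit_app (W : (𝔛.X 0).Opens)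
    (y : ∀ k, SF 𝔛 hX.1 ((FSch.levelMor 𝔛 hX.1 k).push.obj ((FSch.levelMor 𝔛 hX.1 k).pull.obj 𝔉)) W)
    (hy : ∀ k, ((FSch.levelTrans 𝔛 hX.1 𝔉 k).val.app (op W)).hom (y (k + 1)) = y k) :
    ∃ x : SF 𝔛 hX.1 𝔉 W, ∀ k, (((FSch.levelMor 𝔛 hX.1 k).adj.unit.app 𝔉).val.app (op W)).hom x = y k :=
  exists_ηF (hX := hX) h𝔉 W (fun k => y k) (fun k => (tM_levelTrans (hX := hX) k W (y (k + 1))).trans (hy k))

include h𝔉 in
theorem exists_levπ (W : (𝔛.X 0).Opens) (y : ∀ k, (levG hX 𝔉 k).obj.obj (op W))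
    (hy : ∀ k, (levT hX 𝔉 k).hom.app (op W) (y (k + 1)) = y k) :
    ∃ x, ∀ k, (levπ hX 𝔉 k).hom.app (op W) x = y k :=
  exists_levTF (fun k => (FSch.levelMor 𝔛 hX.1 k).push.obj ((FSch.levelMor 𝔛 hX.1 k).pull.obj 𝔉))
    (fun k => FSch.levelTrans 𝔛 hX.1 𝔉 k) (fun k => (FSch.levelMor 𝔛 hX.1 k).adj.unit.app 𝔉) W
    (exists_unit_app (hX := hX) h𝔉 W) y hy

include h𝔉 in
theorem surjective_levT (W : (𝔛.X 0).Opens) (hW : IsAffineOpen W) (k : ℕ) :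
    Function.Surjective ((levT hX 𝔉 k).hom.app (op W)) := fun z => by
  obtain ⟨x, rfl⟩ := ((SF_spec 𝔛 hX h𝔉 hW).2 k).1 z
  exact ⟨(levπ hX 𝔉 (k + 1)).hom.app (op W) x,
    ConcreteCategory.congr_hom
      (congrArg (fun t : (TF hX.1).obj 𝔉 ⟶ levG hX 𝔉 k => t.hom.app (op W)) (levπ_levT k)) x⟩

/-- Difference equations in a Mittag-Leffler tower. -/
theorem exists_solution_of_isML (G : ℕ → Type u) [∀ k, AddCommGroup (G k)] (g : ∀ k, G (k + 1) →+ G k)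
    {H : ℕ → Type u} [∀ k, AddCommGroup (H k)] (T : ∀ {i j : ℕ}, i ≤ j → (H j →+ H i))
    (hid : ∀ i y, T (le_refl i) y = y)
    (hcomp : ∀ {i j l : ℕ} (h : i ≤ j) (h' : j ≤ l) y, T h (T h' y) = T (h.trans h') y)
    (e : ∀ k, H (k + 1) →+ G k) (hsurj : ∀ k, Function.Surjective (e k))
    (he : ∀ k y, g k (e (k + 1) y) = e k (T (k + 1).le_succ y)) (r : ℕ)
    (hr : ∀ (i l : ℕ) (hil : i + r ≤ l) (y : H (i + r)), ∃ y' : H l,
      T ((Nat.le_add_right i r).trans hil) y' = T (Nat.le_add_right i r) y) (y : ∀ k, G k) :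
    ∃ x : ∀ k, G k, ∀ k, x k - g k (x (k + 1)) = y k := by
  refine Groth.L17.Tower.exists_solution_of_ml g (fun i => ⟨i + r, Nat.le_add_right i r, fun k hk => ?_⟩) y
  rintro _ ⟨x, hx, rfl⟩
  obtain ⟨z, hz⟩ := hsurj (i + r) (x (i + r))
  obtain ⟨M, hM⟩ : ∃ M, M = max k (i + r) := ⟨_, rfl⟩
  obtain ⟨z', hz'⟩ := hr (i + 1) (M + 1) (by omega)
    (T (show i + 1 + r ≤ i + r + 1 by omega) z)
  let w : ∀ n, G n := fun n => if h : n ≤ M then e n (T (Nat.succ_le_succ h) z') else 0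
  refine ⟨w, fun n hn hn' => ?_, ?_⟩
  · have h1 : n + 1 ≤ M := hM ▸ le_trans hn' (le_max_left _ _)
    simp only [w, dif_pos (show n ≤ M from Nat.le_of_succ_le h1), dif_pos h1, he, hcomp]
  · simp only [w, dif_pos (show i ≤ M by omega)]
    have hd : ∀ (n : ℕ) (h₁ : i ≤ n) (h₂ : n ≤ i + r), x n = e n (T (Nat.succ_le_succ h₂) z) := by
      intro n h₁ h₂
      obtain ⟨d, hd⟩ := Nat.exists_eq_add_of_le h₂
      induction d generalizing n with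
      | zero =>
        obtain rfl : n = i + r := by omega
        rw [hid, hz]
      | succ d ih =>
        rw [hx n h₁ (by omega), ih (n + 1) (by omega) (by omega) (by omega), he, hcomp]
    rw [hd i le_rfl (Nat.le_add_right i r)]
    refine congrArg (e i) ?_
    refine hz'.trans ?_
    rw [hcomp]

variable {f : 𝔛 ⟶ FSch.spf A I} (hf : FSch.IsAdicHom f)

include h𝔉 hf in
/-- Cohomology is the limit of the cohomology of the levels. -/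
theorem hF_levels_bijective (hproper : IsProper ((f : FSch.Hom 𝔛 (FSch.spf A I)).app 0)) (n : ℕ) :
    (∀ x : Sheaf.H ((TF hX.1).obj 𝔉) n, (∀ k, Sheaf.H.map (levπ hX 𝔉 k) n x = 0) → x = 0) ∧
    ∀ y : ∀ k, Sheaf.H (levG hX 𝔉 k) n, (∀ k, Sheaf.H.map (levT hX 𝔉 k) n (y (k + 1)) = y k) →
      ∃ x : Sheaf.H ((TF hX.1).obj 𝔉) n, ∀ k, Sheaf.H.map (levπ hX 𝔉 k) n x = y k := by
  have hG : ∀ k, LimCoh.AcyclicOn (X := (𝔛.X 0).toTopCat) (𝔛.X 0).affineOpens (levG hX 𝔉 k) := fun k =>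
    haveI : Coh.IsQCoh (LF 𝔛 hX.1 𝔉 k) := (isCoh_canonSys 𝔛 hX 𝔉 h𝔉 k).1
    acyclicOn_push hX.1 k (LF 𝔛 hX.1 𝔉 k)
  have key := LimCoh.hu_lim (X := (𝔛.X 0).toTopCat) (𝔛.X 0).isBasis_affineOpens (levG hX 𝔉) (levT hX 𝔉)
    (levπ hX 𝔉) levπ_levT (levπ_ext h𝔉) (exists_levπ h𝔉) (surjective_levT h𝔉) hG ⊤ n
  let τ : ∀ (F : Sheaf (Opens.grothendieckTopology (𝔛.X 0)) AddCommGrpCat.{u}) (m : ℕ),
      Sheaf.H F m ≃+ HU (X := (𝔛.X 0).toTopCat) ⊤ F m := fun F m => hTopEquiv (X := (𝔛.X 0).toTopCat) F m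
  have ν : ∀ {M N : Sheaf (Opens.grothendieckTopology (𝔛.X 0)) AddCommGrpCat.{u}} (a : M ⟶ N) {m : ℕ}
      (x : Sheaf.H M m), τ N m (Sheaf.H.map a m x) = huMap a (τ M m x) := fun a m x =>
    (Ext.comp_assoc_of_third_deg_zero _ _ _ (zero_add m)).symm
  let G : ℕ → AbSheaf (𝔛.X 0).toTopCat := levG hX 𝔉
  have hml : ∀ m : ℕ, m + 1 = n → ∀ y : ∀ k, HU (X := (𝔛.X 0).toTopCat) ⊤ (G k) m,
      ∃ x : ∀ k, HU (X := (𝔛.X 0).toTopCat) ⊤ (G k) m,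
        ∀ k, x k - (show HU (X := (𝔛.X 0).toTopCat) ⊤ (G k) m from huMap (levT hX 𝔉 k) (x (k + 1))) = y k := by
    intro m _ y
    obtain ⟨D⟩ := nonempty_data f hX hf 𝔉 h𝔉
    obtain ⟨θ, -, hθ⟩ := D.exists_levelIso hf h𝔉
    obtain ⟨r, hr⟩ := D.exists_range_stable hf h𝔉 hproper m
    obtain ⟨x, hx⟩ := exists_solution_of_isML (fun k => Sheaf.H (levG hX 𝔉 k) m)
      (fun k => Sheaf.H.map (levT hX 𝔉 k) m)
      (H := fun k => Sheaf.H ((TF hX.1).obj (D.Q k)) m) (fun {i j} h => hF (D.tr h) m)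
      (fun i y => by rw [D.tr_self, hF_id]) (fun {i j l} h h' y => by rw [← hF_comp, D.tr_comp])
      (fun k => hF (θ k).hom m) (fun k z => ⟨hF (θ k).inv m z, by rw [← hF_comp, Iso.inv_hom_id, hF_id]⟩)
      (fun k y => by
        show hF (FSch.levelTrans 𝔛 hX.1 𝔉 k) m (hF (θ (k + 1)).hom m y) = _
        rw [← hF_comp, hθ k, hF_comp]) r hr (fun k => (τ _ m).symm (y k))
    refine ⟨fun k => τ _ m (x k), fun k => ?_⟩
    rw [← ν (levT hX 𝔉 k) (x (k + 1)), ← map_sub]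
    exact (congrArg _ (hx k)).trans (AddEquiv.apply_symm_apply _ _)
  refine ⟨fun x hx => (τ _ n).injective ?_, fun y hy => ?_⟩
  · rw [map_zero]
    refine key.1 hml _ fun k => (ν (levπ hX 𝔉 k) x).symm.trans ?_
    rw [hx k, map_zero]
  · obtain ⟨x, hx⟩ := key.2 (fun k => τ _ n (y k)) fun k =>
      (ν (levT hX 𝔉 k) (y (k + 1))).symm.trans (congrArg _ (hy k))
    refine ⟨(τ _ n).symm x, fun k => (τ _ n).injective ?_⟩
    rw [ν, AddEquiv.apply_symm_apply]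
    exact hx k

end Groth.L17.FSheaf.GrQuot
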