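import Groth.Agent.L17.FSheaf.GrPieces
import Groth.Agent.L17.TowerObstruction
import Groth.Prelude.Def_ARSys

/-!
# Mittag-Leffler for the cohomology of the reductions on a proper adic formal scheme
-/

set_option autoImplicit false
set_option linter.style.haveILetI false
set_option linter.unusedSectionVars false
set_option backward.isDefEq.respectTransparency false
set_option backward.isDefEq.respectTransparency.types false

universe u

open CategoryTheory CategoryTheory.Limits AlgebraicGeometry TopologicalSpace Opposite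

noncomputable section

namespace Groth.L17.FSheaf.GrQuot

open Groth.L17.FSheaf Groth.L17.FSheaf.AdicBase
open Groth.L17.TowerObstruction (kerIncl)

variable {A : Type u} [CommRing A] [IsNoetherianRing A] {I : Ideal A} {𝔛 : FSch.Sys.{u}}
  {f : 𝔛 ⟶ FSch.spf A I} {hX : 𝔛.IsLocNoethFormal}

/-- The abelian sheaf of a module on the formal scheme. -/
abbrev TF (h : 𝔛.IsFormal) :
    FSch.ModF 𝔛 h ⥤ Sheaf (Opens.grothendieckTopology (𝔛.X 0)) AddCommGrpCat.{u} :=
  SheafOfModules.toSheaf _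

/-- The induced map on cohomology. -/
abbrev hF {h : 𝔛.IsFormal} {M N : FSch.ModF 𝔛 h} (φ : M ⟶ N) (p : ℕ) :
    Sheaf.H ((TF h).obj M) p →+ Sheaf.H ((TF h).obj N) p :=
  Sheaf.H.map ((TF h).map φ) p

theorem hF_comp {h : 𝔛.IsFormal} {M N P : FSch.ModF 𝔛 h} (φ : M ⟶ N) (ψ : N ⟶ P) (p : ℕ) (x : Sheaf.H ((TF h).obj M) p) :
    hF (φ ≫ ψ) p x = hF ψ p (hF φ p x) := by
  show Sheaf.H.map ((TF h).map (φ ≫ ψ)) p x = _
  rw [Functor.map_comp, Sheaf.H.map_comp_apply]

theorem hF_id {h : 𝔛.IsFormal} {M : FSch.ModF 𝔛 h} (p : ℕ) (x : Sheaf.H ((TF h).obj M) p) : hF (𝟙 M) p x = x := by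
  show Sheaf.H.map ((TF h).map (𝟙 M)) p x = _
  rw [CategoryTheory.Functor.map_id, Sheaf.H.map_id_apply]

variable {𝔉 : FSch.ModF 𝔛 hX.1} (D : Data f hX 𝔉)

/-- The inclusion of a graded piece in the kernel of a longer transition. -/
def Data.incl {m k : ℕ} (h : m ≤ k) : D.gr k ⟶ kernel (D.tr (h.trans k.le_succ)) :=
  kerIncl D.Q (fun {_ _} h => D.tr h) (fun {_ _ _} h h' => D.tr_comp h h') h k.le_succ

theorem Data.incl_ι {m k : ℕ} (h : m ≤ k) : D.incl h ≫ kernel.ι _ = kernel.ι (D.tr k.le_succ) :=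
  kernel.lift_ι _ _ _

theorem Data.incl_comp {m' m k : ℕ} (h' : m' ≤ m) (h : m ≤ k) :
    D.incl h ≫ kernel.map (D.tr (h.trans k.le_succ)) (D.tr ((h'.trans h).trans k.le_succ)) (𝟙 _) (D.tr h')
      (by rw [Category.id_comp, D.tr_comp]) = D.incl (h'.trans h) := by
  rw [← cancel_mono (kernel.ι _), Category.assoc, kernel.lift_ι, Category.comp_id, D.incl_ι, D.incl_ι]

/-- Multiplication on the kernels of transitions. -/
theorem Data.exists_kerMul {m k m' l : ℕ} (h : m ≤ k) (h' : m' ≤ l) (a : A) (ha : a ∈ I ^ (l - k))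
    (ha' : a ∈ I ^ (m' - m)) :
    ∃ κ : kernel (D.tr (h.trans k.le_succ)) ⟶ kernel (D.tr (h'.trans l.le_succ)),
      D.grMul a ha ≫ D.incl h' = D.incl h ≫ κ := by
  refine ⟨kernel.lift _ (kernel.ι _ ≫ D.mul a (succ_sub_succ_mem ha)) ?_, ?_⟩
  · rw [Category.assoc, ← D.tr_mul (h'.trans l.le_succ) (h.trans k.le_succ) a (succ_sub_succ_mem ha) ha',
      kernel.condition_assoc, Limits.zero_comp]
  · rw [← cancel_mono (kernel.ι _), Category.assoc, Category.assoc, D.incl_ι, kernel.lift_ι,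
      reassoc_of% (D.incl_ι h), D.grMul_ι]

variable (hf : FSch.IsAdicHom f)

/-- The classes of a graded piece which vanish in the kernel of a transition of bounded length. -/
def Data.killSub (p r k : ℕ) : AddSubgroup (Coh.HH (𝔛.X 0) (D.E k) p) :=
  (((hF (D.incl (Nat.sub_le k r)) p)).comp (Sheaf.H.map (D.grIso hf k).inv p)).ker

theorem Data.mem_killSub {p r k : ℕ} (x : Coh.HH (𝔛.X 0) (D.E k) p) :
    x ∈ D.killSub hf p r k ↔ hF (D.incl (Nat.sub_le k r)) p (Sheaf.H.map (D.grIso hf k).inv p x) = 0 :=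
  Iff.rfl

include hf in
/-- Classes of the graded pieces dying in a reduction die in a kernel of bounded length. -/
theorem Data.exists_shift (h𝔉 : FSch.IsCohF 𝔛 hX.1 𝔉)
    (hproper : IsProper ((f : FSch.Hom 𝔛 (FSch.spf A I)).app 0)) (p : ℕ) :
    ∃ r, ∀ (m k : ℕ) (h : m ≤ k), m + r ≤ k → ∀ x : Sheaf.H ((TF hX.1).obj (D.gr k)) p,
      hF (kernel.ι (D.tr k.le_succ)) p x = 0 → hF (D.incl h) p x = 0 := by
  letI := overA f
  haveI : IsClosedImmersion (FSch.spfToSpec A I 0) :=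
    IsClosedImmersion.spec_of_surjective _ Ideal.Quotient.mk_surjective
  haveI := hproper
  haveI : IsProper ((𝔛.X 0) ↘ Spec (CommRingCat.of A)) :=
    inferInstanceAs (IsProper (((f : FSch.Hom 𝔛 (FSch.spf A I)).app 0) ≫ FSch.spfToSpec A I 0))
  have hmono : ∀ (r r' : ℕ), r ≤ r' → ∀ k, D.killSub hf p r k ≤ D.killSub hf p r' k := by
    intro r r' hrr k x hx
    rw [D.mem_killSub] at hx ⊢
    rw [← D.incl_comp (Nat.sub_le_sub_left hrr k) (Nat.sub_le k r), hF_comp, hx, map_zero]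
  obtain ⟨r₀, hr₀⟩ := Groth.L17.GradedFinite.exists_stationary (D.grMod h𝔉 hf) p (D.killSub hf p)
    (fun r k => hmono r (r + 1) r.le_succ k) fun r k l hkl a ha y hy => by
      obtain ⟨κ, hκ⟩ := D.exists_kerMul (Nat.sub_le k r) (Nat.sub_le l r) a ha
        (Ideal.pow_le_pow_right (show (l - r) - (k - r) ≤ l - k by omega) ha)
      have hy' := (D.mem_killSub hf y).1 hy
      rw [D.mem_killSub]
      have h1 : Sheaf.H.map (D.grIso hf l).inv p (Groth.L16.CohLinear.hmap ((D.grMod h𝔉 hf).mul hkl a ha) p y) =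
          hF (D.grMul a ha) p (Sheaf.H.map (D.grIso hf k).inv p y) := by
        show Sheaf.H.map (D.grIso hf l).inv p (Sheaf.H.map (Groth.L16.CohLinear.tm (D.mulE a ha)) p y) = _
        rw [← Sheaf.H.map_comp_apply]
        refine Eq.trans ?_ (Sheaf.H.map_comp_apply _ _ _)
        congr 1
        refine congrArg (fun t => Sheaf.H.map t p) ?_
        rw [Iso.comp_inv_eq, Category.assoc, D.grIso_natural hf a ha, Iso.inv_hom_id_assoc]
      rw [h1, ← hF_comp, hκ, hF_comp, hy', map_zero]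
  refine ⟨r₀, fun m k h hmk x hx => ?_⟩
  obtain ⟨y, rfl⟩ : ∃ y : Coh.HH (𝔛.X 0) (D.E k) p, Sheaf.H.map (D.grIso hf k).inv p y = x :=
    ⟨Sheaf.H.map (D.grIso hf k).hom p x, by
      rw [← Sheaf.H.map_comp_apply, Iso.hom_inv_id, Sheaf.H.map_id_apply]⟩
  have h0 : y ∈ D.killSub hf p (max k r₀) k := by
    rw [D.mem_killSub]
    have hz : IsZero (D.Q (k - max k r₀)) := by
      rw [Nat.sub_eq_zero_of_le (le_max_left k r₀)]
      exact D.isZero_zero
    let s : D.Q (k + 1) ⟶ kernel (D.tr ((Nat.sub_le k (max k r₀)).trans k.le_succ)) :=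
      kernel.lift _ (𝟙 _) (hz.eq_of_tgt _ _)
    have hs : D.incl (Nat.sub_le k (max k r₀)) = kernel.ι (D.tr k.le_succ) ≫ s := by
      rw [← cancel_mono (kernel.ι _), Category.assoc, kernel.lift_ι, Category.comp_id, D.incl_ι]
    rw [hs, hF_comp, hx, map_zero]
  rw [hr₀ _ (le_max_right k r₀) k] at h0
  have h1 := (D.mem_killSub hf y).1 h0
  rw [← D.incl_comp (show m ≤ k - r₀ by omega) (Nat.sub_le k r₀), hF_comp, h1, map_zero]

include hf in
/-- Mittag-Leffler for the cohomology of the reductions. -/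
theorem Data.exists_range_stable (h𝔉 : FSch.IsCohF 𝔛 hX.1 𝔉)
    (hproper : IsProper ((f : FSch.Hom 𝔛 (FSch.spf A I)).app 0)) (n : ℕ) :
    ∃ r, ∀ (i l : ℕ) (hil : i + r ≤ l) (y : Sheaf.H ((TF hX.1).obj (D.Q (i + r))) n),
      ∃ y' : Sheaf.H ((TF hX.1).obj (D.Q l)) n,
        hF (D.tr ((Nat.le_add_right i r).trans hil)) n y' = hF (D.tr (Nat.le_add_right i r)) n y := by
  obtain ⟨r, hr⟩ := D.exists_shift hf h𝔉 hproper (n + 1)
  haveI : PreservesFiniteColimits (TF hX.1) := inferInstance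
  haveI : PreservesFiniteLimits (TF hX.1) := inferInstance
  exact ⟨r, Groth.L17.TowerObstruction.exists_of_le _ (TF hX.1) D.Q (fun {_ _} h => D.tr h)
    (fun {_ _ _} h h' => D.tr_comp h h') (fun {_ _} h => D.epi_tr h) n r hr⟩

include hf in
/-- The reductions are the direct images of the inverse images to the levels. -/
theorem Data.exists_levelIso (h𝔉 : FSch.IsCohF 𝔛 hX.1 𝔉) :
    ∃ θ : ∀ k, D.Q (k + 1) ≅ (FSch.levelMor 𝔛 hX.1 k).push.obj ((FSch.levelMor 𝔛 hX.1 k).pull.obj 𝔉),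
      (∀ k, D.π (k + 1) ≫ (θ k).hom = (FSch.levelMor 𝔛 hX.1 k).adj.unit.app 𝔉) ∧
      ∀ k, (θ (k + 1)).hom ≫ FSch.levelTrans 𝔛 hX.1 𝔉 k = D.tr (k + 1).le_succ ≫ (θ k).hom := by
  have hJ : ∀ {U : (𝔛.X 0).Opens}, IsAffineOpen U → ∀ k,
      J 𝔛 hX.1 U ^ (k + 1) = (I ^ (k + 1)).map (ΓU f hX.1 U) := fun hU k => by
    rw [J_eq f hX hf hU, Ideal.map_pow]
  have hkill : ∀ k, ∀ a ∈ I ^ (k + 1), sc f hX a 𝔉 ≫ (FSch.levelMor 𝔛 hX.1 k).adj.unit.app 𝔉 = 0 := by
    intro k a ha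
    refine hom_ext_basis (B := {V | IsAffineOpen (V : (𝔛.X 0).Opens)}) (𝔛.X 0).isBasis_affineOpens _ _
      fun U hU x => ?_
    refine (((SF_spec 𝔛 hX h𝔉 hU).2 k).2 (ΓU f hX.1 U a • x)).2 ?_
    rw [hJ hU k]
    exact Submodule.smul_mem_smul (Ideal.mem_map_of_mem _ ha) Submodule.mem_top
  let ψ := fun k => D.desc (k + 1) ((FSch.levelMor 𝔛 hX.1 k).adj.unit.app 𝔉) (hkill k)
  have hψ : ∀ k, D.π (k + 1) ≫ ψ k = (FSch.levelMor 𝔛 hX.1 k).adj.unit.app 𝔉 := fun k => D.π_desc _ _ _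
  have hiso : ∀ k, IsIso (ψ k) := by
    intro k
    haveI : Epi (ψ k) := epi_of_surjective_basis (B := {V | IsAffineOpen (V : (𝔛.X 0).Opens)})
      (𝔛.X 0).isBasis_affineOpens _ fun U hU z => by
        obtain ⟨x, hx⟩ := ((SF_spec 𝔛 hX h𝔉 hU).2 k).1 z
        exact ⟨((D.π (k + 1)).val.app (op U)).hom x,
          (LinearMap.congr_fun (congrArg (fun t => ((t : 𝔉 ⟶ _).val.app (op U)).hom) (hψ k)) x).trans hx⟩
    haveI : Mono (ψ k) := by
      refine Preadditive.mono_of_kernel_zero (hom_ext_basis (B := {V | IsAffineOpen (V : (𝔛.X 0).Opens)})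
        (𝔛.X 0).isBasis_affineOpens _ _ fun U hU z => ?_)
      obtain ⟨x, hx⟩ := D.surjective h𝔉 (k + 1) hU (((kernel.ι (ψ k)).val.app (op U)).hom z)
      show ((kernel.ι (ψ k)).val.app (op U)).hom z = 0
      rw [← hx]
      refine app_eq_zero_of_mem (D.π (k + 1)) (D.kills (k + 1)) ?_
      rw [← hJ hU k]
      refine (((SF_spec 𝔛 hX h𝔉 hU).2 k).2 x).1 ?_
      refine (LinearMap.congr_fun (congrArg (fun t => ((t : 𝔉 ⟶ _).val.app (op U)).hom) (hψ k)) x).symm.trans ?_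
      refine (congrArg ((ψ k).val.app (op U)).hom hx).trans ?_
      exact LinearMap.congr_fun (congrArg (fun t => ((t : kernel (ψ k) ⟶ _).val.app (op U)).hom)
        (kernel.condition (ψ k))) z
    exact isIso_of_mono_of_epi _
  refine ⟨fun k => @asIso _ _ _ _ (ψ k) (hiso k), hψ, fun k => ?_⟩
  haveI := D.epi (k + 1 + 1)
  rw [← cancel_epi (D.π (k + 1 + 1))]
  show D.π (k + 1 + 1) ≫ ψ (k + 1) ≫ _ = D.π (k + 1 + 1) ≫ D.tr _ ≫ ψ k
  rw [reassoc_of% hψ (k + 1), FSch.unit_levelTrans, reassoc_of% (D.π_tr (k + 1).le_succ), hψ]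

theorem imageSubobject_le_of_comp {C : Type*} [Category C] [Abelian C] {A B X : C} (g : A ⟶ X) (f : B ⟶ X)
    (h : g ≫ cokernel.π f = 0) : imageSubobject g ≤ imageSubobject f := by
  have h1 : f ≫ cokernel.π (imageSubobject f).arrow = 0 :=
    (congrArg (fun k => k ≫ cokernel.π (imageSubobject f).arrow) (imageSubobject_arrow_comp f).symm).trans
      ((Category.assoc _ _ _).trans
        ((congrArg (fun k => factorThruImageSubobject f ≫ k) (cokernel.condition _)).trans Limits.comp_zero))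
  have h2 : g ≫ cokernel.π (imageSubobject f).arrow = 0 := by
    rw [← cokernel.π_desc f _ h1, ← Category.assoc, h, Limits.zero_comp]
  exact imageSubobject_le g (Abelian.monoLift _ g h2) (Abelian.monoLift_comp _ g h2)

/-- Mittag-Leffler from stability of the images in a tower mapping onto the given one. -/
theorem isML_of_stable (G : ℕ → Type u) [∀ k, AddCommGroup (G k)] (g : ∀ k, G (k + 1) →+ G k)
    {H : ℕ → Type u} [∀ k, AddCommGroup (H k)] (T : ∀ {i j : ℕ}, i ≤ j → (H j →+ H i))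
    (hid : ∀ i y, T (le_refl i) y = y)
    (hcomp : ∀ {i j l : ℕ} (h : i ≤ j) (h' : j ≤ l) y, T h (T h' y) = T (h.trans h') y)
    (e : ∀ k, H (k + 1) →+ G k) (hsurj : ∀ k, Function.Surjective (e k))
    (he : ∀ k y, g k (e (k + 1) y) = e k (T (k + 1).le_succ y)) (r : ℕ)
    (hr : ∀ (i l : ℕ) (hil : i + r ≤ l) (y : H (i + r)), ∃ y' : H l,
      T ((Nat.le_add_right i r).trans hil) y' = T (Nat.le_add_right i r) y) :
    ARSys.IsML (Functor.ofOpSequence (X := fun k => AddCommGrpCat.of (G k))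
      (fun k => AddCommGrpCat.ofHom (g k))) := by
  set S := Functor.ofOpSequence (X := fun k => AddCommGrpCat.of (G k)) (fun k => AddCommGrpCat.ofHom (g k))
  have hmap : ∀ (i j : ℕ) (h : i ≤ j) (y : H (j + 1)),
      (S.map (homOfLE h).op).hom (e j y) = e i (T (Nat.succ_le_succ h) y) := by
    intro i j h
    induction j, h using Nat.le_induction with
    | base =>
      intro y
      rw [show (homOfLE (le_refl i)).op = 𝟙 (op i) from rfl, CategoryTheory.Functor.map_id, hid]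
      rfl
    | succ j hij ih =>
      intro y
      rw [show (homOfLE (hij.trans j.le_succ)).op = (homOfLE j.le_succ).op ≫ (homOfLE hij).op from rfl,
        Functor.map_comp]
      show (S.map (homOfLE hij).op).hom ((S.map (homOfLE j.le_succ).op).hom (e (j + 1) y)) = _
      rw [show S.map (homOfLE j.le_succ).op = AddCommGrpCat.ofHom (g j) from
        Functor.ofOpSequence_map_homOfLE_succ _ j]
      show (S.map (homOfLE hij).op).hom (g j (e (j + 1) y)) = _
      rw [he, ih, hcomp]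
  intro i
  refine ⟨r, fun s hs => le_antisymm (imageSubobject_le_of_comp _ _ ?_) (imageSubobject_le_of_comp _ _ ?_)⟩
  · have e : ARSys.shiftMap S s i = S.map (homOfLE (Nat.add_le_add_left hs i)).op ≫ ARSys.shiftMap S r i :=
      S.map_comp (homOfLE (Nat.add_le_add_left hs i)).op (homOfLE (Nat.le_add_right i r)).op
    rw [e]
    exact (Category.assoc _ _ _).trans ((congrArg (_ ≫ ·) (cokernel.condition _)).trans Limits.comp_zero)
  · refine AddCommGrpCat.hom_ext (AddMonoidHom.ext fun z => ?_)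
    obtain ⟨y, rfl⟩ := hsurj (i + r) z
    obtain ⟨y', hy'⟩ := hr (i + 1) (i + s + 1) (by omega)
      (T (show i + 1 + r ≤ i + r + 1 by omega) y)
    have key : (ARSys.shiftMap S r i).hom (e (i + r) y) = (ARSys.shiftMap S s i).hom (e (i + s) y') := by
      refine (hmap i (i + r) (Nat.le_add_right i r) y).trans ?_
      refine Eq.trans ?_ (hmap i (i + s) (Nat.le_add_right i s) y').symm
      refine congrArg (e i) ?_
      refine Eq.trans ?_ hy'.symm
      rw [hcomp]
    show (cokernel.π (ARSys.shiftMap S s i)).hom ((ARSys.shiftMap S r i).hom (e (i + r) y)) = 0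
    rw [key]
    exact ConcreteCategory.congr_hom (cokernel.condition (ARSys.shiftMap S s i)) _

include hf in
/-- Mittag-Leffler for the cohomology of the levels. -/
theorem isML_levels (h𝔉 : FSch.IsCohF 𝔛 hX.1 𝔉)
    (hproper : IsProper ((f : FSch.Hom 𝔛 (FSch.spf A I)).app 0)) (n : ℕ) :
    ARSys.IsML (Functor.ofOpSequence
      (X := fun k => AddCommGrpCat.of (Sheaf.H
        ((TF hX.1).obj ((FSch.levelMor 𝔛 hX.1 k).push.obj ((FSch.levelMor 𝔛 hX.1 k).pull.obj 𝔉))) n))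
      (fun k => AddCommGrpCat.ofHom (hF (FSch.levelTrans 𝔛 hX.1 𝔉 k) n))) := by
  obtain ⟨D⟩ := nonempty_data f hX hf 𝔉 h𝔉
  obtain ⟨θ, -, hθ⟩ := D.exists_levelIso hf h𝔉
  obtain ⟨r, hr⟩ := D.exists_range_stable hf h𝔉 hproper n
  refine isML_of_stable _ (fun k => hF (FSch.levelTrans 𝔛 hX.1 𝔉 k) n)
    (H := fun k => Sheaf.H ((TF hX.1).obj (D.Q k)) n) (fun {i j} h => hF (D.tr h) n)
    (fun i y => by rw [D.tr_self, hF_id]) (fun {i j l} h h' y => by rw [← hF_comp, D.tr_comp])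
    (fun k => hF (θ k).hom n) (fun k z => ⟨hF (θ k).inv n z, by rw [← hF_comp, Iso.inv_hom_id, hF_id]⟩)
    (fun k y => by rw [← hF_comp, hθ k, hF_comp]) r hr

end Groth.L17.FSheaf.GrQuot
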