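import Groth.Agent.L17.FSheaf.GrQuot
import Groth.Agent.L17.GradedFinite

/-!
# The graded pieces of a coherent module, on the smallest level
-/

set_option autoImplicit false
set_option linter.style.haveILetI false
set_option linter.unusedSectionVars false
set_option backward.isDefEq.respectTransparency false
set_option backward.isDefEq.respectTransparency.types false

universe u

open CategoryTheory CategoryTheory.Limits AlgebraicGeometry TopologicalSpace Opposite

noncomputable section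

namespace Groth.L17.FSheaf.GrQuot

open Groth.L17.FSheaf Groth.L17.FSheaf.AdicBase
open Groth.L18.Frame (rs rs_self)

variable {A : Type u} [CommRing A] [IsNoetherianRing A] {I : Ideal A} {𝔛 : FSch.Sys.{u}}
  (f : 𝔛 ⟶ FSch.spf A I) (hX : 𝔛.IsLocNoethFormal)

/-- The smallest level over the base ring. -/
@[reducible] def overA : (𝔛.X 0).Over (Spec (CommRingCat.of A)) := ⟨pA f 0⟩

theorem resTop_eq {Z : Scheme.{u}} (g : Z ⟶ Spec (CommRingCat.of A)) (a : A) (V : Z.Opens) :
    (show Γ(Z, V) from Coh.resTop Z (op V) (Coh.toGlobal g a)) =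
      (g.appLE ⊤ V le_top).hom ((Scheme.ΓSpecIso (CommRingCat.of A)).inv a) := by
  rfl

/-- Inverse image to the smallest level of a scalar multiplication. -/
theorem pull_sc (a : A) (N : FSch.ModF 𝔛 hX.1) :
    (FSch.levelMor 𝔛 hX.1 0).pull.map (sc f hX a N) =
      (letI := overA f; Formal.smulMod A (LF 𝔛 hX.1 N 0) a) := by
  letI := overA f
  refine ((FSch.levelMor 𝔛 hX.1 0).adj.homEquiv _ _).injective ?_
  rw [Adjunction.homEquiv_unit, Adjunction.homEquiv_unit]
  refine ((FSch.levelMor 𝔛 hX.1 0).adj.unit.naturality (sc f hX a N)).symm.trans ?_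
  refine hom_ext_basis (B := {V | IsAffineOpen (V : (𝔛.X 0).Opens)}) (𝔛.X 0).isBasis_affineOpens _ _
    fun U hU x => ?_
  show ηF 𝔛 hX.1 N 0 U (ΓU f hX.1 U a • x) =
    (Formal.smulMod A (LF 𝔛 hX.1 N 0) a).app (𝔛.lvU hX.1 0 U) (ηF 𝔛 hX.1 N 0 U x)
  rw [ηF_smul, pR_ΓU]
  refine Eq.trans ?_ (Groth.L16.Rees.smulModΓ_app (LF 𝔛 hX.1 N 0) _ _ _).symm
  exact congrArg (· • ηF 𝔛 hX.1 N 0 U x) (resTop_eq (pA f 0) a _).symm

variable (hf : FSch.IsAdicHom f)

include hf in
/-- A coherent module killed by the ideal is the direct image of its inverse image to the smallest level. -/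
theorem isIso_unit_of_killed {N : FSch.ModF 𝔛 hX.1} (hN : FSch.IsCohF 𝔛 hX.1 N)
    (hk : ∀ b ∈ I, sc f hX b N = 0) : IsIso ((FSch.levelMor 𝔛 hX.1 0).adj.unit.app N) := by
  let η := (FSch.levelMor 𝔛 hX.1 0).adj.unit.app N
  haveI : Epi η := epi_of_surjective_basis (B := {V | IsAffineOpen (V : (𝔛.X 0).Opens)})
    (𝔛.X 0).isBasis_affineOpens η fun U hU => ((SF_spec 𝔛 hX hN hU).2 0).1
  haveI : Mono η := by
    refine Preadditive.mono_of_kernel_zero (hom_ext_basis (B := {V | IsAffineOpen (V : (𝔛.X 0).Opens)})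
      (𝔛.X 0).isBasis_affineOpens _ _ fun U hU z => ?_)
    let y : SF 𝔛 hX.1 N U := ((kernel.ι η).val.app (op U)).hom z
    have hy : ηF 𝔛 hX.1 N 0 U y = 0 :=
      LinearMap.congr_fun (congrArg (fun t => ((t : kernel η ⟶ _).val.app (op U)).hom) (kernel.condition η)) z
    have hmem := (((SF_spec 𝔛 hX hN hU).2 0).2 y).1 hy
    rw [zero_add, pow_one, J_eq f hX hf hU] at hmem
    exact app_eq_zero_of_mem (𝟙 N) (fun b hb => by rw [Category.comp_id]; exact hk b hb) hmem
  exact isIso_of_mono_of_epi η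

variable {f hX} {𝔉 : FSch.ModF 𝔛 hX.1} (D : Data f hX 𝔉)

/-- The graded pieces as modules on the smallest level. -/
abbrev Data.E (k : ℕ) : (𝔛.X 0).Modules := LF 𝔛 hX.1 (D.gr k) 0

/-- Multiplication between the graded pieces on the smallest level. -/
abbrev Data.mulE {k l : ℕ} (a : A) (ha : a ∈ I ^ (l - k)) : D.E k ⟶ D.E l :=
  (FSch.levelMor 𝔛 hX.1 0).pull.map (D.grMul a ha)

theorem Data.grMul_add {k l : ℕ} (a b : A) (ha : a ∈ I ^ (l - k)) (hb : b ∈ I ^ (l - k)) :
    D.grMul a ha + D.grMul b hb = D.grMul (a + b) (add_mem ha hb) := by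
  rw [← cancel_mono (kernel.ι (D.tr l.le_succ)), Preadditive.add_comp, D.grMul_ι, D.grMul_ι, D.grMul_ι,
    D.mul_add a b (succ_sub_succ_mem ha) (succ_sub_succ_mem hb), Preadditive.comp_add]

theorem Data.mul_smul {i j : ℕ} (r a : A) (ha : a ∈ I ^ (i - j)) :
    D.mul (r * a) (Ideal.mul_mem_left _ r ha) = D.mul a ha ≫ sc f hX r (D.Q i) := by
  haveI := D.epi j
  rw [← cancel_epi (D.π j), D.π_mul, reassoc_of% (D.π_mul a ha), ← sc_comm, ← Category.assoc, sc_mul,
    mul_comm a r]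

theorem Data.grMul_smul {k l : ℕ} (r a : A) (ha : a ∈ I ^ (l - k)) :
    D.grMul (r * a) (Ideal.mul_mem_left _ r ha) = D.grMul a ha ≫ sc f hX r (D.gr l) := by
  rw [← cancel_mono (kernel.ι (D.tr l.le_succ)), Category.assoc, sc_comm, D.grMul_ι,
    reassoc_of% (D.grMul_ι a ha), D.mul_smul r a (succ_sub_succ_mem ha)]

theorem Data.grMul_comp {k m l : ℕ} (a : A) (ha : a ∈ I ^ (m - k)) (a' : A) (ha' : a' ∈ I ^ (l - m))
    (hc : a' * a ∈ I ^ (l - k)) : D.grMul a ha ≫ D.grMul a' ha' = D.grMul (a' * a) hc := by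
  rw [← cancel_mono (kernel.ι (D.tr l.le_succ)), Category.assoc, D.grMul_ι, reassoc_of% (D.grMul_ι a ha),
    D.mul_mul a (succ_sub_succ_mem ha) a' (succ_sub_succ_mem ha') (by rw [mul_comm]; exact succ_sub_succ_mem hc),
    D.grMul_ι]
  exact congrArg (kernel.ι _ ≫ ·) (D.mul_congr (mul_comm a a') _ _)

theorem Data.grMul_one (k : ℕ) (h1 : (1 : A) ∈ I ^ (k - k)) : D.grMul 1 h1 = 𝟙 (D.gr k) := by
  rw [← cancel_mono (kernel.ι (D.tr k.le_succ)), D.grMul_ι, Category.id_comp]
  refine (congrArg (kernel.ι _ ≫ ·) ?_).trans (Category.comp_id _)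
  exact D.tr_self (k + 1)

/-- The graded module on the smallest level. -/
def Data.grMod (h𝔉 : FSch.IsCohF 𝔛 hX.1 𝔉) (hf : FSch.IsAdicHom f) :
    letI := overA f
    Groth.L17.GradedFinite.GrMod A I (𝔛.X 0) := by
  letI := overA f
  haveI : (FSch.levelMor 𝔛 hX.1 0).pull.IsLeftAdjoint := (FSch.levelMor 𝔛 hX.1 0).adj.isLeftAdjoint
  haveI : PreservesFiniteColimits (FSch.levelMor 𝔛 hX.1 0).pull :=
    PreservesColimitsOfSize.preservesFiniteColimits.{0, 0} _
  haveI : (FSch.levelMor 𝔛 hX.1 0).pull.Additive := Functor.additive_of_preserves_binary_products _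
  exact
  { E := D.E
    mul := fun {_ _} _ a ha => D.mulE a ha
    mul_add := fun {k l} _ a b ha hb =>
      (congrArg (FSch.levelMor 𝔛 hX.1 0).pull.map (D.grMul_add a b ha hb)).symm.trans (Functor.map_add _)
    mul_smul := fun {k l} _ r a ha => by
      show (FSch.levelMor 𝔛 hX.1 0).pull.map (D.grMul (r * a) _) = _
      rw [D.grMul_smul r a ha, Functor.map_comp, pull_sc]
    mul_comp := fun {k m l} _ _ a ha a' ha' hc =>
      (Functor.map_comp _ _ _).symm.trans
        (congrArg (FSch.levelMor 𝔛 hX.1 0).pull.map (D.grMul_comp a ha a' ha' hc))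
    mul_one := fun k h1 =>
      (congrArg (FSch.levelMor 𝔛 hX.1 0).pull.map (D.grMul_one k h1)).trans (CategoryTheory.Functor.map_id _ _)
    coh := isCoh_canonSys 𝔛 hX (D.gr 0) (D.isCohF_gr 0) 0
    qcoh := fun k => (isCoh_canonSys 𝔛 hX (D.gr k) (D.isCohF_gr k) 0).1
    gen := fun k => ⟨fun {T} u v huv => by
      refine ((FSch.levelMor 𝔛 hX.1 0).adj.homEquiv _ _).injective
        (D.grMul_generate hf h𝔉 k _ _ fun a ha => ?_)
      refine ((FSch.levelMor 𝔛 hX.1 0).adj.homEquiv_naturality_left (D.grMul a ha) u).symm.trans ?_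
      refine Eq.trans ?_ ((FSch.levelMor 𝔛 hX.1 0).adj.homEquiv_naturality_left (D.grMul a ha) v)
      refine congrArg _ ?_
      have h1 := congrArg (Sigma.ι (fun _ : ↥(I ^ k) => D.E 0) ⟨a, by rwa [Nat.sub_zero] at ha⟩ ≫ ·) huv
      simp only [Sigma.ι_desc_assoc] at h1
      exact h1⟩ }

/-- The opens of the smallest level are those of the space. -/
theorem lvU_zero (h : 𝔛.IsFormal) (U : (𝔛.X 0).Opens) : 𝔛.lvU h 0 U = U :=
  (show 𝔛.lvU h 0 U = 𝔛.toX 0 ⁻¹ᵁ 𝔛.lvU h 0 U from rfl).trans (toX_preimage_lvU 𝔛 h 0 U)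

/-- The abelian sheaf of a module on the smallest level, on the space. -/
def toAbPush (h : 𝔛.IsFormal) (M : (𝔛.X 0).Modules) :
    (SheafOfModules.toSheaf _).obj ((FSch.levelMor 𝔛 h 0).push.obj M) ≅ Coh.toAb M :=
  (fullyFaithfulSheafToPresheaf _ _).preimageIso <| NatIso.ofComponents
    (fun U => M.presheaf.mapIso (eqToIso (congrArg op (lvU_zero h U.unop))))
    fun {U V} i => by
      show M.presheaf.map _ ≫ M.presheaf.map _ = M.presheaf.map _ ≫ M.presheaf.map _
      rw [← Functor.map_comp, ← Functor.map_comp]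
      congr 1

theorem toAbPush_natural (h : 𝔛.IsFormal) {M N : (𝔛.X 0).Modules} (φ : M ⟶ N) :
    (SheafOfModules.toSheaf _).map ((FSch.levelMor 𝔛 h 0).push.map φ) ≫ (toAbPush h N).hom =
      (toAbPush h M).hom ≫ Groth.L16.CohLinear.tm φ := by
  apply Sheaf.hom_ext
  ext U x
  exact (ConcreteCategory.congr_hom
    (φ.mapPresheaf.naturality (eqToHom (congrArg op (lvU_zero h U.unop)))) x).symm

/-- The abelian sheaves of the graded pieces. -/
def Data.grIso (hf : FSch.IsAdicHom f) (k : ℕ) :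
    (SheafOfModules.toSheaf _).obj (D.gr k) ≅ Coh.toAb (D.E k) :=
  haveI := isIso_unit_of_killed f hX hf (D.isCohF_gr k) fun _ hb => D.sc_gr k hb
  (SheafOfModules.toSheaf _).mapIso (asIso ((FSch.levelMor 𝔛 hX.1 0).adj.unit.app (D.gr k))) ≪≫
    toAbPush hX.1 (D.E k)

theorem Data.grIso_natural (hf : FSch.IsAdicHom f) {k l : ℕ} (a : A) (ha : a ∈ I ^ (l - k)) :
    (SheafOfModules.toSheaf _).map (D.grMul a ha) ≫ (D.grIso hf l).hom =
      (D.grIso hf k).hom ≫ Groth.L16.CohLinear.tm (D.mulE a ha) := by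
  show (SheafOfModules.toSheaf _).map _ ≫ (SheafOfModules.toSheaf _).map _ ≫ _ =
    ((SheafOfModules.toSheaf _).map _ ≫ _) ≫ _
  rw [Category.assoc, ← Category.assoc]
  refine (congrArg (· ≫ _) ((Functor.map_comp _ _ _).symm.trans
    (congrArg (SheafOfModules.toSheaf _).map ((FSch.levelMor 𝔛 hX.1 0).adj.unit.naturality (D.grMul a ha))))).trans ?_
  refine (congrArg (· ≫ _) (Functor.map_comp _ _ _)).trans ?_
  refine (Category.assoc _ _ _).trans ?_
  exact congrArg (_ ≫ ·) (toAbPush_natural hX.1 (D.mulE a ha))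

end Groth.L17.FSheaf.GrQuot
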