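import Groth.Agent.L17.FSheaf.AdicBase

/-!
# The reductions of a coherent module on an adic formal scheme, with multiplication maps
-/

set_option autoImplicit false
set_option linter.style.haveILetI false
set_option linter.unusedSectionVars false
set_option backward.isDefEq.respectTransparency false
set_option backward.isDefEq.respectTransparency.types false

universe u

open CategoryTheory CategoryTheory.Limits AlgebraicGeometry TopologicalSpace Opposite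

noncomputable section

namespace Groth.L17.FSheaf.GrQuot

open Groth.L17.FSheaf Groth.L17.FSheaf.AdicBase
open DerComp (smulEnd)

variable {A : Type u} [CommRing A] [IsNoetherianRing A] {I : Ideal A} {𝔛 : FSch.Sys.{u}}
  (f : 𝔛 ⟶ FSch.spf A I) (hX : 𝔛.IsLocNoethFormal) (hf : FSch.IsAdicHom f)

/-- Multiplication by a scalar. -/
abbrev sc (a : A) (M : FSch.ModF 𝔛 hX.1) : M ⟶ M := smulEnd (O := 𝔛.Osh hX.1) (gs f hX.1 a) M

theorem sc_app (a : A) (M : FSch.ModF 𝔛 hX.1) (U : (𝔛.X 0).Opens) (x : SF 𝔛 hX.1 M U) :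
    ((sc f hX a M).val.app (op U)).hom x = (show SF 𝔛 hX.1 M U from ΓU f hX.1 U a • x) := rfl

theorem sc_comm (a : A) {M N : FSch.ModF 𝔛 hX.1} (φ : M ⟶ N) : sc f hX a M ≫ φ = φ ≫ sc f hX a N :=
  DerComp.smulEnd_comm _ φ

theorem sc_mul (a b : A) (M : FSch.ModF 𝔛 hX.1) : sc f hX a M ≫ sc f hX b M = sc f hX (a * b) M := by
  rw [sc, sc, sc, DerComp.smulEnd_comp, map_mul]

theorem sc_add (a b : A) (M : FSch.ModF 𝔛 hX.1) : sc f hX (a + b) M = sc f hX a M + sc f hX b M := by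
  rw [sc, sc, sc, map_add, DerComp.smulEnd_add]

theorem sc_one (M : FSch.ModF 𝔛 hX.1) : sc f hX 1 M = 𝟙 M := by
  rw [sc, map_one, DerComp.smulEnd_one]

theorem sc_zero (M : FSch.ModF 𝔛 hX.1) : sc f hX 0 M = 0 := by
  rw [sc, map_zero, DerComp.smulEnd_zero]

variable {f hX}

/-- A morphism killing the multiples by an ideal kills the sections in its multiples. -/
theorem app_eq_zero_of_mem {M N : FSch.ModF 𝔛 hX.1} (g : M ⟶ N) {K : Ideal A}
    (hg : ∀ a ∈ K, sc f hX a M ≫ g = 0) {U : (𝔛.X 0).Opens} {x : SF 𝔛 hX.1 M U}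
    (hx : x ∈ K.map (ΓU f hX.1 U) • (⊤ : Submodule (O 𝔛 hX.1 U) (SF 𝔛 hX.1 M U))) :
    (g.val.app (op U)).hom x = 0 := by
  refine Submodule.smul_induction_on hx (fun r hr m _ => ?_) fun x y hx hy => ?_
  · refine Submodule.span_induction (p := fun r _ => ∀ m : SF 𝔛 hX.1 M U,
      (g.val.app (op U)).hom (r • m) = 0) ?_ ?_ ?_ ?_ hr m
    · rintro _ ⟨a, ha, rfl⟩ m
      exact LinearMap.congr_fun (congrArg (fun t => ((t : M ⟶ N).val.app (op U)).hom) (hg a ha)) m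
    · intro m
      exact (congrArg (g.val.app (op U)).hom (zero_smul _ m)).trans (map_zero _)
    · intro r s _ _ hr hs m
      refine (congrArg (g.val.app (op U)).hom (add_smul r s m)).trans ?_
      rw [map_add, hr, hs, add_zero]
    · intro c r _ hr m
      refine (congrArg (g.val.app (op U)).hom (smul_assoc c r m)).trans ?_
      exact (map_smul _ c _).trans ((congrArg (c • ·) (hr m)).trans (smul_zero _))
  · rw [map_add, hx, hy, add_zero]

variable (f hX) (𝔉 : FSch.ModF 𝔛 hX.1) (h𝔉 : FSch.IsCohF 𝔛 hX.1 𝔉)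

include hf h𝔉 in
/-- The quotient by finitely many scalars. -/
theorem exists_quot (t : Finset A) :
    ∃ (Q : FSch.ModF 𝔛 hX.1) (π : 𝔉 ⟶ Q), FSch.IsCohF 𝔛 hX.1 Q ∧ Epi π ∧
      (∀ a ∈ (Ideal.span (t : Set A)), sc f hX a 𝔉 ≫ π = 0) ∧
      ∀ (U : (𝔛.X 0).Opens), IsAffineOpen U → ∀ x : SF 𝔛 hX.1 𝔉 U, (π.val.app (op U)).hom x = 0 →
        x ∈ (Ideal.span (t : Set A)).map (ΓU f hX.1 U) • (⊤ : Submodule (O 𝔛 hX.1 U) (SF 𝔛 hX.1 𝔉 U)) := by
  classical
  induction t using Finset.induction with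
  | empty =>
    refine ⟨𝔉, 𝟙 𝔉, h𝔉, inferInstance, fun a ha => ?_, fun U _ x hx => ?_⟩
    · rw [Finset.coe_empty, Ideal.span_empty, Ideal.mem_bot] at ha
      rw [ha, sc_zero, Limits.zero_comp]
    · change x = 0 at hx
      rw [hx]
      exact zero_mem _
  | insert b t _ ih =>
    obtain ⟨Q, π, hQ, hπ, hk, hs⟩ := ih
    let θ := sc f hX b Q
    refine ⟨cokernel θ, π ≫ cokernel.π θ, isCohF_cokernel 𝔛 hX hQ hQ θ, epi_comp _ _, fun a ha => ?_,
      fun U hU x hx => ?_⟩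
    · rw [Finset.coe_insert, Ideal.mem_span_insert] at ha
      obtain ⟨c, z, hz, rfl⟩ := ha
      rw [sc_add, Preadditive.add_comp, ← Category.assoc (sc f hX z 𝔉), hk z hz, Limits.zero_comp, add_zero,
        ← sc_mul f hX c b, Category.assoc, ← Category.assoc (sc f hX b 𝔉), sc_comm f hX b π, Category.assoc]
      rw [show sc f hX b Q ≫ cokernel.π θ = 0 from cokernel.condition θ, Limits.comp_zero, Limits.comp_zero]
    · obtain ⟨z, hz⟩ := exists_preimage_sect 𝔛 hX hQ hQ θ hU ((π.val.app (op U)).hom x) hx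
      obtain ⟨y, rfl⟩ := surjective_of_epi 𝔛 hX h𝔉 hQ π hU z
      have h0 : (π.val.app (op U)).hom (x - ΓU f hX.1 U b • y) = 0 := by
        rw [map_sub, sub_eq_zero]
        exact hz.symm.trans (map_smul (π.val.app (op U)).hom (ΓU f hX.1 U b) y).symm
      have h1 := hs U hU _ h0
      rw [show x = (x - ΓU f hX.1 U b • y) + ΓU f hX.1 U b • y from (sub_add_cancel _ _).symm]
      refine add_mem (Submodule.smul_mono_left (Ideal.map_mono (Ideal.span_mono (by simp))) h1)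
        (Submodule.smul_mem_smul (Ideal.mem_map_of_mem _ (Ideal.subset_span (by simp))) Submodule.mem_top)

/-- The reductions. -/
structure Data : Type (u + 1) where
  /-- The reduction modulo a power of the ideal. -/
  Q : ℕ → FSch.ModF 𝔛 hX.1
  /-- The projection. -/
  π : ∀ k, 𝔉 ⟶ Q k
  coh : ∀ k, FSch.IsCohF 𝔛 hX.1 (Q k)
  epi : ∀ k, Epi (π k)
  kills : ∀ k, ∀ a ∈ I ^ k, sc f hX a 𝔉 ≫ π k = 0
  mem : ∀ k (U : (𝔛.X 0).Opens), IsAffineOpen U → ∀ x : SF 𝔛 hX.1 𝔉 U, ((π k).val.app (op U)).hom x = 0 →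
    x ∈ (I ^ k).map (ΓU f hX.1 U) • (⊤ : Submodule (O 𝔛 hX.1 U) (SF 𝔛 hX.1 𝔉 U))

include hf h𝔉 in
theorem nonempty_data : Nonempty (Data f hX 𝔉) := by
  classical
  have h : ∀ k, ∃ t : Finset A, Ideal.span (t : Set A) = I ^ k := fun k =>
    (IsNoetherian.noetherian (I ^ k) : (I ^ k).FG)
  choose t ht using h
  choose Q π hQ hπ hk hm using fun k => exists_quot f hX hf 𝔉 h𝔉 (t k)
  exact ⟨⟨Q, π, hQ, hπ, fun k a ha => hk k a (ht k ▸ ha), fun k U hU x hx => ht k ▸ hm k U hU x hx⟩⟩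

variable {f hX 𝔉} (D : Data f hX 𝔉)

theorem Data.surjective (h𝔉 : FSch.IsCohF 𝔛 hX.1 𝔉) (k : ℕ) {U : (𝔛.X 0).Opens} (hU : IsAffineOpen U) :
    Function.Surjective ((D.π k).val.app (op U)).hom :=
  haveI := D.epi k
  surjective_of_epi 𝔛 hX h𝔉 (D.coh k) (D.π k) hU

theorem Data.kernel_comp {T : FSch.ModF 𝔛 hX.1} (k : ℕ) (g : 𝔉 ⟶ T) (hg : ∀ a ∈ I ^ k, sc f hX a 𝔉 ≫ g = 0) :
    kernel.ι (D.π k) ≫ g = 0 := by
  refine hom_ext_basis (B := {V | IsAffineOpen (V : (𝔛.X 0).Opens)}) (𝔛.X 0).isBasis_affineOpens _ _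
    fun U hU z => ?_
  refine app_eq_zero_of_mem g hg (D.mem k U hU _ ?_)
  exact LinearMap.congr_fun (congrArg (fun t => ((t : kernel (D.π k) ⟶ _).val.app (op U)).hom)
    (kernel.condition (D.π k))) z

/-- Morphisms out of a reduction. -/
def Data.desc {T : FSch.ModF 𝔛 hX.1} (k : ℕ) (g : 𝔉 ⟶ T) (hg : ∀ a ∈ I ^ k, sc f hX a 𝔉 ≫ g = 0) :
    D.Q k ⟶ T :=
  haveI := D.epi k
  Abelian.epiDesc (D.π k) g (D.kernel_comp k g hg)

theorem Data.π_desc {T : FSch.ModF 𝔛 hX.1} (k : ℕ) (g : 𝔉 ⟶ T) (hg : ∀ a ∈ I ^ k, sc f hX a 𝔉 ≫ g = 0) :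
    D.π k ≫ D.desc k g hg = g :=
  haveI := D.epi k
  Abelian.comp_epiDesc _ _ _

/-- Multiplication from a reduction to another. -/
def Data.mul {i j : ℕ} (a : A) (ha : a ∈ I ^ (i - j)) : D.Q j ⟶ D.Q i :=
  D.desc j (sc f hX a 𝔉 ≫ D.π i) fun b hb => by
    rw [← Category.assoc, sc_mul]
    refine D.kills i _ ?_
    refine Ideal.pow_le_pow_right (show i ≤ j + (i - j) by omega) ?_
    rw [pow_add]
    exact Ideal.mul_mem_mul hb ha

theorem Data.π_mul {i j : ℕ} (a : A) (ha : a ∈ I ^ (i - j)) :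
    D.π j ≫ D.mul a ha = sc f hX a 𝔉 ≫ D.π i :=
  D.π_desc _ _ _

theorem Data.mul_mul {i j l : ℕ} (a : A) (ha : a ∈ I ^ (i - j)) (b : A) (hb : b ∈ I ^ (l - i))
    (hc : a * b ∈ I ^ (l - j)) : D.mul a ha ≫ D.mul b hb = D.mul (a * b) hc := by
  haveI := D.epi j
  rw [← cancel_epi (D.π j), reassoc_of% (D.π_mul a ha), D.π_mul b hb, D.π_mul (a * b) hc,
    ← Category.assoc, sc_mul]

theorem Data.mul_add {i j : ℕ} (a b : A) (ha : a ∈ I ^ (i - j)) (hb : b ∈ I ^ (i - j)) :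
    D.mul (a + b) (add_mem ha hb) = D.mul a ha + D.mul b hb := by
  haveI := D.epi j
  rw [← cancel_epi (D.π j), Preadditive.comp_add, D.π_mul, D.π_mul, D.π_mul, sc_add, Preadditive.add_comp]

theorem Data.mul_congr {i j : ℕ} {a b : A} (e : a = b) (ha : a ∈ I ^ (i - j)) (hb : b ∈ I ^ (i - j)) :
    D.mul a ha = D.mul b hb := by
  subst e
  rfl

theorem mem_sub_of_le {i j : ℕ} (h : i ≤ j) (a : A) : a ∈ I ^ (i - j) := by
  rw [Nat.sub_eq_zero_of_le h, pow_zero, Ideal.one_eq_top]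
  exact Submodule.mem_top

/-- The transition maps. -/
def Data.tr {i j : ℕ} (h : i ≤ j) : D.Q j ⟶ D.Q i := D.mul (1 : A) (mem_sub_of_le h 1)

theorem Data.π_tr {i j : ℕ} (h : i ≤ j) : D.π j ≫ D.tr h = D.π i := by
  rw [Data.tr, D.π_mul, sc_one, Category.id_comp]

theorem Data.tr_comp {i j l : ℕ} (h : i ≤ j) (h' : j ≤ l) : D.tr h' ≫ D.tr h = D.tr (h.trans h') := by
  haveI := D.epi l
  rw [← cancel_epi (D.π l), reassoc_of% (D.π_tr h'), D.π_tr, D.π_tr]

theorem Data.tr_self (i : ℕ) : D.tr (le_refl i) = 𝟙 _ := by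
  haveI := D.epi i
  rw [← cancel_epi (D.π i), D.π_tr, Category.comp_id]

theorem Data.epi_tr {i j : ℕ} (h : i ≤ j) : Epi (D.tr h) := by
  haveI := D.epi i
  exact epi_of_epi_fac (D.π_tr h)

theorem Data.tr_mul {i j i' j' : ℕ} (hi : i' ≤ i) (hj : j' ≤ j) (a : A) (ha : a ∈ I ^ (i - j))
    (ha' : a ∈ I ^ (i' - j')) : D.tr hj ≫ D.mul a ha' = D.mul a ha ≫ D.tr hi := by
  haveI := D.epi j
  rw [← cancel_epi (D.π j), reassoc_of% (D.π_tr hj), D.π_mul, reassoc_of% (D.π_mul a ha), D.π_tr]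

theorem Data.isZero_zero : IsZero (D.Q 0) := by
  haveI := D.epi 0
  have h1 : sc f hX (1 : A) 𝔉 ≫ D.π 0 = 0 := D.kills 0 1 (by rw [pow_zero, Ideal.one_eq_top]; trivial)
  rw [sc_one, Category.id_comp] at h1
  exact IsZero.of_epi_eq_zero (D.π 0) h1

/-- The graded pieces. -/
abbrev Data.gr (k : ℕ) : FSch.ModF 𝔛 hX.1 := kernel (D.tr k.le_succ)

theorem Data.isCohF_gr (k : ℕ) : FSch.IsCohF 𝔛 hX.1 (D.gr k) :=
  isCohF_kernel 𝔛 hX (D.coh (k + 1)) (D.coh k) _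

theorem succ_sub_succ_mem {k l : ℕ} {a : A} (ha : a ∈ I ^ (l - k)) : a ∈ I ^ ((l + 1) - (k + 1)) := by
  rwa [Nat.add_sub_add_right]

/-- Multiplication on the graded pieces. -/
def Data.grMul {k l : ℕ} (a : A) (ha : a ∈ I ^ (l - k)) : D.gr k ⟶ D.gr l :=
  kernel.lift _ (kernel.ι _ ≫ D.mul a (succ_sub_succ_mem ha)) (by
    rw [Category.assoc, ← D.tr_mul l.le_succ k.le_succ a (succ_sub_succ_mem ha) ha, kernel.condition_assoc,
      Limits.zero_comp])

theorem Data.grMul_ι {k l : ℕ} (a : A) (ha : a ∈ I ^ (l - k)) :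
    D.grMul a ha ≫ kernel.ι _ = kernel.ι _ ≫ D.mul a (succ_sub_succ_mem ha) :=
  kernel.lift_ι _ _ _

theorem Data.sc_gr (k : ℕ) {b : A} (hb : b ∈ I) : sc f hX b (D.gr k) = 0 := by
  haveI := D.epi (k + 1)
  have hb' : b ∈ I ^ (k + 1 - k) := by rw [Nat.add_sub_cancel_left, pow_one]; exact hb
  have h1 : sc f hX b (D.Q (k + 1)) = D.tr k.le_succ ≫ D.mul b hb' := by
    rw [← cancel_epi (D.π (k + 1)), ← sc_comm, reassoc_of% (D.π_tr k.le_succ), D.π_mul]
  rw [← cancel_mono (kernel.ι (D.tr k.le_succ)), sc_comm, h1, Limits.zero_comp, kernel.condition_assoc,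
    Limits.zero_comp]

include hf in
theorem Data.grMul_generate (h𝔉 : FSch.IsCohF 𝔛 hX.1 𝔉) (k : ℕ) {T : FSch.ModF 𝔛 hX.1} (u v : D.gr k ⟶ T)
    (huv : ∀ (a : A) (ha : a ∈ I ^ (k - 0)), D.grMul a ha ≫ u = D.grMul a ha ≫ v) : u = v := by
  refine sub_eq_zero.1 ?_
  refine hom_ext_basis (B := {V | IsAffineOpen (V : (𝔛.X 0).Opens)}) (𝔛.X 0).isBasis_affineOpens _ _
    fun U hU y => ?_
  obtain ⟨x, hx⟩ := D.surjective h𝔉 (k + 1) hU (((kernel.ι (D.tr k.le_succ)).val.app (op U)).hom y)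
  have hxk : ((D.π k).val.app (op U)).hom x = 0 := by
    have h1 := LinearMap.congr_fun (congrArg (fun t => ((t : 𝔉 ⟶ _).val.app (op U)).hom) (D.π_tr k.le_succ)) x
    refine h1.symm.trans ((congrArg ((D.tr k.le_succ).val.app (op U)).hom hx).trans ?_)
    exact LinearMap.congr_fun (congrArg (fun t => ((t : D.gr k ⟶ _).val.app (op U)).hom)
      (kernel.condition (D.tr k.le_succ))) y
  have hmem := D.mem k U hU x hxk
  let e0 : 𝔉 ⟶ D.gr 0 := kernel.lift _ (D.π (0 + 1)) (D.isZero_zero.eq_of_tgt _ _)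
  have he0 : e0 ≫ kernel.ι (D.tr (Nat.le_succ 0)) = D.π (0 + 1) := kernel.lift_ι _ _ _
  let e : ∀ (a : A), a ∈ I ^ k → (𝔉 ⟶ D.gr k) := fun a ha => e0 ≫ D.grMul a (by rwa [Nat.sub_zero])
  have hval : ∀ (a : A) (ha : a ∈ I ^ k), e a ha ≫ kernel.ι _ = sc f hX a 𝔉 ≫ D.π (k + 1) := fun a ha => by
    rw [Category.assoc, D.grMul_ι, reassoc_of% he0, D.π_mul]
  have hinj : Function.Injective ((kernel.ι (D.tr k.le_succ)).val.app (op U)).hom :=
    (exists_kernel_sect (D.tr k.le_succ) (op U)).2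
  suffices ∀ z, z ∈ (I ^ k).map (ΓU f hX.1 U) • (⊤ : Submodule (O 𝔛 hX.1 U) (SF 𝔛 hX.1 𝔉 U)) →
      ∃ w : SF 𝔛 hX.1 (D.gr k) U, ((kernel.ι (D.tr k.le_succ)).val.app (op U)).hom w =
        ((D.π (k + 1)).val.app (op U)).hom z ∧ ((u - v).val.app (op U)).hom w = 0 by
    obtain ⟨w, hw, hw0⟩ := this x hmem
    rwa [show y = w from hinj (hx.symm.trans hw.symm)]
  intro z hz
  refine Submodule.smul_induction_on hz (fun r hr m _ => ?_) fun a b ⟨w, hw, hw0⟩ ⟨w', hw', hw0'⟩ => ?_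
  · refine Submodule.span_induction (p := fun r _ => ∀ m : SF 𝔛 hX.1 𝔉 U, ∃ w : SF 𝔛 hX.1 (D.gr k) U,
      ((kernel.ι (D.tr k.le_succ)).val.app (op U)).hom w = ((D.π (k + 1)).val.app (op U)).hom (r • m) ∧
        ((u - v).val.app (op U)).hom w = 0) ?_ ?_ ?_ ?_ hr m
    · rintro _ ⟨a, ha, rfl⟩ m
      refine ⟨((e a ha).val.app (op U)).hom m,
        LinearMap.congr_fun (congrArg (fun t => ((t : 𝔉 ⟶ _).val.app (op U)).hom) (hval a ha)) m, ?_⟩
      have h2 : e a ha ≫ (u - v) = 0 := by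
        rw [Category.assoc, Preadditive.comp_sub, huv, sub_self, Limits.comp_zero]
      exact LinearMap.congr_fun (congrArg (fun t => ((t : 𝔉 ⟶ _).val.app (op U)).hom) h2) m
    · intro m
      refine ⟨0, ?_, map_zero _⟩
      rw [map_zero]
      exact ((congrArg _ (zero_smul _ m)).trans (map_zero _)).symm
    · intro r s _ _ hr hs m
      obtain ⟨w, hw, hw0⟩ := hr m
      obtain ⟨w', hw', hw0'⟩ := hs m
      refine ⟨w + w', ?_, by rw [map_add, hw0, hw0', add_zero]⟩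
      rw [map_add, hw, hw', ← map_add, ← add_smul]
    · intro c r _ hr m
      obtain ⟨w, hw, hw0⟩ := hr m
      refine ⟨c • w, ?_, (map_smul _ c w).trans ((congrArg (c • ·) hw0).trans (smul_zero _))⟩
      refine (map_smul _ c w).trans ?_
      refine (congrArg (c • ·) hw).trans ?_
      exact (map_smul _ c _).symm.trans (congrArg _ (smul_assoc c r m).symm)
  · refine ⟨w + w', ?_, by rw [map_add, hw0, hw0', add_zero]⟩
    rw [map_add, map_add, hw, hw']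

end Groth.L17.FSheaf.GrQuot
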