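import Groth.Agent.L17.FSheaf.Osh
import Groth.Agent.L17.FSheaf.Alg
import Groth.Agent.L16.AffineBC.Pullback
import Groth.Agent.L16.CohLinear
import Groth.Agent.S4339
import Groth.Agent.S2291

/-!
# Sections of the modules of coherent systems over affine opens
-/

set_option autoImplicit false
set_option linter.style.haveILetI false
set_option linter.unusedSectionVars false
set_option backward.isDefEq.respectTransparency false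
set_option backward.isDefEq.respectTransparency.types false

universe u

open CategoryTheory CategoryTheory.Limits AlgebraicGeometry TopologicalSpace Opposite

noncomputable section

namespace Groth.L17.FSheaf

open Groth.L18.Frame (rs ro pull rs_rs rs_self)
open Groth.L16.AffineBC (pullRes isBaseChange_pull)

section QCoh

variable {X : Scheme.{u}} (G : X.Modules)

theorem pullbackId_pull (V : X.Opens) (m : Γ(G, V)) :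
    ((Scheme.Modules.pullbackId X).hom.app G).app V (pull (𝟙 X) G V m) = m := by
  have e := unit_conjugateEquiv (Adjunction.id (C := X.Modules))
    (Scheme.Modules.pullbackPushforwardAdjunction (𝟙 X)) (Scheme.Modules.pullbackId X).hom G
  rw [Scheme.Modules.conjugateEquiv_pullbackId_hom] at e
  exact (ConcreteCategory.congr_hom (congrArg (fun φ => Scheme.Modules.Hom.app φ V) e) m).symm

variable [Coh.IsQCoh G]

/-- Generators and relations of sections restrict to smaller affine opens. -/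
theorem span_rel_restrict {U V : X.Opens} (hU : IsAffineOpen U) (hV : IsAffineOpen V) (hVU : V ≤ U)
    {n k : ℕ} (m : Fin n → Γ(G, U)) (hm : Submodule.span Γ(X, U) (Set.range m) = ⊤)
    (r : Fin k → Fin n → Γ(X, U))
    (hrel : ∀ c : Fin n → Γ(X, U), ∑ i, c i • m i = 0 → ∃ d : Fin k → Γ(X, U), ∀ i, c i = ∑ j, d j * r j i)
    (hr : ∀ j, ∑ i, r j i • m i = 0) :
    Submodule.span Γ(X, V) (Set.range fun i => rs G hVU (m i)) = ⊤ ∧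
      ∀ a : Fin n → Γ(X, V), ∑ i, a i • rs G hVU (m i) = 0 →
        ∃ d : Fin k → Γ(X, V), ∀ i, a i = ∑ j, d j * ro hVU (r j i) := by
  let e : V ≤ (𝟙 X : X ⟶ X) ⁻¹ᵁ U := hVU
  let P := (Scheme.Modules.pullback (𝟙 X)).obj G
  letI : Algebra Γ(X, U) Γ(X, V) := ((𝟙 X : X ⟶ X).appLE U V e).hom.toAlgebra
  letI := Module.compHom Γ(P, V) ((𝟙 X : X ⟶ X).appLE U V e).hom
  haveI : IsScalarTower Γ(X, U) Γ(X, V) Γ(P, V) := IsScalarTower.of_algebraMap_smul fun _ _ => rfl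
  have hg := isBaseChange_pull (𝟙 X) G hU hV e
  let ε := (Scheme.Modules.pullbackId X).app G
  have hε : ∀ x, ε.hom.app V (pullRes (𝟙 X) G e x) = rs G hVU x := fun x => by
    show ε.hom.app V (rs P e (pull (𝟙 X) G U x)) = _
    refine (ConcreteCategory.congr_hom (ε.hom.mapPresheaf.naturality (homOfLE e).op) _).trans ?_
    exact congrArg (rs G hVU) (pullbackId_pull G U x)
  have hinj : Function.Injective (ε.hom.app V) := fun x y h => by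
    have hx := congrArg (ε.inv.app V) h
    rwa [show ε.inv.app V (ε.hom.app V x) = x from
        ConcreteCategory.congr_hom (congrArg (fun φ => Scheme.Modules.Hom.app φ V) ε.hom_inv_id) x,
      show ε.inv.app V (ε.hom.app V y) = y from
        ConcreteCategory.congr_hom (congrArg (fun φ => Scheme.Modules.Hom.app φ V) ε.hom_inv_id) y] at hx
  have halg : ∀ x : Γ(X, U), algebraMap Γ(X, U) Γ(X, V) x = ro hVU x := fun x => rfl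
  refine ⟨eq_top_iff.2 fun y _ => ?_, fun a ha => ?_⟩
  · have hy : ε.inv.app V y ∈ Submodule.span Γ(X, V) (Set.range fun i => pullRes (𝟙 X) G e (m i)) :=
      span_range_of_baseChange _ hg m hm ▸ Submodule.mem_top
    obtain ⟨c, hc⟩ := (Submodule.mem_span_range_iff_exists_fun _).1 hy
    refine (Submodule.mem_span_range_iff_exists_fun _).2 ⟨c, ?_⟩
    have h2 := congrArg (ε.hom.app V) hc
    rw [map_sum, show ε.hom.app V (ε.inv.app V y) = y from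
      ConcreteCategory.congr_hom (congrArg (fun φ => Scheme.Modules.Hom.app φ V) ε.inv_hom_id) y] at h2
    refine Eq.trans (Finset.sum_congr rfl fun i _ => ?_) h2
    rw [Scheme.Modules.Hom.app_smul, hε]
  · obtain ⟨d, hd⟩ := rel_of_baseChange _ hg m hm r hrel hr a (hinj (by
      rw [map_sum, map_zero]
      refine Eq.trans (Finset.sum_congr rfl fun i _ => ?_) ha
      rw [Scheme.Modules.Hom.app_smul, hε]))
    exact ⟨d, fun i => by simp only [hd i, halg]⟩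

end QCoh

variable (𝔛 : FSch.Sys.{u}) (h : 𝔛.IsFormal)

/-- The sections of `O_𝔛`. -/
abbrev O (U : (𝔛.X 0).Opens) : Type u := (𝔛.Osh h).obj.obj (op U)

/-- The maximal ideal of definition on sections. -/
abbrev J (U : (𝔛.X 0).Opens) : Ideal (O 𝔛 h U) := RingHom.ker (pR 𝔛 h 0 U)

theorem toX_le (n : ℕ) (U : (𝔛.X 0).Opens) : 𝔛.lvU h 0 U ≤ 𝔛.toX n ⁻¹ᵁ 𝔛.lvU h n U := by
  rw [toX_preimage_lvU]
  exact le_of_eq (toX_preimage_lvU 𝔛 h 0 U)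

/-- Reduction to the smallest level. -/
abbrev vR (n : ℕ) (U : (𝔛.X 0).Opens) : Γ(𝔛.X n, 𝔛.lvU h n U) →+* Γ(𝔛.X 0, 𝔛.lvU h 0 U) :=
  ((𝔛.toX n).appLE (𝔛.lvU h n U) (𝔛.lvU h 0 U) (toX_le 𝔛 h n U)).hom

theorem ker_appLE {X Y : Scheme.{u}} (f : X ⟶ Y) {U : Y.Opens} {V : X.Opens} (e : V = f ⁻¹ᵁ U) :
    RingHom.ker (f.appLE U V e.le).hom = RingHom.ker (f.app U).hom := by
  subst e
  rw [Scheme.Hom.app_eq_appLE]

theorem ker_tR (hA : 𝔛.IsAdic) {U : (𝔛.X 0).Opens} (hU : IsAffineOpen U) (n : ℕ) :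
    RingHom.ker (tR 𝔛 h n U) = RingHom.ker (vR 𝔛 h (n + 1) U) ^ (n + 1) := by
  rw [ker_appLE (𝔛.ι n) (𝔛.lvU_succ h n U).symm,
    ker_appLE (𝔛.toX (n + 1)) (show 𝔛.lvU h 0 U = _ from
      (toX_preimage_lvU 𝔛 h 0 U).trans (toX_preimage_lvU 𝔛 h (n + 1) U).symm)]
  exact Groth.L17.Thick.ker_app_eq h hA n ⟨_, isAffineOpen_lvU 𝔛 h hU (n + 1)⟩

theorem vR_zero (U : (𝔛.X 0).Opens) : vR 𝔛 h 0 U = RingHom.id _ := by
  refine RingHom.ext fun x => ?_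
  show ((𝟙 (𝔛.X 0) : _ ⟶ _).appLE _ _ _) x = x
  rw [Scheme.Hom.appLE, Scheme.Hom.id_app, Category.id_comp]
  erw [CategoryTheory.Functor.map_id]
  rfl

theorem vR_tR (n : ℕ) (U : (𝔛.X 0).Opens) : (vR 𝔛 h n U).comp (tR 𝔛 h n U) = vR 𝔛 h (n + 1) U := by
  refine RingHom.ext fun x => ?_
  exact ConcreteCategory.congr_hom
    (Scheme.Hom.appLE_comp_appLE (𝔛.toX n) (𝔛.ι n) _ _ _ (𝔛.lvU_le h n U) (toX_le 𝔛 h n U)) x

variable {U : (𝔛.X 0).Opens}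

/-- The structure of `O(U)` for affine `U`. -/
theorem O_spec (hX : 𝔛.IsLocNoethFormal) (hU : IsAffineOpen U) :
    IsNoetherianRing (O 𝔛 hX.1 U) ∧ IsAdicComplete (J 𝔛 hX.1 U) (O 𝔛 hX.1 U) ∧
      ∀ n, RingHom.ker (pR 𝔛 hX.1 n U) = J 𝔛 hX.1 U ^ (n + 1) := by
  haveI := hX.2.2 1
  haveI := hX.2.2 0
  haveI : IsNoetherianRing Γ(𝔛.X 1, 𝔛.lvU hX.1 1 U) :=
    IsLocallyNoetherian.component_noetherian ⟨_, isAffineOpen_lvU 𝔛 hX.1 hU 1⟩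
  have hfg : (RingHom.ker (vR 𝔛 hX.1 1 U)).FG := IsNoetherian.noetherian _
  have hinj : ∀ x : O 𝔛 hX.1 U, (∀ n, pR 𝔛 hX.1 n U x = 0) → x = 0 := fun x hx =>
    pR_ext 𝔛 hX.1 fun n => (hx n).trans (map_zero _).symm
  have hp : ∀ n, (tR 𝔛 hX.1 n U).comp (pR 𝔛 hX.1 (n + 1) U) = pR 𝔛 hX.1 n U := fun n =>
    RingHom.ext (tR_pR 𝔛 hX.1 n U)
  obtain ⟨hc, hs, -⟩ := Groth.Agent.S2292.result (fun n => Γ(𝔛.X n, 𝔛.lvU hX.1 n U))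
    (fun n => tR 𝔛 hX.1 n U) (tR_surjective 𝔛 hX.1 hU) (fun n => vR 𝔛 hX.1 n U) (vR_zero 𝔛 hX.1 U)
    (fun n => vR_tR 𝔛 hX.1 n U) (ker_tR 𝔛 hX.1 hX.2.1 hU) hfg (O 𝔛 hX.1 U) (fun n => pR 𝔛 hX.1 n U) hp hinj
    (exists_pR 𝔛 hX.1 U)
  refine ⟨(Groth.Agent.S4339.result (fun n => Γ(𝔛.X n, 𝔛.lvU hX.1 n U))
    (fun n => tR 𝔛 hX.1 n U) (tR_surjective 𝔛 hX.1 hU) (fun n => vR 𝔛 hX.1 n U) (vR_zero 𝔛 hX.1 U)
    (fun n => vR_tR 𝔛 hX.1 n U) (ker_tR 𝔛 hX.1 hX.2.1 hU) hfg (O 𝔛 hX.1 U) (fun n => pR 𝔛 hX.1 n U) hp hinj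
    (exists_pR 𝔛 hX.1 U)).2 (IsLocallyNoetherian.component_noetherian ⟨_, isAffineOpen_lvU 𝔛 hX.1 hU 0⟩),
    hc, fun n => (hs n).2⟩

theorem ker_tR_eq_map (hX : 𝔛.IsLocNoethFormal) (hU : IsAffineOpen U) (n : ℕ) :
    RingHom.ker (tR 𝔛 hX.1 n U) = (J 𝔛 hX.1 U ^ (n + 1)).map (pR 𝔛 hX.1 (n + 1) U) := by
  rw [← (O_spec 𝔛 hX hU).2.2 n]
  refine le_antisymm (fun x hx => ?_) (Ideal.map_le_iff_le_comap.2 fun x hx => ?_)
  · obtain ⟨y, rfl⟩ := pR_surjective 𝔛 hX.1 hU (n + 1) x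
    refine Ideal.mem_map_of_mem _ ?_
    rw [RingHom.mem_ker, ← tR_pR]
    exact hx
  · rw [Ideal.mem_comap, RingHom.mem_ker, tR_pR]
    exact hx

variable (𝔐 : FSch.ModSys 𝔛)

/-- The sections over `U` of the direct image of the `n`-th level, as a module over `O(U)`. -/
abbrev LM (n : ℕ) (U : (𝔛.X 0).Opens) : Type u := ((FSch.levelMor 𝔛 h n).push.obj (𝔐.F n)).val.obj (op U)

/-- The sections of the module of the system. -/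
abbrev RM (U : (𝔛.X 0).Opens) : Type u := (𝔐.realMod h).val.obj (op U)

/-- The projections. -/
abbrev qM (n : ℕ) (U : (𝔛.X 0).Opens) : RM 𝔛 h 𝔐 U →ₗ[O 𝔛 h U] LM 𝔛 h 𝔐 n U :=
  ((FSch.realProj 𝔛 h 𝔐.F 𝔐.toPush n).val.app (op U)).hom

/-- The transition maps. -/
abbrev tM (n : ℕ) (U : (𝔛.X 0).Opens) : LM 𝔛 h 𝔐 (n + 1) U →ₗ[O 𝔛 h U] LM 𝔛 h 𝔐 n U :=
  (((FSch.levelSysOf 𝔛 h 𝔐.F 𝔐.toPush).map (homOfLE (Nat.le_add_right n 1)).op).val.app (op U)).hom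

theorem smul_LM (n : ℕ) (a : O 𝔛 h U) (x : LM 𝔛 h 𝔐 n U) :
    a • x = (pR 𝔛 h n U a) • (show Γ(𝔐.F n, 𝔛.lvU h n U) from x) := rfl

theorem tM_apply (n : ℕ) (x : LM 𝔛 h 𝔐 (n + 1) U) :
    tM 𝔛 h 𝔐 n U x = ((𝔐.e n).hom.app (𝔛.lvU h n U)
      (rs ((Scheme.Modules.pullback (𝔛.ι n)).obj (𝔐.F (n + 1))) (𝔛.lvU_le h n U)
        (pull (𝔛.ι n) (𝔐.F (n + 1)) (𝔛.lvU h (n + 1) U) x)) : Γ(𝔐.F n, 𝔛.lvU h n U)) := by
  show (((FSch.levelSysOf 𝔛 h 𝔐.F 𝔐.toPush).map (homOfLE (Nat.le_add_right n 1)).op).val.app (op U)).hom x = _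
  rw [FSch.levelSysOf_map_succ]
  show rs (𝔐.F n) (𝔛.lvU_le h n U) ((𝔐.toPush n).app (𝔛.lvU h (n + 1) U) x) = _
  rw [FSch.ModSys.toPush, Adjunction.homEquiv_unit]
  exact (ConcreteCategory.congr_hom ((𝔐.e n).hom.mapPresheaf.naturality (homOfLE (𝔛.lvU_le h n U)).op) _).symm

/-- The transition maps on affine opens. -/
theorem tM_spec (hX : 𝔛.IsLocNoethFormal) (h𝔐 : 𝔐.IsCoh) (hU : IsAffineOpen U) (n : ℕ) :
    Function.Surjective (tM 𝔛 hX.1 𝔐 n U) ∧ ∀ x, tM 𝔛 hX.1 𝔐 n U x = 0 ↔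
      x ∈ J 𝔛 hX.1 U ^ (n + 1) • (⊤ : Submodule (O 𝔛 hX.1 U) (LM 𝔛 hX.1 𝔐 (n + 1) U)) := by
  haveI := (h𝔐 (n + 1)).1
  let e := 𝔛.lvU_le hX.1 n U
  let P := (Scheme.Modules.pullback (𝔛.ι n)).obj (𝔐.F (n + 1))
  letI : Algebra Γ(𝔛.X (n + 1), 𝔛.lvU hX.1 (n + 1) U) Γ(𝔛.X n, 𝔛.lvU hX.1 n U) := (tR 𝔛 hX.1 n U).toAlgebra
  letI := Module.compHom Γ(P, 𝔛.lvU hX.1 n U) (tR 𝔛 hX.1 n U)
  haveI : IsScalarTower Γ(𝔛.X (n + 1), 𝔛.lvU hX.1 (n + 1) U) Γ(𝔛.X n, 𝔛.lvU hX.1 n U) Γ(P, 𝔛.lvU hX.1 n U) :=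
    IsScalarTower.of_algebraMap_smul fun _ _ => rfl
  obtain ⟨hsur, hker⟩ := surjective_of_baseChange _
    (isBaseChange_pull (𝔛.ι n) (𝔐.F (n + 1)) (isAffineOpen_lvU 𝔛 hX.1 hU (n + 1))
      (isAffineOpen_lvU 𝔛 hX.1 hU n) e) (tR_surjective 𝔛 hX.1 hU n)
  have hbij : ∀ y, (𝔐.e n).inv.app (𝔛.lvU hX.1 n U) ((𝔐.e n).hom.app (𝔛.lvU hX.1 n U) y) = y := fun y =>
    ConcreteCategory.congr_hom (congrArg (fun φ => Scheme.Modules.Hom.app φ (𝔛.lvU hX.1 n U)) (𝔐.e n).hom_inv_id) y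
  refine ⟨fun y => ?_, fun x => ?_⟩
  · obtain ⟨x, hx⟩ := hsur ((𝔐.e n).inv.app (𝔛.lvU hX.1 n U) y)
    refine ⟨x, ?_⟩
    rw [tM_apply]
    refine (congrArg ((𝔐.e n).hom.app (𝔛.lvU hX.1 n U)) hx).trans ?_
    exact ConcreteCategory.congr_hom
      (congrArg (fun φ => Scheme.Modules.Hom.app φ (𝔛.lvU hX.1 n U)) (𝔐.e n).inv_hom_id) y
  · letI : Module Γ(𝔛.X (n + 1), 𝔛.lvU hX.1 (n + 1) U) (LM 𝔛 hX.1 𝔐 (n + 1) U) :=
      inferInstanceAs (Module Γ(𝔛.X (n + 1), 𝔛.lvU hX.1 (n + 1) U) Γ(𝔐.F (n + 1), 𝔛.lvU hX.1 (n + 1) U))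
    rw [mem_map_smul_top_iff (pR 𝔛 hX.1 (n + 1) U) (pR_surjective 𝔛 hX.1 hU (n + 1))
      (fun a y => smul_LM 𝔛 hX.1 𝔐 (n + 1) a y),
      ← ker_tR_eq_map 𝔛 hX hU n]
    rw [show RingHom.ker (tR 𝔛 hX.1 n U) = RingHom.ker (algebraMap Γ(𝔛.X (n + 1), 𝔛.lvU hX.1 (n + 1) U)
      Γ(𝔛.X n, 𝔛.lvU hX.1 n U)) from rfl, ← hker, LinearMap.mem_ker, tM_apply]
    constructor
    · intro hx
      refine Eq.trans (hbij _).symm ?_
      exact (congrArg ((𝔐.e n).inv.app (𝔛.lvU hX.1 n U)) hx).trans (map_zero _)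
    · intro hx
      exact (congrArg ((𝔐.e n).hom.app (𝔛.lvU hX.1 n U)) hx).trans (map_zero _)

theorem qM_ext {x y : RM 𝔛 h 𝔐 U} (hxy : ∀ n, qM 𝔛 h 𝔐 n U x = qM 𝔛 h 𝔐 n U y) : x = y :=
  Concrete.isLimit_ext _ (isLimitOfPreserves (SheafOfModules.evaluation.{u} (ModSite.ringSh (𝔛.Osh h)) (op U))
    (limit.isLimit (FSch.levelSysOf 𝔛 h 𝔐.F 𝔐.toPush))) x y fun ⟨n⟩ => hxy n

theorem exists_qM (y : ∀ n, LM 𝔛 h 𝔐 n U) (hy : ∀ n, tM 𝔛 h 𝔐 n U (y (n + 1)) = y n) :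
    ∃ x : RM 𝔛 h 𝔐 U, ∀ n, qM 𝔛 h 𝔐 n U x = y n := by
  let E := SheafOfModules.evaluation.{u} (ModSite.ringSh (𝔛.Osh h)) (op U)
  let F := (FSch.levelSysOf 𝔛 h 𝔐.F 𝔐.toPush ⋙ E) ⋙ forget _
  let c : Cone F := ⟨PUnit, NatTrans.ofOpSequence (F := (Functor.const ℕᵒᵖ).obj PUnit)
    (fun n => TypeCat.ofHom fun _ => y n) fun n => by
      ext
      exact (hy n).symm⟩
  let hl := isLimitOfPreserves (forget _) (isLimitOfPreserves E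
    (limit.isLimit (FSch.levelSysOf 𝔛 h 𝔐.F 𝔐.toPush)))
  exact ⟨hl.lift c PUnit.unit, fun n => ConcreteCategory.congr_hom (hl.fac c (op n)) PUnit.unit⟩

theorem tM_qM (n : ℕ) : tM 𝔛 h 𝔐 n U ∘ₗ qM 𝔛 h 𝔐 (n + 1) U = qM 𝔛 h 𝔐 n U :=
  congrArg (fun φ : 𝔐.realMod h ⟶ _ => (φ.val.app (op U)).hom)
    (limit.w (FSch.levelSysOf 𝔛 h 𝔐.F 𝔐.toPush) (homOfLE (Nat.le_add_right n 1)).op)

/-- The sections of the module of a coherent system over an affine open. -/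
theorem RM_spec (hX : 𝔛.IsLocNoethFormal) (h𝔐 : 𝔐.IsCoh) (hU : IsAffineOpen U) :
    Module.Finite (O 𝔛 hX.1 U) (RM 𝔛 hX.1 𝔐 U) ∧
      ∀ n, Function.Surjective (qM 𝔛 hX.1 𝔐 n U) ∧ ∀ x, qM 𝔛 hX.1 𝔐 n U x = 0 ↔
        x ∈ J 𝔛 hX.1 U ^ (n + 1) • (⊤ : Submodule (O 𝔛 hX.1 U) (RM 𝔛 hX.1 𝔐 U)) := by
  haveI := (O_spec 𝔛 hX hU).1
  haveI := (O_spec 𝔛 hX hU).2.1
  haveI := hX.2.2 0
  have h0 : Module.Finite (O 𝔛 hX.1 U) (LM 𝔛 hX.1 𝔐 0 U) := by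
    haveI := Groth.L20.ModStalk.finite_sections _ (h𝔐 0) (isAffineOpen_lvU 𝔛 hX.1 hU 0)
    obtain ⟨n, g, hg⟩ := Module.Finite.exists_fin (R := Γ(𝔛.X 0, 𝔛.lvU hX.1 0 U))
      (M := Γ(𝔐.F 0, 𝔛.lvU hX.1 0 U))
    refine ⟨Submodule.fg_def.2 ⟨Set.range g, Set.finite_range _, eq_top_iff.2 fun x _ => ?_⟩⟩
    obtain ⟨c, hc⟩ := (Submodule.mem_span_range_iff_exists_fun _).1 (hg ▸ Submodule.mem_top :
      (show Γ(𝔐.F 0, 𝔛.lvU hX.1 0 U) from x) ∈ Submodule.span _ (Set.range g))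
    choose b hb using fun i => pR_surjective 𝔛 hX.1 hU 0 (c i)
    refine (Submodule.mem_span_range_iff_exists_fun _).2 ⟨b, Eq.trans (Finset.sum_congr rfl fun i _ => ?_) hc⟩
    rw [← hb i]
    rfl
  have hj : (J 𝔛 hX.1 U).FG := IsNoetherian.noetherian _
  obtain ⟨-, h2, h3⟩ := Groth.Agent.S2291.result (O 𝔛 hX.1 U) (J 𝔛 hX.1 U) hj
    (fun n => LM 𝔛 hX.1 𝔐 n U) (fun n => tM 𝔛 hX.1 𝔐 n U) (fun n => (tM_spec 𝔛 𝔐 hX h𝔐 hU n).1)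
    (fun n => Submodule.ext fun x => LinearMap.mem_ker.trans ((tM_spec 𝔛 𝔐 hX h𝔐 hU n).2 x))
    (RM 𝔛 hX.1 𝔐 U) (fun n => qM 𝔛 hX.1 𝔐 n U) (fun n => tM_qM 𝔛 hX.1 𝔐 n)
    (fun x hx => qM_ext 𝔛 hX.1 𝔐 fun n => (hx n).trans (map_zero _).symm)
    (fun y hy => exists_qM 𝔛 hX.1 𝔐 y hy)
  refine ⟨h3 (O_spec 𝔛 hX hU).2.1 h0, fun n => ⟨(h2 n).1, fun x => ?_⟩⟩
  exact Iff.of_eq (congrArg (fun S : Submodule (O 𝔛 hX.1 U) (RM 𝔛 hX.1 𝔐 U) => x ∈ S) (h2 n).2)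

end Groth.L17.FSheaf
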