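import Groth.Agent.L17.FSheaf.LocPres
import Groth.Agent.L17.FSheaf.Sect
import Groth.Agent.L20.ModStalk
import Groth.Agent.L19.TildeFP

/-!
# The inverse image of a coherent module to a level on an affine open
-/

set_option autoImplicit false
set_option linter.style.haveILetI false
set_option linter.unusedSectionVars false
set_option backward.isDefEq.respectTransparency false
set_option backward.isDefEq.respectTransparency.types false

universe u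

open CategoryTheory CategoryTheory.Limits AlgebraicGeometry TopologicalSpace Opposite

noncomputable section

namespace Groth.L17.FSheaf

open Groth.L18.Frame (rs ro rs_rs rs_self rs_smul)

variable (𝔛 : FSch.Sys.{u}) (h : 𝔛.IsFormal) (𝔉 : FSch.ModF 𝔛 h) (k : ℕ)

/-- The inverse image to a level. -/
abbrev LF : (𝔛.X k).Modules := (FSch.levelMor 𝔛 h k).pull.obj 𝔉

/-- The sections of a module on the formal scheme, as a module over `O(U)`. -/
abbrev SF (U : (𝔛.X 0).Opens) : Type u := 𝔉.val.obj (op U)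

/-- The unit on sections. -/
abbrev ηF (U : (𝔛.X 0).Opens) (x : SF 𝔛 h 𝔉 U) : Γ(LF 𝔛 h 𝔉 k, 𝔛.lvU h k U) :=
  (((FSch.levelMor 𝔛 h k).adj.unit.app 𝔉).val.app (op U)).hom x

theorem ηF_smul (U : (𝔛.X 0).Opens) (a : O 𝔛 h U) (x : SF 𝔛 h 𝔉 U) :
    ηF 𝔛 h 𝔉 k U (a • x) = pR 𝔛 h k U a • ηF 𝔛 h 𝔉 k U x :=
  map_smul (((FSch.levelMor 𝔛 h k).adj.unit.app 𝔉).val.app (op U)).hom a x

theorem ηF_res {U V : (𝔛.X 0).Opens} (hVU : V ≤ U) (x : SF 𝔛 h 𝔉 U) :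
    ηF 𝔛 h 𝔉 k V (res (R := ModSite.ringSh (𝔛.Osh h)) 𝔉 hVU x) =
      rs (LF 𝔛 h 𝔉 k) (lvU_mono 𝔛 h k hVU) (ηF 𝔛 h 𝔉 k U x) :=
  PresheafOfModules.naturality_apply ((FSch.levelMor 𝔛 h k).adj.unit.app 𝔉).val (homOfLE hVU).op x

variable {𝔉} {U : (𝔛.X 0).Opens} {n m : ℕ} {s : Fin n → SF 𝔛 h 𝔉 U} {r : Fin m → Fin n → O 𝔛 h U}

/-- On an affine open with a presentation, the level is the module given by the reduced relations. -/
theorem level_spec (hp : LocPres (R := ModSite.ringSh (𝔛.Osh h)) 𝔉 s r) (hU : IsAffineOpen (𝔛.lvU h k U)) :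
    (∀ y, ∃ c : Fin n → Γ(𝔛.X k, 𝔛.lvU h k U), ∑ i, c i • ηF 𝔛 h 𝔉 k U (s i) = y) ∧
    (∀ c : Fin n → Γ(𝔛.X k, 𝔛.lvU h k U), ∑ i, c i • ηF 𝔛 h 𝔉 k U (s i) = 0 →
      ∃ d : Fin m → Γ(𝔛.X k, 𝔛.lvU h k U), ∀ i, c i = ∑ j, d j * pR 𝔛 h k U (r j i)) ∧
    ∃ N : ModuleCat.{u} Γ(𝔛.X k, 𝔛.lvU h k U), Module.FinitePresentation Γ(𝔛.X k, 𝔛.lvU h k U) N ∧
      Nonempty ((LF 𝔛 h 𝔉 k).restrict hU.fromSpec ≅ tilde N) := by
  classical
  obtain ⟨U', hU'⟩ : ∃ U', U' = 𝔛.lvU h k U := ⟨_, rfl⟩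
  let R := Γ(𝔛.X k, 𝔛.lvU h k U)
  let j := hU.fromSpec
  let A := (LF 𝔛 h 𝔉 k).restrict j
  let ρ : Fin m → Fin n → R := fun j' i => pR 𝔛 h k U (r j' i)
  let t : Fin n → Γ(LF 𝔛 h 𝔉 k, 𝔛.lvU h k U) := fun i => ηF 𝔛 h 𝔉 k U (s i)
  have e2 : j ''ᵁ ⊤ = 𝔛.lvU h k U := by rw [Scheme.Hom.image_top_eq_opensRange, hU.opensRange_fromSpec]
  let G := moduleSpecΓFunctor (R := R)
  let tt : Fin n → G.obj A := fun i => rs (LF 𝔛 h 𝔉 k) e2.le (t i)
  -- morphisms from the level correspond to compatible values on the generators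
  let Q : (Spec R).Modules → FSch.ModF 𝔛 h := fun T =>
    (FSch.levelMor 𝔛 h k).push.obj ((Scheme.Modules.pushforward j).obj T)
  let hom : ∀ T : (Spec R).Modules, (A ⟶ T) ≃ (𝔉 ⟶ Q T) := fun T =>
    ((Scheme.Modules.restrictAdjunction j).homEquiv _ _).trans ((FSch.levelMor 𝔛 h k).adj.homEquiv _ _)
  have hhom : ∀ (T : (Spec R).Modules) (f : A ⟶ T) (i : Fin n),
      ((hom T f).val.app (op U)).hom (s i) =
        (rs T (le_top : j ⁻¹ᵁ 𝔛.lvU h k U ≤ ⊤) (f.app ⊤ (tt i)) : Γ(T, j ⁻¹ᵁ 𝔛.lvU h k U)) := by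
    intro T f i
    simp only [hom, Equiv.trans_apply, Adjunction.homEquiv_unit]
    show f.app (j ⁻¹ᵁ 𝔛.lvU h k U) (rs (LF 𝔛 h 𝔉 k) (j.image_preimage_le _) (t i)) = _
    rw [show rs (LF 𝔛 h 𝔉 k) (j.image_preimage_le (𝔛.lvU h k U)) (t i) =
      rs A (le_top : j ⁻¹ᵁ 𝔛.lvU h k U ≤ ⊤) (tt i) from (rs_rs (LF 𝔛 h 𝔉 k) e2.le _ (t i)).symm]
    exact ConcreteCategory.congr_hom (f.mapPresheaf.naturality (homOfLE le_top).op) (tt i)
  have hsupp : ∀ (T : (Spec R).Modules) (W : (𝔛.X 0).Opens),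
      Function.Bijective (res (R := ModSite.ringSh (𝔛.Osh h)) (Q T) (inf_le_left : W ⊓ U ≤ W)) := by
    intro T W
    have e : j ⁻¹ᵁ 𝔛.lvU h k W ≤ j ⁻¹ᵁ 𝔛.lvU h k (W ⊓ U) := fun x hx =>
      ⟨hx, hU.opensRange_fromSpec.le ⟨x, rfl⟩⟩
    have e' : j ⁻¹ᵁ 𝔛.lvU h k (W ⊓ U) ≤ j ⁻¹ᵁ 𝔛.lvU h k W :=
      j.preimage_mono (lvU_mono 𝔛 h k inf_le_left)
    exact Function.bijective_iff_has_inverse.2 ⟨fun z => rs T e z,
      fun z => show rs T e (rs T e' z) = z by rw [rs_rs, rs_self],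
      fun z => show rs T e' (rs T e z) = z by rw [rs_rs, rs_self]⟩
  have hrs : ∀ (T : (Spec R).Modules), Function.Injective
      (rs T (le_top : j ⁻¹ᵁ 𝔛.lvU h k U ≤ ⊤)) := fun T a b hab => by
    have := congrArg (rs T hU.fromSpec_preimage_self.ge) hab
    rwa [rs_rs, rs_rs, rs_self, rs_self] at this
  have hsm : ∀ (T : (Spec R).Modules) (a : O 𝔛 h U) (z : G.obj T),
      ((a • (show (Q T).val.obj (op U) from rs T (le_top : j ⁻¹ᵁ 𝔛.lvU h k U ≤ ⊤) z)) :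
        (Q T).val.obj (op U)) =
      (rs T (le_top : j ⁻¹ᵁ 𝔛.lvU h k U ≤ ⊤) ((pR 𝔛 h k U a • z : G.obj T) : Γ(T, ⊤)) :
        Γ(T, j ⁻¹ᵁ 𝔛.lvU h k U)) := by
    intro T a z
    let z₀ : Γ(T, ⊤) := z
    let z₁ : Γ(T, j ⁻¹ᵁ 𝔛.lvU h k U) := rs T (le_top : j ⁻¹ᵁ 𝔛.lvU h k U ≤ ⊤) z₀
    show (j.app (𝔛.lvU h k U)) (pR 𝔛 h k U a) • z₁ = _
    refine Eq.trans ?_ (rs_smul T _ ((Spec R).presheaf.map (⊤ : (Spec R).Opens).leTop.op
      ((Scheme.ΓSpecIso R).inv (pR 𝔛 h k U a))) (show Γ(T, ⊤) from z)).symm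
    refine congrArg (· • _) ?_
    refine (ConcreteCategory.congr_hom hU.fromSpec_app_self (pR 𝔛 h k U a)).trans ?_
    refine Eq.trans ?_ (Groth.L18.Frame.ro_ro (X := Spec R) _ _ _).symm
    rfl
  have hhom_inj : ∀ (T : (Spec R).Modules) (f f' : A ⟶ T), (∀ i, f.app ⊤ (tt i) = f'.app ⊤ (tt i)) → f = f' := by
    intro T f f' hff'
    have hq : ∀ j', ∑ i, r j' i • ((hom T f).val.app (op U)).hom (s i) = 0 := fun j' => by
      rw [← map_zero ((hom T f).val.app (op U)).hom, ← hp.rel_zero j', map_sum]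
      exact Finset.sum_congr rfl fun i _ => (map_smul _ _ _).symm
    exact (hom T).injective ((existsUnique_hom_of_locPres hp (hsupp T) _ hq).unique (fun _ => rfl) fun i => by
      rw [hhom, hhom, hff' i])
  have hhom_surj : ∀ (T : (Spec R).Modules) (q : Fin n → G.obj T), (∀ j', ∑ i, ρ j' i • q i = 0) →
      ∃ f : A ⟶ T, ∀ i, f.app ⊤ (tt i) = q i := by
    intro T q hq
    obtain ⟨θ, hθ, -⟩ := existsUnique_hom_of_locPres hp (hsupp T)
      (fun i => (show (Q T).val.obj (op U) from rs T (le_top : j ⁻¹ᵁ 𝔛.lvU h k U ≤ ⊤) (q i))) (fun j' => by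
        refine Eq.trans (Finset.sum_congr rfl fun i _ => hsm T (r j' i) (q i)) ?_
        refine Eq.trans (map_sum (T.presheaf.map (homOfLE le_top).op).hom _ _).symm ?_
        exact (congrArg (T.presheaf.map (homOfLE le_top).op).hom (hq j')).trans (map_zero _))
    refine ⟨(hom T).symm θ, fun i => hrs T ?_⟩
    rw [← hhom, Equiv.apply_symm_apply]
    exact hθ i
  -- the module
  let P : Submodule R (Fin n → R) := Submodule.span R (Set.range ρ)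
  let N : ModuleCat.{u} R := ModuleCat.of R ((Fin n → R) ⧸ P)
  haveI : Module.FinitePresentation R N :=
    Module.finitePresentation_of_surjective P.mkQ (Submodule.mkQ_surjective _) (by
      rw [Submodule.ker_mkQ]; exact Submodule.fg_span (Set.finite_range _))
  -- the comparison `Γ(A) ≃ Γ(F_k, U)`
  let ε : G.obj A → Γ(LF 𝔛 h 𝔉 k, 𝔛.lvU h k U) := fun z => rs (LF 𝔛 h 𝔉 k) e2.ge z
  have hε : ∀ (c : R) (z : G.obj A), ε (c • z) = c • ε z := fun c z =>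
    Groth.L20.ModStalk.finitePresentation_sections_affine.appIso_smul (LF 𝔛 h 𝔉 k) hU c z
  have hεadd : ∀ a b : G.obj A, ε (a + b) = ε a + ε b := fun a b =>
    map_add ((LF 𝔛 h 𝔉 k).presheaf.map (homOfLE e2.ge).op).hom a b
  have hεtt : ∀ i, ε (tt i) = t i := fun i => by
    show rs (LF 𝔛 h 𝔉 k) e2.ge (rs (LF 𝔛 h 𝔉 k) e2.le (t i)) = t i
    rw [rs_rs, rs_self]
  have hεbij : Function.Bijective ε := Function.bijective_iff_has_inverse.2
    ⟨fun y => rs (LF 𝔛 h 𝔉 k) e2.le y,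
      fun z => show rs (LF 𝔛 h 𝔉 k) e2.le (rs (LF 𝔛 h 𝔉 k) e2.ge z) = z by rw [rs_rs]; exact rs_self _ _ _,
      fun z => show rs (LF 𝔛 h 𝔉 k) e2.ge (rs (LF 𝔛 h 𝔉 k) e2.le z) = z by rw [rs_rs, rs_self]⟩
  let εₗ : G.obj A →ₗ[R] Γ(LF 𝔛 h 𝔉 k, 𝔛.lvU h k U) :=
    { toFun := ε, map_add' := hεadd, map_smul' := hε }
  have hρtt : ∀ j', ∑ i, ρ j' i • tt i = 0 := fun j' => hεbij.1 (by
    have h0 : ∑ i, ρ j' i • t i = 0 := by
      refine Eq.trans ?_ ((congrArg (((FSch.levelMor 𝔛 h k).adj.unit.app 𝔉).val.app (op U)).hom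
        (hp.rel_zero j')).trans (map_zero _))
      refine Eq.trans ?_ (map_sum (((FSch.levelMor 𝔛 h k).adj.unit.app 𝔉).val.app (op U)).hom _ _).symm
      exact Finset.sum_congr rfl fun i _ => (ηF_smul 𝔛 h 𝔉 k U _ _).symm
    show εₗ _ = εₗ 0
    refine Eq.trans (map_sum εₗ _ _) (Eq.trans (Finset.sum_congr rfl fun i _ => ?_) (h0.trans (map_zero εₗ).symm))
    exact (map_smul εₗ (ρ j' i) (tt i)).trans (congrArg (ρ j' i • ·) (hεtt i)))
  let π₀ : (Fin n → R) →ₗ[R] G.obj A :=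
    { toFun := fun c => ∑ i, c i • tt i
      map_add' := fun c d => by simp [add_smul, Finset.sum_add_distrib]
      map_smul' := fun a c => by simp [Finset.smul_sum, mul_smul] }
  let ψ₁ : ((Fin n → R) ⧸ P) →ₗ[R] G.obj A := P.liftQ π₀ (Submodule.span_le.2 (by
    rintro _ ⟨j', rfl⟩
    exact hρtt j'))
  let ψ₀ : N ⟶ G.obj A := ModuleCat.ofHom (Y := G.obj A) ψ₁
  let Ψ : tilde N ⟶ A := ((tilde.adjunction (R := R)).homEquiv _ _).symm ψ₀
  let u₀ : N ⟶ G.obj (tilde N) := (tilde.adjunction (R := R)).unit.app N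
  have hΨ : ∀ z : N, Ψ.app ⊤ (u₀ z) = ψ₀ z := fun z => by
    have := ((tilde.adjunction (R := R)).homEquiv_unit N A Ψ).symm.trans (Equiv.apply_symm_apply _ ψ₀)
    exact ConcreteCategory.congr_hom this z
  let gen : Fin n → N := fun i => P.mkQ (Pi.single i 1)
  have hgen : ∀ c : Fin n → R, (P.mkQ c : N) = ∑ i, c i • gen i := fun c =>
    (congrArg P.mkQ (show c = ∑ i, c i • (Pi.single i 1 : Fin n → R) by funext l; simp [Pi.single_apply])).trans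
      ((map_sum P.mkQ _ _).trans (Finset.sum_congr rfl fun i _ => map_smul _ _ _))
  obtain ⟨Φ, hΦ⟩ := hhom_surj (tilde N) (fun i => u₀ (gen i)) (fun j' => by
    refine Eq.trans (Finset.sum_congr rfl fun i _ => (map_smul u₀.hom (ρ j' i) (gen i)).symm) ?_
    rw [← map_sum, ← hgen, show P.mkQ (ρ j') = 0 from
      (Submodule.Quotient.mk_eq_zero _).2 (Submodule.subset_span ⟨j', rfl⟩)]
    exact map_zero _)
  have hψgen : ∀ i, ψ₀ (gen i) = tt i := fun i => by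
    show ψ₁ (P.mkQ (Pi.single i 1)) = tt i
    rw [Submodule.mkQ_apply, Submodule.liftQ_apply]
    show (∑ l, (Pi.single i 1 : Fin n → R) l • tt l) = tt i
    rw [Finset.sum_eq_single i (fun l _ hl => by rw [Pi.single_eq_of_ne hl, zero_smul]) (by simp),
      Pi.single_eq_same, one_smul]
  have h1 : Φ ≫ Ψ = 𝟙 A := hhom_inj A _ _ fun i => by
    show Ψ.app ⊤ (Φ.app ⊤ (tt i)) = tt i
    rw [hΦ, hΨ, hψgen]
  have h2 : Ψ ≫ Φ = 𝟙 (tilde N) := by
    refine ((tilde.adjunction (R := R)).homEquiv _ _).injective (ModuleCat.hom_ext (LinearMap.ext fun z => ?_))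
    simp only [Adjunction.homEquiv_unit]
    show Φ.app ⊤ (Ψ.app ⊤ (u₀ z)) = u₀ z
    rw [hΨ]
    obtain ⟨c, rfl⟩ := Submodule.mkQ_surjective P z
    rw [hgen]
    show (G.map Φ).hom (ψ₀.hom (∑ i, c i • gen i)) = u₀.hom (∑ i, c i • gen i)
    simp only [map_sum, map_smul]
    refine Finset.sum_congr rfl fun i _ => congrArg (c i • ·) ?_
    exact (congrArg (G.map Φ).hom (hψgen i)).trans (hΦ i)
  let iso : A ≅ tilde N := ⟨Φ, Ψ, h1, h2⟩
  let L : N →ₗ[R] Γ(LF 𝔛 h 𝔉 k, 𝔛.lvU h k U) := εₗ.comp ψ₀.hom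
  have hL : ∀ c : Fin n → R, L (P.mkQ c) = ∑ i, c i • t i := fun c => by
    rw [hgen, map_sum]
    refine Finset.sum_congr rfl fun i _ => ?_
    rw [map_smul]
    exact congrArg (c i • ·) ((congrArg ε (hψgen i)).trans (hεtt i))
  have hu₀ : Function.Bijective u₀ := by
    haveI : IsIso u₀ := inferInstanceAs (IsIso ((tilde.adjunction (R := R)).unit.app N))
    exact ConcreteCategory.bijective_of_isIso u₀
  have hLbij : Function.Bijective L := by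
    have e3 : (L : N → _) = ε ∘ (G.map Ψ) ∘ u₀ := funext fun z => (congrArg ε (hΨ z)).symm
    rw [e3]
    haveI : IsIso Ψ := ⟨Φ, h2, h1⟩
    exact hεbij.comp ((ConcreteCategory.bijective_of_isIso (G.map Ψ)).comp hu₀)
  refine ⟨fun y => ?_, fun c hc => ?_, N, inferInstance, ⟨iso⟩⟩
  · obtain ⟨z, rfl⟩ := hLbij.2 y
    obtain ⟨c, rfl⟩ := Submodule.mkQ_surjective P z
    exact ⟨c, (hL c).symm⟩
  · have h0 : P.mkQ c = 0 := hLbij.1 ((hL c).trans (hc.trans (map_zero L).symm))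
    obtain ⟨d, hd⟩ := (Submodule.mem_span_range_iff_exists_fun R).1 ((Submodule.Quotient.mk_eq_zero _).1 h0)
    exact ⟨d, fun i => by simp [← hd, ρ]⟩

end Groth.L17.FSheaf
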