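import Groth.Agent.L17.FSheaf.OpensFP
import Groth.Agent.L15.KFlatSite.ToSheafColim

/-!
# Local presentations of modules on a ringed space
-/

set_option autoImplicit false
set_option linter.style.haveILetI false
set_option linter.unusedSectionVars false
set_option backward.isDefEq.respectTransparency false
set_option backward.isDefEq.respectTransparency.types false

universe u

open CategoryTheory CategoryTheory.Limits TopologicalSpace Opposite

noncomputable section

namespace Groth.L17.FSheaf

variable {Y : TopCat.{u}} {R : Sheaf (Opens.grothendieckTopology Y) RingCat.{u}} (M : SheafOfModules.{u} R)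

theorem res_res {U V W : Opens Y} (hVU : V ≤ U) (hWV : W ≤ V) (x : M.val.obj (op U)) :
    res M hWV (res M hVU x) = res M (hWV.trans hVU) x :=
  (PresheafOfModules.map_comp_apply M.val (homOfLE hVU).op (homOfLE hWV).op x).symm

theorem res_self {U : Opens Y} (h : U ≤ U) (x : M.val.obj (op U)) : res M h x = x :=
  LinearMap.congr_fun (congrArg ModuleCat.Hom.hom (M.val.map_id (op U))) x

theorem res_smul {U V : Opens Y} (h : V ≤ U) (a : R.obj.obj (op U)) (x : M.val.obj (op U)) :
    res M h (a • x) = rres h a • res M h x :=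
  PresheafOfModules.map_smul M.val (homOfLE h).op a x

theorem res_add {U V : Opens Y} (h : V ≤ U) (x y : M.val.obj (op U)) :
    res M h (x + y) = res M h x + res M h y :=
  map_add (M.val.map (homOfLE h).op).hom x y

theorem res_sub {U V : Opens Y} (h : V ≤ U) (x y : M.val.obj (op U)) :
    res M h (x - y) = res M h x - res M h y :=
  map_sub (M.val.map (homOfLE h).op).hom x y

theorem res_zero {U V : Opens Y} (h : V ≤ U) : res M h (0 : M.val.obj (op U)) = 0 :=
  map_zero (M.val.map (homOfLE h).op).hom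

theorem res_sum {ι : Type*} (t : Finset ι) {U V : Opens Y} (h : V ≤ U) (x : ι → M.val.obj (op U)) :
    res M h (∑ i ∈ t, x i) = ∑ i ∈ t, res M h (x i) :=
  map_sum (M.val.map (homOfLE h).op).hom x t

theorem rres_rres {U V W : Opens Y} (hVU : V ≤ U) (hWV : W ≤ V) (a : R.obj.obj (op U)) :
    rres hWV (rres hVU a) = rres (hWV.trans hVU) a :=
  (ConcreteCategory.congr_hom (R.obj.map_comp (homOfLE hVU).op (homOfLE hWV).op) a).symm

theorem rres_self {U : Opens Y} (h : U ≤ U) (a : R.obj.obj (op U)) : rres h a = a :=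
  ConcreteCategory.congr_hom (R.obj.map_id (op U)) a

theorem res_comb {U V W : Opens Y} (hWU : W ≤ U) (hVW : V ≤ W) {n : ℕ} (c : Fin n → R.obj.obj (op W))
    (s : Fin n → M.val.obj (op U)) :
    res M hVW (∑ i, c i • res M hWU (s i)) = ∑ i, rres hVW (c i) • res M (hVW.trans hWU) (s i) := by
  rw [res_sum]
  exact Finset.sum_congr rfl fun i _ => by rw [res_smul, res_res]

theorem eq_of_locally {W : Opens Y} (a b : M.val.obj (op W))
    (h : ∀ x ∈ W, ∃ (V : Opens Y) (hV : V ≤ W), x ∈ V ∧ res M hV a = res M hV b) : a = b := by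
  choose V hV hxV he using h
  exact TopCat.Sheaf.eq_of_locally_eq' (⟨M.val.presheaf, M.isSheaf⟩ : TopCat.Sheaf Ab.{u} Y)
    (fun x : W => V x.1 x.2) W (fun x => homOfLE (hV x.1 x.2))
    (fun x hx => Opens.mem_iSup.2 ⟨⟨x, hx⟩, hxV x hx⟩) a b fun x => he x.1 x.2

/-- Sections generating locally, with all relations locally generated by the given ones. -/
structure LocPres {U : Opens Y} {n m : ℕ} (s : Fin n → M.val.obj (op U))
    (r : Fin m → Fin n → R.obj.obj (op U)) : Prop where
  gen : ∀ ⦃W : Opens Y⦄ (hW : W ≤ U), ∀ x ∈ W, ∀ y : M.val.obj (op W), ∃ (V : Opens Y) (hV : V ≤ W),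
    x ∈ V ∧ ∃ c : Fin n → R.obj.obj (op V), res M hV y = ∑ i, c i • res M (hV.trans hW) (s i)
  rel_zero : ∀ j, ∑ i, r j i • s i = 0
  rel : ∀ ⦃W : Opens Y⦄ (hW : W ≤ U) (c : Fin n → R.obj.obj (op W)), ∑ i, c i • res M hW (s i) = 0 →
    ∀ x ∈ W, ∃ (V : Opens Y) (hV : V ≤ W), x ∈ V ∧ ∃ d : Fin m → R.obj.obj (op V),
      ∀ i, rres hV (c i) = ∑ j, d j * rres (hV.trans hW) (r j i)

variable {M} in
theorem LocPres.restrict {U U' : Opens Y} {n m : ℕ} {s : Fin n → M.val.obj (op U)}
    {r : Fin m → Fin n → R.obj.obj (op U)} (hp : LocPres M s r) (h : U' ≤ U) :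
    LocPres M (fun i => res M h (s i)) (fun j i => rres h (r j i)) where
  gen W hW x hx y := by
    obtain ⟨V, hV, hxV, c, hc⟩ := hp.gen (hW.trans h) x hx y
    exact ⟨V, hV, hxV, c, hc.trans (Finset.sum_congr rfl fun i _ => by rw [res_res])⟩
  rel_zero j := by
    refine Eq.trans (Finset.sum_congr rfl fun i _ => (res_smul M h _ _).symm) ?_
    rw [← res_sum, hp.rel_zero, res_zero]
  rel W hW c hc x hx := by
    obtain ⟨V, hV, hxV, d, hd⟩ := hp.rel (hW.trans h) c
      (Eq.trans (Finset.sum_congr rfl fun i _ => by rw [res_res]) hc) x hx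
    exact ⟨V, hV, hxV, d, fun i => (hd i).trans (Finset.sum_congr rfl fun j _ => by rw [rres_rres])⟩

section Over

variable {U : Opens Y}

theorem e_coeff {I : Type u} [Fintype I] {W : (Over U)ᵒᵖ} (a b : I → (R.over U).obj.obj W)
    (h : ∑ i, a i • e (R := R) I i W = ∑ i, b i • e (R := R) I i W) : a = b := by
  classical
  funext i
  let p : SheafOfModules.free (R := R.over U) I ⟶ SheafOfModules.unit (R.over U) :=
    Cofan.IsColimit.desc (SheafOfModules.isColimitFreeCofan I) fun j => if j = i then 𝟙 _ else 0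
  have hp : ∀ j, (p.val.app W).hom (e (R := R) I j W) = (if j = i then (1 : (R.over U).obj.obj W) else 0) := fun j => by
    show ((SheafOfModules.ιFree j ≫ p).val.app W).hom (1 : (R.over U).obj.obj W) = _
    rw [show SheafOfModules.ιFree j ≫ p = _ from Cofan.IsColimit.fac (SheafOfModules.isColimitFreeCofan I) _ j]
    rcases eq_or_ne j i with rfl | hj
    · rw [if_pos rfl, if_pos rfl]; rfl
    · rw [if_neg hj, if_neg hj]; rfl
  have key : ∀ a : I → (R.over U).obj.obj W, (p.val.app W).hom (∑ j, a j • e (R := R) I j W) = a i := fun a => by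
    rw [map_sum, Finset.sum_eq_single i]
    · rw [map_smul, hp, if_pos rfl]
      exact mul_one (a i)
    · intro j _ hj
      rw [map_smul, hp, if_neg hj]
      exact mul_zero (a j)
    · exact fun h => absurd (Finset.mem_univ i) h
  rw [← key a, h, key]

/-- Epimorphisms are locally surjective on sections. -/
theorem exists_lift_over {A B : SheafOfModules.{u} (R.over U)} (p : A ⟶ B) [Epi p] {W : Opens Y} (hW : W ≤ U)
    (y : B.val.obj (objO hW)) (x : Y) (hx : x ∈ W) : ∃ (V : Opens Y) (hV : V ≤ W), x ∈ V ∧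
      ∃ a : A.val.obj (objO (hV.trans hW)), (p.val.app (objO (hV.trans hW))).hom a =
        B.val.map (show objO hW ⟶ objO (hV.trans hW) from (Over.homMk (homOfLE hV)).op) y := by
  haveI := Groth.L15.KFlatSite.preservesColimits_toSheaf (R.over U)
  haveI : Sheaf.IsLocallySurjective ((SheafOfModules.toSheaf.{u} _).map p) :=
    (Sheaf.isLocallySurjective_iff_epi' _ _).2 inferInstance
  have hS := Presheaf.imageSieve_mem ((Opens.grothendieckTopology Y).over U)
    ((SheafOfModules.toSheaf.{u} _).map p).hom (U := objO hW) y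
  rw [GrothendieckTopology.mem_over_iff] at hS
  obtain ⟨V, f, hf, hxV⟩ := hS x hx
  obtain ⟨a, ha⟩ := (Sieve.overEquiv_iff _ f).1 hf
  exact ⟨V, leOfHom f, hxV, a, ha⟩

end Over

section FromPresentation

variable {M} {U : Opens Y} {σ : (M.over U).GeneratingSections}

/-- The sections underlying generating sections over an open. -/
abbrev gsec (σ : (M.over U).GeneratingSections) (i : σ.I) : M.val.obj (op U) := (σ.s i).val (topO U)

theorem π_e_gsec (i : σ.I) {W : Opens Y} (hW : W ≤ U) :
    (σ.π.val.app (objO hW)).hom (e (R := R) σ.I i (objO hW)) = res M hW (gsec σ i) := by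
  rw [π_e]
  exact ((σ.s i).property (toO (objO hW))).symm

theorem π_comb [Fintype σ.I] {W : Opens Y} (hW : W ≤ U) (c : σ.I → R.obj.obj (op W)) :
    (σ.π.val.app (objO hW)).hom (∑ i, (show (R.over U).obj.obj (objO hW) from c i) • e (R := R) σ.I i (objO hW)) =
      ∑ i, c i • res M hW (gsec σ i) := by
  rw [map_sum]
  exact Finset.sum_congr rfl fun i _ =>
    (map_smul _ _ _).trans (congrArg (c i • ·) (π_e_gsec i hW))

/-- Restriction of combinations of the standard sections of a free module. -/
theorem comb_map {I : Type u} [Fintype I] {W W' : (Over U)ᵒᵖ} (f : W ⟶ W')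
    (c : I → (R.over U).obj.obj W) :
    (SheafOfModules.free (R := R.over U) I).val.map f (∑ i, c i • e (R := R) I i W) =
      ∑ i, (R.over U).obj.map f (c i) • e (R := R) I i W' := by
  refine (map_sum ((SheafOfModules.free (R := R.over U) I).val.map f).hom _ _).trans ?_
  refine Finset.sum_congr rfl fun i _ => ?_
  refine (PresheafOfModules.map_smul _ f _ _).trans ?_
  rw [e_map]

theorem gen_of_presentation [Fintype σ.I] {W : Opens Y} (hW : W ≤ U) (x : Y) (hx : x ∈ W)
    (y : M.val.obj (op W)) : ∃ (V : Opens Y) (hV : V ≤ W), x ∈ V ∧ ∃ c : σ.I → R.obj.obj (op V),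
      res M hV y = ∑ i, c i • res M (hV.trans hW) (gsec σ i) := by
  obtain ⟨V, hV, hxV, b, hb⟩ := exists_lift_over σ.π hW y x hx
  obtain ⟨c, rfl⟩ := exists_coeff (objO (hV.trans hW)) b
  refine ⟨V, hV, hxV, c, ?_⟩
  rw [← π_comb]
  exact hb.symm

theorem rel_of_presentation [Fintype σ.I] (τ : (kernel σ.π).GeneratingSections) [Fintype τ.I]
    (a : τ.I → σ.I → R.obj.obj (op U))
    (ha : ∀ j, ((kernel.ι σ.π).val.app (topO U)).hom ((τ.s j).val (topO U)) =
      ∑ i, (show (R.over U).obj.obj (topO U) from a j i) • e (R := R) σ.I i (topO U))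
    {W : Opens Y} (hW : W ≤ U) (c : σ.I → R.obj.obj (op W)) (hc : ∑ i, c i • res M hW (gsec σ i) = 0)
    (x : Y) (hx : x ∈ W) : ∃ (V : Opens Y) (hV : V ≤ W), x ∈ V ∧ ∃ d : τ.I → R.obj.obj (op V),
      ∀ i, rres hV (c i) = ∑ j, d j * rres (hV.trans hW) (a j i) := by
  obtain ⟨k, hk⟩ := (exists_kernel_section σ.π (objO hW) _ ((π_comb hW c).trans hc)).1
  obtain ⟨V, hV, hxV, b, hb⟩ := exists_lift_over τ.π hW k x hx
  obtain ⟨d, rfl⟩ := exists_coeff (objO (hV.trans hW)) b
  refine ⟨V, hV, hxV, d, fun i => ?_⟩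
  let f : objO hW ⟶ objO (hV.trans hW) := (Over.homMk (homOfLE hV)).op
  have hι : ∀ j, ((kernel.ι σ.π).val.app (objO (hV.trans hW))).hom ((τ.s j).val (objO (hV.trans hW))) =
      ∑ i, (R.over U).obj.map (toO (objO (hV.trans hW))) (show (R.over U).obj.obj (topO U) from a j i) •
        e (R := R) σ.I i (objO (hV.trans hW)) := by
    intro j
    rw [← (τ.s j).property (toO (objO (hV.trans hW)))]
    let t : topO U ⟶ objO (hV.trans hW) := toO (objO (hV.trans hW))
    show ((kernel.ι σ.π).val.app (objO (hV.trans hW))).hom ((kernel σ.π).val.map t ((τ.s j).val (topO U))) = _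
    refine Eq.trans (PresheafOfModules.naturality_apply (kernel.ι σ.π).val t ((τ.s j).val (topO U))) ?_
    exact (congrArg ((SheafOfModules.free (R := R.over U) σ.I).val.map t).hom (ha j)).trans (comb_map _ _)
  have h2 := congrArg ((kernel.ι σ.π).val.app (objO (hV.trans hW))).hom hb
  rw [map_sum, map_sum] at h2
  have h4 : ∑ i, (R.over U).obj.map f (show (R.over U).obj.obj (objO hW) from c i) •
        e (R := R) σ.I i (objO (hV.trans hW)) =
      ∑ i, (∑ j, d j * (R.over U).obj.map (toO (objO (hV.trans hW)))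
        (show (R.over U).obj.obj (topO U) from a j i)) • e (R := R) σ.I i (objO (hV.trans hW)) := by
    refine Eq.trans ?_ (h2.symm.trans ?_)
    · refine Eq.trans ?_ (PresheafOfModules.naturality_apply (kernel.ι σ.π).val f k).symm
      refine Eq.trans ?_ (congrArg ((SheafOfModules.free (R := R.over U) σ.I).val.map f).hom hk).symm
      exact (comb_map f _).symm
    · simp only [Finset.sum_smul]
      rw [Finset.sum_comm]
      refine Finset.sum_congr rfl fun j _ => ?_
      rw [map_smul, π_e, map_smul, hι, Finset.smul_sum]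
      exact Finset.sum_congr rfl fun i _ => smul_smul _ _ _
  exact congrFun (e_coeff _ _ h4) i

end FromPresentation

/-- Modules of finite presentation have local presentations by sections. -/
theorem exists_locPres [M.IsFinitePresentation] (x : Y) : ∃ (U : Opens Y), x ∈ U ∧
    ∃ (n m : ℕ) (s : Fin n → M.val.obj (op U)) (r : Fin m → Fin n → R.obj.obj (op U)), LocPres M s r := by
  classical
  obtain ⟨q, hq⟩ := SheafOfModules.IsFinitePresentation.exists_quasicoherentData.{u} M
  obtain ⟨i₀, hi₀⟩ := Opens.mem_iSup.1 (show x ∈ ⨆ i, q.X i from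
    (show TopologicalSpace.IsOpenCover q.X from (Opens.coversTop_iff _ q.X).1 q.coversTop).symm ▸ Opens.mem_top x)
  haveI := hq.isFinite_presentation i₀
  refine ⟨q.X i₀, hi₀, ?_⟩
  generalize q.X i₀ = U, q.presentation i₀ = P at *
  haveI : Finite P.generators.I :=
    (SheafOfModules.Presentation.IsFinite.isFiniteType_generators (p := P)).finite
  haveI : Finite P.relations.I :=
    (SheafOfModules.Presentation.IsFinite.isFiniteType_relations (p := P)).finite
  haveI : Fintype P.generators.I := Fintype.ofFinite _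
  haveI : Fintype P.relations.I := Fintype.ofFinite _
  let εI : P.generators.I ≃ Fin (Fintype.card P.generators.I) := Fintype.equivFin _
  let εJ : P.relations.I ≃ Fin (Fintype.card P.relations.I) := Fintype.equivFin _
  choose a ha using fun j => exists_coeff (R := R) (topO U)
    (((kernel.ι P.generators.π).val.app (topO U)).hom ((P.relations.s j).val (topO U)))
  refine ⟨_, _, fun i => gsec P.generators (εI.symm i), fun j i => a (εJ.symm j) (εI.symm i), ⟨?_, ?_, ?_⟩⟩
  · intro W hW z hz y
    obtain ⟨V, hV, hzV, c, hc⟩ := gen_of_presentation (σ := P.generators) hW z hz y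
    exact ⟨V, hV, hzV, fun i => c (εI.symm i), hc.trans (εI.symm.sum_comp _).symm⟩
  · intro j
    refine Eq.trans (εI.symm.sum_comp fun i => (show R.obj.obj (op U) from a (εJ.symm j) i) •
      gsec P.generators i) ?_
    have h0 : (P.generators.π.val.app (topO U)).hom (((kernel.ι P.generators.π).val.app (topO U)).hom
        ((P.relations.s (εJ.symm j)).val (topO U))) = 0 :=
      LinearMap.congr_fun (congrArg (fun φ => ((φ : _ ⟶ M.over U).val.app (topO U)).hom)
        (kernel.condition P.generators.π)) _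
    rw [ha] at h0
    refine Eq.trans (Finset.sum_congr rfl fun i _ => ?_) ((π_comb (σ := P.generators) (le_refl U) _).symm.trans h0)
    rw [res_self]
  · intro W hW c hc z hz
    obtain ⟨V, hV, hzV, d, hd⟩ := rel_of_presentation P.relations a ha hW (fun i => c (εI i)) (by
      rw [← εI.symm.sum_comp]
      exact Eq.trans (Finset.sum_congr rfl fun i _ => by rw [Equiv.apply_symm_apply]) hc) z hz
    refine ⟨V, hV, hzV, fun j => d (εJ.symm j), fun i => ?_⟩
    have h5 := hd (εI.symm i)
    rw [Equiv.apply_symm_apply] at h5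
    exact h5.trans (εJ.symm.sum_comp _).symm

section Desc

variable {M} {U : Opens Y} {n m : ℕ} {s : Fin n → M.val.obj (op U)} {r : Fin m → Fin n → R.obj.obj (op U)}
  (hp : LocPres M s r) {Q : SheafOfModules.{u} R}

include hp in
theorem comb_eq {q : Fin n → Q.val.obj (op U)} (hq : ∀ j, ∑ i, r j i • q i = 0) {W : Opens Y} (hW : W ≤ U)
    {c c' : Fin n → R.obj.obj (op W)}
    (h : ∑ i, c i • res M hW (s i) = ∑ i, c' i • res M hW (s i)) :
    ∑ i, c i • res Q hW (q i) = ∑ i, c' i • res Q hW (q i) := by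
  refine eq_of_locally Q _ _ fun x hx => ?_
  obtain ⟨V, hV, hxV, d, hd⟩ := hp.rel hW (fun i => c i - c' i) (by
    simp only [sub_smul, Finset.sum_sub_distrib, h, sub_self]) x hx
  refine ⟨V, hV, hxV, ?_⟩
  rw [res_comb, res_comb, ← sub_eq_zero, ← Finset.sum_sub_distrib]
  have hd' : ∀ i, rres hV (c i) - rres hV (c' i) = ∑ j, d j * rres (hV.trans hW) (r j i) := fun i =>
    (map_sub (R.obj.map (homOfLE hV).op).hom (c i) (c' i)).symm.trans (hd i)
  simp only [← sub_smul, hd', Finset.sum_smul, mul_smul]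
  rw [Finset.sum_comm]
  refine Finset.sum_eq_zero fun j _ => ?_
  rw [← Finset.smul_sum]
  have h0 := congrArg (res Q (hV.trans hW)) (hq j)
  rw [res_sum, res_zero] at h0
  simp only [res_smul] at h0
  rw [h0, smul_zero]

include hp in
/-- Morphisms to a module concentrated on the open are given by values on the generators. -/
theorem existsUnique_hom_of_locPres
    (hQ : ∀ W : Opens Y, Function.Bijective (res Q (inf_le_left : W ⊓ U ≤ W)))
    (q : Fin n → Q.val.obj (op U)) (hq : ∀ j, ∑ i, r j i • q i = 0) :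
    ∃! θ : M ⟶ Q, ∀ i, (θ.val.app (op U)).hom (s i) = q i := by
  classical
  have hext : ∀ {W : Opens Y} (a b : Q.val.obj (op W)), (∀ x ∈ W ⊓ U, ∃ (V : Opens Y) (hV : V ≤ W ⊓ U),
      x ∈ V ∧ res Q (hV.trans inf_le_left) a = res Q (hV.trans inf_le_left) b) → a = b := by
    intro W a b h
    refine (hQ W).1 (eq_of_locally Q _ _ fun x hx => ?_)
    obtain ⟨V, hV, hxV, he⟩ := h x hx
    exact ⟨V, hV, hxV, by rw [res_res, res_res]; exact he⟩
  have hex : ∀ (W : Opens Y) (y : M.val.obj (op W)), ∃ z : Q.val.obj (op W),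
      ∀ (V : Opens Y) (hV : V ≤ W) (hVU : V ≤ U) (c : Fin n → R.obj.obj (op V)),
        res M hV y = ∑ i, c i • res M hVU (s i) → res Q hV z = ∑ i, c i • res Q hVU (q i) := by
    intro W y
    choose V hV hxV c hc using fun x : ↥(W ⊓ U) =>
      hp.gen (inf_le_right : W ⊓ U ≤ U) x.1 x.2 (res M inf_le_left y)
    let sf : ∀ x, Q.val.obj (op (V x)) := fun x => ∑ i, c x i • res Q ((hV x).trans inf_le_right) (q i)
    obtain ⟨z₀, hz₀, -⟩ := TopCat.Sheaf.existsUnique_gluing'
      (⟨Q.val.presheaf, Q.isSheaf⟩ : TopCat.Sheaf Ab.{u} Y) V (W ⊓ U) (fun x => homOfLE (hV x))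
      (fun x hx => Opens.mem_iSup.2 ⟨⟨x, hx⟩, hxV ⟨x, hx⟩⟩) sf (fun x x' => by
        show res Q (inf_le_left : V x ⊓ V x' ≤ V x) (sf x) = res Q inf_le_right (sf x')
        rw [res_comb, res_comb]
        refine comb_eq hp hq _ ?_
        rw [← res_comb M ((hV x).trans inf_le_right) (inf_le_left : V x ⊓ V x' ≤ V x), ← hc,
          ← res_comb M ((hV x').trans inf_le_right) (inf_le_right : V x ⊓ V x' ≤ V x'), ← hc]
        simp only [res_res])
    obtain ⟨z, hz⟩ := (hQ W).2 z₀
    refine ⟨z, fun V' hV' hV'U c' hc' => eq_of_locally Q _ _ fun x hx => ?_⟩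
    let x' : ↥(W ⊓ U) := ⟨x, hV' hx, hV'U hx⟩
    refine ⟨V x' ⊓ V', inf_le_right, ⟨hxV x', hx⟩, ?_⟩
    have hz' : res Q ((hV x').trans inf_le_left) z = sf x' := by
      rw [← res_res Q (inf_le_left : W ⊓ U ≤ W) (hV x'), hz]
      exact hz₀ x'
    rw [res_res, ← res_res Q ((hV x').trans inf_le_left) (inf_le_left : V x' ⊓ V' ≤ V x'), hz', res_comb, res_comb]
    refine comb_eq hp hq _ ?_
    rw [← res_comb M ((hV x').trans inf_le_right) (inf_le_left : V x' ⊓ V' ≤ V x'), ← hc,
      ← res_comb M hV'U (inf_le_right : V x' ⊓ V' ≤ V'), ← hc']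
    simp only [res_res]
  choose F hF using hex
  have hloc : ∀ {W : Opens Y} (y : M.val.obj (op W)) (z : Q.val.obj (op W)),
      (∀ (V : Opens Y) (hV : V ≤ W) (hVU : V ≤ U) (c : Fin n → R.obj.obj (op V)),
        res M hV y = ∑ i, c i • res M hVU (s i) → res Q hV z = ∑ i, c i • res Q hVU (q i)) → F W y = z := by
    intro W y z h
    refine hext _ _ fun x hx => ?_
    obtain ⟨V, hV, hxV, c, hc⟩ := hp.gen (inf_le_right : W ⊓ U ≤ U) x hx (res M inf_le_left y)
    rw [res_res] at hc
    exact ⟨V, hV, hxV, (hF W y V _ _ c hc).trans (h V _ _ c hc).symm⟩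
  have hadd : ∀ (W : Opens Y) (a b : M.val.obj (op W)), F W (a + b) = F W a + F W b := by
    intro W a b
    refine hext _ _ fun x hx => ?_
    obtain ⟨V, hV, hxV, c, hc⟩ := hp.gen (inf_le_right : W ⊓ U ≤ U) x hx (res M inf_le_left a)
    obtain ⟨V', hV', hxV', c', hc'⟩ := hp.gen (hV.trans inf_le_right) x hxV
      (res M (hV.trans inf_le_left) b)
    rw [res_res] at hc hc'
    have hca : res M ((hV'.trans hV).trans inf_le_left) a =
        ∑ i, rres hV' (c i) • res M ((hV'.trans hV).trans inf_le_right) (s i) := by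
      rw [← res_res M (hV.trans inf_le_left) hV' a, hc, res_comb]
    refine ⟨V', hV'.trans hV, hxV', ?_⟩
    rw [hF W (a + b) V' _ ((hV'.trans hV).trans inf_le_right) (fun i => rres hV' (c i) + c' i) (by
        rw [res_add, hca, hc']; simp only [add_smul, Finset.sum_add_distrib]),
      res_add, hF W a V' _ _ _ hca, hF W b V' _ _ c' hc']
    simp only [add_smul, Finset.sum_add_distrib]
  have hres : ∀ {W W' : Opens Y} (h : W' ≤ W) (y : M.val.obj (op W)),
      F W' (res M h y) = res Q h (F W y) := fun h y => hloc _ _ fun V hV hVU c hc => by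
    rw [res_res] at hc ⊢
    exact hF _ y V _ hVU c hc
  let φ : M.val.presheaf ⟶ Q.val.presheaf :=
    { app := fun W => AddCommGrpCat.ofHom (AddMonoidHom.mk' (F W.unop) (hadd W.unop))
      naturality := fun W W' g => by
        ext y
        exact hres (leOfHom g.unop) y }
  let θ : M ⟶ Q := ⟨PresheafOfModules.homMk φ fun W a y => by
    show F W.unop (a • y) = a • F W.unop y
    refine hext _ _ fun x hx => ?_
    obtain ⟨V, hV, hxV, c, hc⟩ := hp.gen (inf_le_right : W.unop ⊓ U ≤ U) x hx (res M inf_le_left y)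
    rw [res_res] at hc
    refine ⟨V, hV, hxV, ?_⟩
    rw [hF W.unop (a • y) V _ (hV.trans inf_le_right) (fun i => rres (hV.trans inf_le_left) a * c i) (by
        rw [res_smul, hc, Finset.smul_sum]; simp only [mul_smul]),
      res_smul, hF W.unop y V _ _ c hc, Finset.smul_sum]
    simp only [mul_smul]⟩
  have hθ : ∀ i, (θ.val.app (op U)).hom (s i) = q i := fun i => by
    show F U (s i) = q i
    refine hext _ _ fun x hx => ⟨U ⊓ U, le_rfl, hx, ?_⟩
    rw [hF U (s i) _ _ inf_le_left (fun l => if l = i then 1 else 0) (by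
      rw [Finset.sum_eq_single i (fun l _ hl => by rw [if_neg hl, zero_smul]) (by simp), if_pos rfl, one_smul]),
      Finset.sum_eq_single i (fun l _ hl => by rw [if_neg hl, zero_smul]) (by simp), if_pos rfl, one_smul]
  refine ⟨θ, hθ, fun θ' hθ' => ?_⟩
  apply SheafOfModules.hom_ext
  apply PresheafOfModules.hom_ext
  intro W
  ext y
  show (θ'.val.app W).hom y = F W.unop y
  refine (hloc y _ fun V hV hVU c hc => ?_).symm
  refine (PresheafOfModules.naturality_apply θ'.val (homOfLE hV).op y).symm.trans ?_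
  refine (congrArg (θ'.val.app (op V)).hom hc).trans ?_
  rw [map_sum]
  refine Finset.sum_congr rfl fun i _ => ?_
  rw [map_smul]
  refine congrArg (c i • ·) ?_
  exact (PresheafOfModules.naturality_apply θ'.val (homOfLE hVU).op (s i)).trans (congrArg (res Q hVU) (hθ' i))

end Desc

end Groth.L17.FSheaf
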