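import Groth.Agent.L17.FSheaf.CohCat

/-!
# Monomorphisms and epimorphisms are open in the adic topology on homomorphisms
-/

set_option autoImplicit false
set_option linter.style.haveILetI false
set_option linter.unusedSectionVars false
set_option backward.isDefEq.respectTransparency false
set_option backward.isDefEq.respectTransparency.types false

universe u

open CategoryTheory CategoryTheory.Limits AlgebraicGeometry TopologicalSpace Opposite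

noncomputable section

namespace Groth.L17.FSheaf

/-- A morphism on sections over an open. -/
abbrev homSect {𝔛 : FSch.Sys.{u}} {h : 𝔛.IsFormal} {𝔉 𝔊 : FSch.ModF 𝔛 h} (θ : 𝔉 ⟶ 𝔊) (U : (𝔛.X 0).Opens) :
    SF 𝔛 h 𝔉 U →ₗ[O 𝔛 h U] SF 𝔛 h 𝔊 U :=
  (θ.val.app (op U)).hom

variable (𝔛 : FSch.Sys.{u}) (hX : 𝔛.IsLocNoethFormal) {𝔉 𝔊 : FSch.ModF 𝔛 hX.1}
  (h𝔉 : FSch.IsCohF 𝔛 hX.1 𝔉) (h𝔊 : FSch.IsCohF 𝔛 hX.1 𝔊)

include h𝔉 h𝔊 in
/-- A morphism with kernel zero on the members of an affine cover is a monomorphism. -/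
theorem mono_of_injective_cover (θ : 𝔉 ⟶ 𝔊) (S : Set (Opens (𝔛.X 0)))
    (hS : ∀ x : 𝔛.X 0, ∃ U ∈ S, x ∈ U) (haff : ∀ U ∈ S, IsAffineOpen (U : (𝔛.X 0).Opens))
    (hinj : ∀ U ∈ S, ∀ x : SF 𝔛 hX.1 𝔉 U, (θ.val.app (op U)).hom x = 0 → x = 0) : Mono θ := by
  have hK := isCohF_kernel 𝔛 hX h𝔉 h𝔊 θ
  refine Preadditive.mono_of_kernel_zero (hom_ext_basis (𝔛.X 0).isBasis_affineOpens _ _ fun W hW z => ?_)
  refine eq_of_locally (R := ModSite.ringSh (𝔛.Osh hX.1)) 𝔉 _ _ fun x hx => ?_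
  obtain ⟨U, hUS, hxU⟩ := hS x
  obtain ⟨V, hV, hxV, hVWU⟩ := Opens.isBasis_iff_nbhd.1 (𝔛.X 0).isBasis_affineOpens
    (show x ∈ W ⊓ U from ⟨hx, hxU⟩)
  obtain ⟨n, m, g, r, -, hg⟩ := exists_gen_rel_SF 𝔛 hX hK (haff U hUS)
  refine ⟨V, hVWU.trans inf_le_left, hxV, ?_⟩
  have hg0 : ∀ i, ((kernel.ι θ).val.app (op U)).hom (g i) = 0 := fun i =>
    hinj U hUS _ (hom_comp_zero (kernel.condition θ) _ (g i))
  let zV : SF 𝔛 hX.1 (kernel θ) V := res (R := ModSite.ringSh (𝔛.Osh hX.1)) (kernel θ) (hVWU.trans inf_le_left) z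
  obtain ⟨a, ha⟩ := (Submodule.mem_span_range_iff_exists_fun _).1
    ((hg hV (hVWU.trans inf_le_right)).1 ▸ Submodule.mem_top : zV ∈ _)
  show res 𝔉 _ (((kernel.ι θ).val.app (op W)).hom z) = res 𝔉 _ 0
  rw [res_zero]
  refine (PresheafOfModules.naturality_apply (kernel.ι θ).val (homOfLE (hVWU.trans inf_le_left)).op z).symm.trans ?_
  refine (congrArg ((kernel.ι θ).val.app (op V)).hom ha.symm).trans ?_
  rw [map_sum]
  refine Finset.sum_eq_zero fun i _ => ?_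
  refine (map_smul _ _ _).trans ?_
  refine (congrArg (a i • ·) ((PresheafOfModules.naturality_apply (kernel.ι θ).val
    (homOfLE (hVWU.trans inf_le_right)).op (g i)).trans ?_)).trans (smul_zero _)
  exact (congrArg _ (hg0 i)).trans (map_zero _)

theorem comp_unit_eq_zero_mono (ψ : 𝔉 ⟶ 𝔊) :
    ∀ n, ψ ≫ (FSch.levelMor 𝔛 hX.1 n).adj.unit.app 𝔊 = 0 →
      ψ ≫ (FSch.levelMor 𝔛 hX.1 0).adj.unit.app 𝔊 = 0
  | 0, h => h
  | n + 1, h => comp_unit_eq_zero_mono ψ n (by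
      rw [← FSch.unit_levelTrans 𝔛 hX.1 𝔊 n, ← Category.assoc, h, zero_comp])

include h𝔉 h𝔊 in
/-- Monomorphisms and epimorphisms are open. -/
theorem exists_level_mono_epi_add [CompactSpace (𝔛.X 0)] (θ : 𝔉 ⟶ 𝔊) :
    ∃ n : ℕ, ∀ ψ : 𝔉 ⟶ 𝔊, ψ ≫ (FSch.levelMor 𝔛 hX.1 n).adj.unit.app 𝔊 = 0 →
      (Mono θ → Mono (θ + ψ)) ∧ (Epi θ → Epi (θ + ψ)) := by
  classical
  choose U₀ hU₀ hxU₀ using fun x : 𝔛.X 0 => show ∃ U : (𝔛.X 0).Opens, IsAffineOpen U ∧ x ∈ U from by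
    obtain ⟨_, ⟨U, hU, rfl⟩, hxU, -⟩ :=
      (𝔛.X 0).isBasis_affineOpens.exists_subset_of_mem_open (Set.mem_univ x) isOpen_univ
    exact ⟨U, hU, hxU⟩
  obtain ⟨t, ht⟩ := isCompact_univ.elim_finite_subcover (fun x => (U₀ x : Set (𝔛.X 0))) (fun x => (U₀ x).2)
    fun x _ => Set.mem_iUnion.2 ⟨x, hxU₀ x⟩
  have hAR : ∀ x : 𝔛.X 0, ∃ c : ℕ, ∀ N ≥ c,
      J 𝔛 hX.1 (U₀ x) ^ N • (⊤ : Submodule (O 𝔛 hX.1 (U₀ x)) (SF 𝔛 hX.1 𝔊 (U₀ x))) ⊓
        LinearMap.range (homSect θ (U₀ x)) ≤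
      J 𝔛 hX.1 (U₀ x) ^ (N - c) • LinearMap.range (homSect θ (U₀ x)) := by
    intro x
    haveI := (O_spec 𝔛 hX (hU₀ x)).1
    haveI := (SF_spec 𝔛 hX h𝔊 (hU₀ x)).1
    obtain ⟨c, hc⟩ := Ideal.exists_pow_inf_eq_pow_smul (J 𝔛 hX.1 (U₀ x))
      (LinearMap.range (homSect θ (U₀ x)))
    exact ⟨c, fun N hN => (hc N hN).le.trans (Submodule.smul_mono le_rfl inf_le_right)⟩
  choose c hc using hAR
  refine ⟨t.sup c, fun ψ hψ => ⟨fun hθ => ?_, fun hθ => ?_⟩⟩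
  · refine mono_of_injective_cover 𝔛 hX h𝔉 h𝔊 _ (U₀ '' ↑t) (fun y => ?_)
      (fun _ ⟨x, _, e⟩ => e ▸ hU₀ x) ?_
    · obtain ⟨x, hxt, hyx⟩ := Set.mem_iUnion₂.1 (ht (Set.mem_univ y))
      exact ⟨U₀ x, ⟨x, hxt, rfl⟩, hyx⟩
    rintro _ ⟨x, hxt, rfl⟩ z hz
    let U := U₀ x
    haveI := (O_spec 𝔛 hX (hU₀ x)).1
    haveI := (O_spec 𝔛 hX (hU₀ x)).2.1
    haveI := (SF_spec 𝔛 hX h𝔉 (hU₀ x)).1
    let T : SF 𝔛 hX.1 𝔉 U →ₗ[O 𝔛 hX.1 U] SF 𝔛 hX.1 𝔊 U := (θ.val.app (op U)).hom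
    let P : SF 𝔛 hX.1 𝔉 U →ₗ[O 𝔛 hX.1 U] SF 𝔛 hX.1 𝔊 U := (ψ.val.app (op U)).hom
    have hT : Function.Injective T := (injective_iff_map_eq_zero T).2 fun y hy => by
      obtain ⟨k, hk⟩ := (exists_kernel_sect θ (op U)).1 y hy
      rw [show kernel.ι θ = 0 from (cancel_mono θ).1 (by rw [kernel.condition, zero_comp])] at hk
      exact hk.symm
    have hP : ∀ a, ∀ y ∈ J 𝔛 hX.1 U ^ a • (⊤ : Submodule (O 𝔛 hX.1 U) (SF 𝔛 hX.1 𝔉 U)),
        P y ∈ J 𝔛 hX.1 U ^ (a + (t.sup c + 1)) • (⊤ : Submodule (O 𝔛 hX.1 U) (SF 𝔛 hX.1 𝔊 U)) := by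
      intro a y hy
      rw [pow_add, ← smul_eq_mul, Submodule.smul_assoc]
      refine Submodule.smul_mono le_rfl ?_ (Submodule.map_smul'' (J 𝔛 hX.1 U ^ a) ⊤ P ▸ Submodule.mem_map_of_mem hy)
      rintro _ ⟨w, -, rfl⟩
      exact (((SF_spec 𝔛 hX h𝔊 (hU₀ x)).2 _).2 (P w)).1 (hom_comp_zero hψ _ w)
    have hall : ∀ a, z ∈ J 𝔛 hX.1 U ^ a • (⊤ : Submodule (O 𝔛 hX.1 U) (SF 𝔛 hX.1 𝔉 U)) := by
      intro a
      induction a with
      | zero => rw [pow_zero, Ideal.one_eq_top, Submodule.top_smul]; exact Submodule.mem_top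
      | succ a ih =>
        have hTz : T z = -P z := eq_neg_of_add_eq_zero_left hz
        have h1 : T z ∈ J 𝔛 hX.1 U ^ (a + (t.sup c + 1) - c x) • LinearMap.range T := by
          refine hc x _ (by have := Finset.le_sup (f := c) hxt; omega) ⟨?_, ⟨z, rfl⟩⟩
          show T z ∈ _
          rw [hTz]
          exact Submodule.neg_mem _ (hP a z ih)
        rw [← Submodule.map_top, ← Submodule.map_smul''] at h1
        obtain ⟨w, hw, hwz⟩ := h1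
        rw [← hT hwz]
        refine Submodule.smul_mono (Ideal.pow_le_pow_right ?_) le_rfl hw
        have := Finset.le_sup (f := c) hxt
        omega
    refine (Submodule.mem_bot (O 𝔛 hX.1 U)).1 (mem_of_forall_mem_sup (J 𝔛 hX.1 U) ⊥ fun a => ?_)
    rw [bot_sup_eq]
    exact hall a
  · haveI : (FSch.levelMor 𝔛 hX.1 0).pull.IsLeftAdjoint := (FSch.levelMor 𝔛 hX.1 0).adj.isLeftAdjoint
    haveI := preservesBinaryBiproducts_of_preservesBinaryCoproducts (FSch.levelMor 𝔛 hX.1 0).pull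
    haveI : (FSch.levelMor 𝔛 hX.1 0).pull.Additive := Functor.additive_of_preservesBinaryBiproducts _
    have h0 : (FSch.levelMor 𝔛 hX.1 0).pull.map ψ = 0 := by
      refine ((FSch.levelMor 𝔛 hX.1 0).adj.homEquiv _ _).injective ?_
      rw [Adjunction.homEquiv_unit, Adjunction.homEquiv_unit, CategoryTheory.Functor.map_zero, comp_zero]
      exact ((FSch.levelMor 𝔛 hX.1 0).adj.unit.naturality ψ).symm.trans (comp_unit_eq_zero_mono 𝔛 hX ψ _ hψ)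
    haveI : Epi ((FSch.levelMor 𝔛 hX.1 0).pull.map (θ + ψ)) := by
      rw [CategoryTheory.Functor.map_add, h0, add_zero]
      infer_instance
    exact epi_of_epi_zero 𝔛 hX h𝔉 h𝔊 (θ + ψ)

end Groth.L17.FSheaf
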