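import Groth.Prelude.Def_FSch5
import Groth.Agent.L20.ThickAffine
import Groth.Agent.L17.ThickBasic

/-!
# Sections of the structure sheaf of a formal system
-/

set_option autoImplicit false
set_option linter.style.haveILetI false
set_option linter.unusedSectionVars false
set_option backward.isDefEq.respectTransparency false
set_option backward.isDefEq.respectTransparency.types false

universe u

open CategoryTheory CategoryTheory.Limits AlgebraicGeometry TopologicalSpace Opposite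

noncomputable section

namespace Groth.L17.FSheaf

variable (𝔛 : FSch.Sys.{u}) (h : 𝔛.IsFormal)

theorem toX_preimage_lvU (n : ℕ) (U : (𝔛.X 0).Opens) : 𝔛.toX n ⁻¹ᵁ 𝔛.lvU h n U = U := by
  change (Opens.map ((𝔛.toX n).base ≫ 𝔛.gInv h n)).obj U = U
  rw [𝔛.toX_base_gInv h n]
  rfl

theorem lvU_mono (n : ℕ) {U V : (𝔛.X 0).Opens} (hVU : V ≤ U) : 𝔛.lvU h n V ≤ 𝔛.lvU h n U :=
  fun _ hx => hVU hx

/-- The opens of the levels over an affine open are affine. -/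
theorem isAffineOpen_lvU {U : (𝔛.X 0).Opens} (hU : IsAffineOpen U) (n : ℕ) : IsAffineOpen (𝔛.lvU h n U) := by
  haveI := 𝔛.toX_isClosedImmersion h n
  haveI : IsAffine (𝔛.toX n ⁻¹ᵁ 𝔛.lvU h n U : (𝔛.X 0).Opens).toScheme := by
    rw [toX_preimage_lvU]
    exact hU
  refine Groth.L20.ThickAffine.isAffine_of_surjective (𝔛.toX n ∣_ 𝔛.lvU h n U) ?_
  intro y
  obtain ⟨x, hx⟩ := 𝔛.toX_surjective h n ((𝔛.lvU h n U).ι y)
  have hxU : x ∈ 𝔛.toX n ⁻¹ᵁ 𝔛.lvU h n U := by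
    show (𝔛.toX n).base x ∈ 𝔛.lvU h n U
    rw [hx]
    exact y.2
  refine ⟨⟨x, hxU⟩, (𝔛.lvU h n U).ι.isOpenEmbedding.injective ?_⟩
  refine Eq.trans ?_ hx
  exact ((Scheme.Hom.comp_apply _ _ _).symm.trans
    (congrArg (fun f => f ⟨x, hxU⟩) (morphismRestrict_ι (𝔛.toX n) (𝔛.lvU h n U)))).trans rfl

/-- Transition maps on sections of the levels. -/
abbrev tR (n : ℕ) (U : (𝔛.X 0).Opens) :
    Γ(𝔛.X (n + 1), 𝔛.lvU h (n + 1) U) →+* Γ(𝔛.X n, 𝔛.lvU h n U) :=
  ((𝔛.ι n).appLE (𝔛.lvU h (n + 1) U) (𝔛.lvU h n U) (𝔛.lvU_le h n U)).hom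

theorem tR_surjective {U : (𝔛.X 0).Opens} (hU : IsAffineOpen U) (n : ℕ) : Function.Surjective (tR 𝔛 h n U) := by
  haveI := (h n).1
  intro y
  have e : 𝔛.lvU h n U = 𝔛.ι n ⁻¹ᵁ 𝔛.lvU h (n + 1) U := (𝔛.lvU_succ h n U).symm
  obtain ⟨x, hx⟩ := Scheme.Hom.app_surjective (𝔛.ι n) _ (isAffineOpen_lvU 𝔛 h hU (n + 1))
    ((𝔛.X n).presheaf.map (eqToHom e.symm).op y)
  refine ⟨x, ?_⟩
  show ((𝔛.ι n).app _ ≫ (𝔛.X n).presheaf.map _) x = y
  rw [CommRingCat.comp_apply, hx, ← CommRingCat.comp_apply, ← Functor.map_comp]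
  erw [CategoryTheory.Functor.map_id]
  rfl

/-- The sections of `O_𝔛` over an open, as a cone over the sections of the levels. -/
def oshIsLimit (U : (𝔛.X 0).Opens) :=
  isLimitOfPreserves (sheafToPresheaf (Opens.grothendieckTopology (𝔛.X 0)) CommRingCat.{u} ⋙
    (evaluation _ _).obj (op U) ⋙ forget CommRingCat.{u}) (limit.isLimit (𝔛.levelRing h))

/-- The projections on sections. -/
abbrev pR (n : ℕ) (U : (𝔛.X 0).Opens) : (𝔛.Osh h).obj.obj (op U) →+* Γ(𝔛.X n, 𝔛.lvU h n U) :=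
  ((𝔛.OshProj h n).hom.app (op U)).hom

theorem tR_pR (n : ℕ) (U : (𝔛.X 0).Opens) (x : (𝔛.Osh h).obj.obj (op U)) :
    tR 𝔛 h n U (pR 𝔛 h (n + 1) U x) = pR 𝔛 h n U x :=
  ConcreteCategory.congr_hom (congrArg (fun φ => φ.hom.app (op U)) (𝔛.OshProj_levelMap h n)) x

theorem pR_ext {U : (𝔛.X 0).Opens} {x y : (𝔛.Osh h).obj.obj (op U)}
    (hxy : ∀ n, pR 𝔛 h n U x = pR 𝔛 h n U y) : x = y :=
  Concrete.isLimit_ext _ (isLimitOfPreserves (sheafToPresheaf (Opens.grothendieckTopology (𝔛.X 0)) CommRingCat.{u} ⋙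
    (evaluation _ _).obj (op U)) (limit.isLimit (𝔛.levelRing h))) x y fun ⟨n⟩ => hxy n

theorem exists_pR (U : (𝔛.X 0).Opens) (y : ∀ n, Γ(𝔛.X n, 𝔛.lvU h n U))
    (hy : ∀ n, tR 𝔛 h n U (y (n + 1)) = y n) :
    ∃ x : (𝔛.Osh h).obj.obj (op U), ∀ n, pR 𝔛 h n U x = y n := by
  let F := 𝔛.levelRing h ⋙ sheafToPresheaf (Opens.grothendieckTopology (𝔛.X 0)) CommRingCat.{u} ⋙
    (evaluation _ _).obj (op U) ⋙ forget CommRingCat.{u}
  let c : Cone F := ⟨PUnit, NatTrans.ofOpSequence (F := (Functor.const ℕᵒᵖ).obj PUnit)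
    (fun n => TypeCat.ofHom fun _ => y n) fun n => by
      ext
      show y n = ((𝔛.levelRing h).map (homOfLE (Nat.le_add_right n 1)).op).hom.app (op U) (y (n + 1))
      rw [𝔛.levelRing_map_succ h n]
      exact (hy n).symm⟩
  refine ⟨(oshIsLimit 𝔛 h U).lift c PUnit.unit, fun n => ?_⟩
  exact ConcreteCategory.congr_hom ((oshIsLimit 𝔛 h U).fac c (op n)) PUnit.unit

/-- A surjective tower has compatible families through every element. -/
theorem exists_family {B : ℕ → Type u} (t : ∀ n, B (n + 1) → B n) (ht : ∀ n, Function.Surjective (t n))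
    (i : ℕ) (b : B i) : ∃ y : ∀ n, B n, (∀ n, t n (y (n + 1)) = y n) ∧ y i = b := by
  induction i with
  | zero => exact ⟨fun n => Nat.rec b (fun k yk => (ht k yk).choose) n, fun n => (ht n _).choose_spec, rfl⟩
  | succ k ih =>
    obtain ⟨y, hy, hyk⟩ := ih (t k b)
    let y' : ∀ n, B n := fun n =>
      if hn : n ≤ k then y n else
        Nat.leRec (motive := fun m _ => B m) b (fun m _ ym => (ht m ym).choose) (Nat.lt_of_not_le hn)
    refine ⟨y', fun n => ?_, by simp [y']⟩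
    rcases lt_trichotomy n k with hlt | rfl | hgt
    · simp only [y', dif_pos (show n + 1 ≤ k from hlt), dif_pos hlt.le]
      exact hy n
    · simp only [y', dif_pos le_rfl, dif_neg (Nat.not_succ_le_self n), Nat.leRec_self]
      exact hyk.symm
    · simp only [y', dif_neg (show ¬ n ≤ k by omega), dif_neg (show ¬ n + 1 ≤ k by omega)]
      rw [Nat.leRec_succ _ _ (show k + 1 ≤ n from hgt)]
      exact (ht n _).choose_spec

theorem pR_surjective {U : (𝔛.X 0).Opens} (hU : IsAffineOpen U) (i : ℕ) : Function.Surjective (pR 𝔛 h i U) := by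
  intro b
  obtain ⟨y, hy, rfl⟩ := exists_family (B := fun n => Γ(𝔛.X n, 𝔛.lvU h n U)) (fun n => tR 𝔛 h n U)
    (fun n => tR_surjective 𝔛 h hU n) i b
  obtain ⟨x, hx⟩ := exists_pR 𝔛 h U y hy
  exact ⟨x, hx i⟩

end Groth.L17.FSheaf
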