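import Groth.Agent.L17.FSheaf.PullSysReal
import Groth.Agent.L17.FSheaf.CompPush
import Groth.Agent.L17.FlatBase.DegZero
import Groth.Agent.L17.ThickLevels
import Groth.Prelude.Def_FSch6

/-!
# Direct image of a system along an adic affine morphism
-/

set_option autoImplicit false
set_option linter.style.haveILetI false
set_option linter.unusedSectionVars false
set_option backward.isDefEq.respectTransparency false
set_option backward.isDefEq.respectTransparency.types false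
set_option maxHeartbeats 400000

universe u

open CategoryTheory CategoryTheory.Limits AlgebraicGeometry TopologicalSpace Opposite

noncomputable section

namespace Groth.L17.ClosedBC

open Groth.L17.FSheaf
open Groth.L18.Frame (rs ro pull pull_rs rs_rs rs_self)
open Groth.L17.BC.PullSec (app_rs)
open Groth.L17.DegZero (vMap vMap_app transpose_app)

section Gen

variable {X S X' S' : Scheme.{u}} {f : X ⟶ S} {g : S' ⟶ S} {g' : X' ⟶ X} {f' : X' ⟶ S'}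

/-- The base change map for a square of schemes. -/
abbrev bcT (w : g' ≫ f = f' ≫ g) (F : X.Modules) :
    (Scheme.Modules.pullback g).obj ((Scheme.Modules.pushforward f).obj F) ⟶
      (Scheme.Modules.pushforward f').obj ((Scheme.Modules.pullback g').obj F) :=
  ((Scheme.Modules.pullbackPushforwardAdjunction g).homEquiv _ _).symm (vMap f g g' f' w F)

theorem bcT_app (w : g' ≫ f = f' ≫ g) (F : X.Modules) (V : S.Opens) (V' : S'.Opens) (e : V' ≤ g ⁻¹ᵁ V)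
    (e' : f' ⁻¹ᵁ V' ≤ g' ⁻¹ᵁ (f ⁻¹ᵁ V)) (s : Γ(F, f ⁻¹ᵁ V)) :
    (bcT w F).app V' (rs ((Scheme.Modules.pullback g).obj ((Scheme.Modules.pushforward f).obj F)) e
        (pull g ((Scheme.Modules.pushforward f).obj F) V s)) =
      rs ((Scheme.Modules.pullback g').obj F) e' (pull g' F (f ⁻¹ᵁ V) s) := by
  have h : f' ⁻¹ᵁ (g ⁻¹ᵁ V) ≤ g' ⁻¹ᵁ (f ⁻¹ᵁ V) := by
    rw [← Scheme.Hom.comp_preimage, ← Scheme.Hom.comp_preimage, w]
  rw [app_rs, transpose_app, vMap_app f g g' f' w F V h]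
  exact rs_rs ((Scheme.Modules.pullback g').obj F) h (f'.preimage_mono e) _

end Gen

variable {𝔛 𝔖 : FSch.Sys.{u}} (f : 𝔛 ⟶ 𝔖) (hf : FSch.IsAdicHom f)
  (haf : ∀ k, IsAffineHom (fL f k)) (𝔑 : FSch.ModSys 𝔛) (h𝔑 : ∀ k, Coh.IsQCoh (𝔑.F k))

/-- The direct image of a system along an adic morphism with affine levels. -/
def pushSys : FSch.ModSys 𝔖 where
  F k := (Scheme.Modules.pushforward (fL f k)).obj (𝔑.F k)
  e k :=
    haveI := haf (k + 1)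
    haveI := h𝔑 (k + 1)
    haveI := Groth.L17.DegZero.isIso_of_isAffineHom (fL f (k + 1)) (𝔖.ι k) (𝔛.ι k) (fL f k) (𝔑.F (k + 1)) (hf k)
    asIso (bcT (hf k).w (𝔑.F (k + 1))) ≪≫ (Scheme.Modules.pushforward (fL f k)).mapIso (𝔑.e k)

variable (h : 𝔛.IsFormal) (h' : 𝔖.IsFormal)

theorem fU_ge (k : ℕ) (U : (𝔖.X 0).Opens) : fL f k ⁻¹ᵁ 𝔖.lvU h' k U ≤ 𝔛.lvU h k (fU f U) :=
  (FSch.Hom.lvU_preimage f h h' k U).le

/-- The transition maps of the direct image system on sections. -/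
theorem tM_pushSys (k : ℕ) (U : (𝔖.X 0).Opens) (z : Γ(𝔑.F (k + 1), 𝔛.lvU h (k + 1) (fU f U))) :
    (tM 𝔖 h' (pushSys f hf haf 𝔑 h𝔑) k U (rs (𝔑.F (k + 1)) (fU_ge f h h' (k + 1) U) z) :
      Γ((Scheme.Modules.pushforward (fL f k)).obj (𝔑.F k), 𝔖.lvU h' k U)) =
      rs (𝔑.F k) (fU_ge f h h' k U)
        (tM 𝔛 h 𝔑 k (fU f U) z : Γ(𝔑.F k, 𝔛.lvU h k (fU f U))) := by
  have e' : fL f k ⁻¹ᵁ 𝔖.lvU h' k U ≤ 𝔛.ι k ⁻¹ᵁ (fL f (k + 1) ⁻¹ᵁ 𝔖.lvU h' (k + 1) U) :=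
    (fU_ge f h h' k U).trans ((𝔛.lvU_le h k _).trans ((𝔛.ι k).preimage_mono (fU_le f h h' (k + 1) U)))
  rw [tM_apply, tM_apply]
  show ((Scheme.Modules.pushforward (fL f k)).map (𝔑.e k).hom).app _
      ((bcT (hf k).w (𝔑.F (k + 1))).app _
        (rs ((Scheme.Modules.pullback (𝔖.ι k)).obj ((Scheme.Modules.pushforward (fL f (k + 1))).obj (𝔑.F (k + 1))))
          (𝔖.lvU_le h' k U) (pull (𝔖.ι k) _ _ _))) = _
  refine (congrArg (((Scheme.Modules.pushforward (fL f k)).map (𝔑.e k).hom).app _)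
    (bcT_app (hf k).w (𝔑.F (k + 1)) _ _ (𝔖.lvU_le h' k U) e' _)).trans ?_
  refine Eq.trans ?_ (app_rs (𝔑.e k).hom (fU_ge f h h' k U) _)
  refine congrArg ((𝔑.e k).hom.app _) ?_
  rw [← pull_rs, rs_rs, rs_rs]

/-- The morphisms from the direct image to the levels. -/
abbrev pushC (k : ℕ) : (FSch.pushF f h h').obj (𝔑.realMod h) ⟶
    (FSch.levelMor 𝔖 h' k).push.obj ((pushSys f hf haf 𝔑 h𝔑).F k) :=
  (FSch.pushF f h h').map (FSch.realProj 𝔛 h 𝔑.F 𝔑.toPush k) ≫ (FSch.lvPushSq f h h' k).hom.app (𝔑.F k)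

theorem pushC_app (k : ℕ) (U : (𝔖.X 0).Opens) (x : RM 𝔛 h 𝔑 (fU f U)) :
    ((((pushC f hf haf 𝔑 h𝔑 h h' k).val.app (op U)).hom x) :
      Γ((Scheme.Modules.pushforward (fL f k)).obj (𝔑.F k), 𝔖.lvU h' k U)) =
      rs (𝔑.F k) (fU_ge f h h' k U) (qM 𝔛 h 𝔑 k (fU f U) x) :=
  rfl

theorem pushC_comp (k : ℕ) :
    pushC f hf haf 𝔑 h𝔑 h h' (k + 1) ≫
      (FSch.levelMor 𝔖 h' (k + 1)).push.map ((pushSys f hf haf 𝔑 h𝔑).toPush k) ≫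
      (FSch.pushCompare 𝔖 h' k).app ((pushSys f hf haf 𝔑 h𝔑).F k) = pushC f hf haf 𝔑 h𝔑 h h' k := by
  rw [← FSch.levelSysOf_map_succ 𝔖 h' (pushSys f hf haf 𝔑 h𝔑).F (pushSys f hf haf 𝔑 h𝔑).toPush k]
  apply SheafOfModules.hom_ext
  apply PresheafOfModules.Hom.ext
  funext U
  apply ModuleCat.hom_ext
  apply LinearMap.ext
  intro m
  obtain ⟨U⟩ := U
  refine (tM_pushSys f hf haf 𝔑 h𝔑 h h' k U (qM 𝔛 h 𝔑 (k + 1) (fU f U) m)).trans ?_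
  exact congrArg (rs (𝔑.F k) (fU_ge f h h' k U)) (LinearMap.congr_fun (tM_qM 𝔛 h 𝔑 k) m)

variable (hX : 𝔛.IsLocNoethFormal) (hS : 𝔖.IsLocNoethFormal)

/-- The comparison of the direct image with the module of the direct image system. -/
def pushReal : (FSch.pushF f hX.1 hS.1).obj (𝔑.realMod hX.1) ⟶ (pushSys f hf haf 𝔑 h𝔑).realMod hS.1 :=
  liftReal 𝔖 hS _ (pushSys f hf haf 𝔑 h𝔑) (pushC f hf haf 𝔑 h𝔑 hX.1 hS.1) (pushC_comp f hf haf 𝔑 h𝔑 hX.1 hS.1)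

theorem qM_pushReal (k : ℕ) (U : (𝔖.X 0).Opens) (x : RM 𝔛 hX.1 𝔑 (fU f U)) :
    (qM 𝔖 hS.1 (pushSys f hf haf 𝔑 h𝔑) k U (((pushReal f hf haf 𝔑 h𝔑 hX hS).val.app (op U)).hom x) :
      Γ((Scheme.Modules.pushforward (fL f k)).obj (𝔑.F k), 𝔖.lvU hS.1 k U)) =
      rs (𝔑.F k) (fU_ge f hX.1 hS.1 k U) (qM 𝔛 hX.1 𝔑 k (fU f U) x) :=
  (LinearMap.congr_fun (congrArg (fun t => ((t : (FSch.pushF f hX.1 hS.1).obj (𝔑.realMod hX.1) ⟶ _).val.app (op U)).hom)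
    (liftReal_proj 𝔖 hS _ (pushSys f hf haf 𝔑 h𝔑) (pushC f hf haf 𝔑 h𝔑 hX.1 hS.1)
      (pushC_comp f hf haf 𝔑 h𝔑 hX.1 hS.1) k)) x).trans (pushC_app f hf haf 𝔑 h𝔑 hX.1 hS.1 k U x)

theorem rs_bij_eq {Y : Scheme.{u}} (M : Y.Modules) {A B : Y.Opens} (e₁ : A ≤ B) (e₂ : B ≤ A) {a b : Γ(M, B)}
    (hab : rs M e₁ a = rs M e₁ b) : a = b := by
  have := congrArg (rs M e₂) hab
  rwa [rs_rs, rs_rs, rs_self, rs_self] at this

/-- The components of a preimage. -/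
def preC (U : (𝔖.X 0).Opens) (y : RM 𝔖 hS.1 (pushSys f hf haf 𝔑 h𝔑) U) (k : ℕ) :
    Γ(𝔑.F k, 𝔛.lvU hX.1 k (fU f U)) :=
  rs (𝔑.F k) (fU_le f hX.1 hS.1 k U) (qM 𝔖 hS.1 (pushSys f hf haf 𝔑 h𝔑) k U y)

theorem rs_preC (U : (𝔖.X 0).Opens) (y : RM 𝔖 hS.1 (pushSys f hf haf 𝔑 h𝔑) U) (k : ℕ) :
    rs (𝔑.F k) (fU_ge f hX.1 hS.1 k U) (preC f hf haf 𝔑 h𝔑 hX hS U y k) =
      (qM 𝔖 hS.1 (pushSys f hf haf 𝔑 h𝔑) k U y :
        Γ((Scheme.Modules.pushforward (fL f k)).obj (𝔑.F k), 𝔖.lvU hS.1 k U)) :=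
  (rs_rs _ _ _ _).trans (rs_self _ _ _)

theorem tM_preC (U : (𝔖.X 0).Opens) (y : RM 𝔖 hS.1 (pushSys f hf haf 𝔑 h𝔑) U) (k : ℕ) :
    tM 𝔛 hX.1 𝔑 k (fU f U) (preC f hf haf 𝔑 h𝔑 hX hS U y (k + 1)) = preC f hf haf 𝔑 h𝔑 hX hS U y k := by
  refine rs_bij_eq (𝔑.F k) (fU_ge f hX.1 hS.1 k U) (fU_le f hX.1 hS.1 k U) ?_
  refine Eq.trans ?_ (rs_preC f hf haf 𝔑 h𝔑 hX hS U y k).symm
  refine Eq.trans ?_ (LinearMap.congr_fun (tM_qM 𝔖 hS.1 (pushSys f hf haf 𝔑 h𝔑) k) y)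
  refine Eq.trans (tM_pushSys f hf haf 𝔑 h𝔑 hX.1 hS.1 k U (preC f hf haf 𝔑 h𝔑 hX hS U y (k + 1))).symm ?_
  exact congrArg (fun t => tM 𝔖 hS.1 (pushSys f hf haf 𝔑 h𝔑) k U t) (rs_preC f hf haf 𝔑 h𝔑 hX hS U y (k + 1))

theorem injective_pushReal (U : (𝔖.X 0).Opens) :
    Function.Injective ((pushReal f hf haf 𝔑 h𝔑 hX hS).val.app (op U)).hom := by
  intro x y hxy
  refine qM_ext 𝔛 hX.1 𝔑 fun k => ?_
  refine rs_bij_eq (𝔑.F k) (fU_ge f hX.1 hS.1 k U) (fU_le f hX.1 hS.1 k U) ?_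
  exact (qM_pushReal f hf haf 𝔑 h𝔑 hX hS k U x).symm.trans
    ((congrArg (qM 𝔖 hS.1 (pushSys f hf haf 𝔑 h𝔑) k U) hxy).trans (qM_pushReal f hf haf 𝔑 h𝔑 hX hS k U y))

theorem bijective_pushReal (U : (𝔖.X 0).Opens) :
    Function.Bijective ((pushReal f hf haf 𝔑 h𝔑 hX hS).val.app (op U)).hom := by
  refine ⟨injective_pushReal f hf haf 𝔑 h𝔑 hX hS U, fun y => ?_⟩
  obtain ⟨x, hx⟩ := exists_qM 𝔛 hX.1 𝔑 (U := fU f U) (preC f hf haf 𝔑 h𝔑 hX hS U y)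
    (tM_preC f hf haf 𝔑 h𝔑 hX hS U y)
  refine ⟨x, qM_ext 𝔖 hS.1 _ fun k => ?_⟩
  refine (qM_pushReal f hf haf 𝔑 h𝔑 hX hS k U x).trans ?_
  exact (congrArg (rs (𝔑.F k) (fU_ge f hX.1 hS.1 k U)) (hx k)).trans (rs_preC f hf haf 𝔑 h𝔑 hX hS U y k)

theorem isBasis_all {T : Type u} [TopologicalSpace T] : Opens.IsBasis (Set.univ : Set (Opens T)) :=
  Opens.isBasis_iff_nbhd.2 fun {U x} hx => ⟨U, trivial, hx, le_rfl⟩

theorem isIso_pushReal : IsIso (pushReal f hf haf 𝔑 h𝔑 hX hS) := by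
  haveI := mono_of_injective_basis isBasis_all (pushReal f hf haf 𝔑 h𝔑 hX hS)
    fun U _ => (bijective_pushReal f hf haf 𝔑 h𝔑 hX hS U).1
  haveI := epi_of_surjective_basis isBasis_all (pushReal f hf haf 𝔑 h𝔑 hX hS)
    fun U _ => (bijective_pushReal f hf haf 𝔑 h𝔑 hX hS U).2
  exact isIso_of_mono_of_epi _

end Groth.L17.ClosedBC
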