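import Groth.Agent.L17.FSheaf.RestrictMod
import Groth.Agent.L17.FSheaf.AdicBase

/-!
# A morphism of formal schemes over an affine open of the target is a morphism to a formal spectrum
-/

set_option autoImplicit false
set_option linter.style.haveILetI false
set_option linter.unusedSectionVars false
set_option backward.isDefEq.respectTransparency false
set_option backward.isDefEq.respectTransparency.types false

universe u

open CategoryTheory CategoryTheory.Limits AlgebraicGeometry TopologicalSpace Opposite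

noncomputable section

namespace Groth.L17.FSheaf.Restr

open Groth.L17.FSheaf Groth.L17.FSheaf.AdicBase

theorem resLE_toSpecΓ {X Y : Scheme.{u}} (f : X ⟶ Y) (U : Y.Opens) (V : X.Opens) (e : V ≤ f ⁻¹ᵁ U) :
    f.resLE U V e ≫ U.toSpecΓ = V.toSpecΓ ≫ Spec.map (f.appLE U V e) := by
  rw [Scheme.Hom.appLE, Spec.map_comp, ← Category.assoc, Scheme.Opens.toSpecΓ_SpecMap_presheaf_map,
    Category.assoc, Scheme.Opens.toSpecΓ_naturality, Scheme.Hom.resLE]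
  simp only [Category.assoc]

variable (𝔜 : FSch.Sys.{u}) (hY : 𝔜.IsLocNoethFormal) {V : (𝔜.X 0).Opens} (hV : IsAffineOpen V)

/-- The levels of the functions on an affine open. -/
def ek (k : ℕ) : O 𝔜 hY.1 V ⧸ J 𝔜 hY.1 V ^ (k + 1) →+* Γ(𝔜.X k, 𝔜.lvU hY.1 k V) :=
  Ideal.Quotient.lift _ (pR 𝔜 hY.1 k V) fun a ha => by
    rw [← RingHom.mem_ker, (O_spec 𝔜 hY hV).2.2 k]
    exact ha

theorem ek_mk (k : ℕ) (a : O 𝔜 hY.1 V) : ek 𝔜 hY hV k (Ideal.Quotient.mk _ a) = pR 𝔜 hY.1 k V a := rfl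

theorem isIso_ek (k : ℕ) : IsIso (CommRingCat.ofHom (ek 𝔜 hY hV k)) := by
  refine (ConcreteCategory.isIso_iff_bijective _).2
    ⟨?_, Ideal.Quotient.lift_surjective_of_surjective _ _ (pR_surjective 𝔜 hY.1 hV k)⟩
  refine RingHom.lift_injective_of_ker_le_ideal _ _ ?_
  exact ((O_spec 𝔜 hY hV).2.2 k).le

/-- The levels over an affine open as spectra. -/
def gk (k : ℕ) : (𝔜.restrictOpen hY.1 V).X k ⟶ (FSch.spf (O 𝔜 hY.1 V) (J 𝔜 hY.1 V)).X k :=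
  (𝔜.lvU hY.1 k V).toSpecΓ ≫ Spec.map (CommRingCat.ofHom (ek 𝔜 hY hV k))

theorem isIso_gk (k : ℕ) : IsIso (gk 𝔜 hY hV k) := by
  haveI := isIso_ek 𝔜 hY hV k
  haveI : IsIso (𝔜.lvU hY.1 k V).toSpecΓ := by
    rw [← IsAffineOpen.isoSpec_hom (isAffineOpen_lvU 𝔜 hY.1 hV k)]
    infer_instance
  rw [gk]
  exact IsIso.comp_isIso

theorem gk_comm (k : ℕ) :
    (𝔜.restrictOpen hY.1 V).ι k ≫ gk 𝔜 hY hV (k + 1) =
      gk 𝔜 hY hV k ≫ (FSch.spf (O 𝔜 hY.1 V) (J 𝔜 hY.1 V)).ι k := by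
  show (𝔜.ι k).resLE _ _ _ ≫ _ ≫ Spec.map _ = _
  rw [← Category.assoc, resLE_toSpecΓ, gk, Category.assoc, Category.assoc]
  refine congrArg (_ ≫ ·) ?_
  show Spec.map _ ≫ Spec.map _ = Spec.map _ ≫ Spec.map _
  rw [← Spec.map_comp, ← Spec.map_comp]
  refine congrArg Spec.map (CommRingCat.hom_ext (Ideal.Quotient.ringHom_ext (RingHom.ext fun a => ?_)))
  exact tR_pR 𝔜 hY.1 k V a

/-- An affine open of a formal scheme as a formal spectrum. -/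
def gV : 𝔜.restrictOpen hY.1 V ⟶ FSch.spf (O 𝔜 hY.1 V) (J 𝔜 hY.1 V) :=
  ⟨gk 𝔜 hY hV, fun k => (gk_comm 𝔜 hY hV k).symm⟩

theorem spf_isLocNoethFormal (A : Type u) [CommRing A] [IsNoetherianRing A] (I : Ideal A) :
    (FSch.spf A I).IsLocNoethFormal := by
  haveI : ∀ n, IsClosedImmersion (FSch.spfToSpec A I n) := fun n =>
    IsClosedImmersion.spec_of_surjective _ Ideal.Quotient.mk_surjective
  refine Groth.L17.Thick.isLocNoethFormal_of_ker_pow (FSch.idealSpec A I) (FSch.spfToSpec A I)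
    (FSch.spfToSpec_comm A I) fun n => ?_
  refine (Scheme.IdealSheafData.ext_of_isAffine ?_)
  rw [Scheme.IdealSheafData.ideal_pow]
  refine (AdicBase.specMap_ker_ideal (CommRingCat.ofHom (Ideal.Quotient.mk (I ^ (n + 1))))
    Ideal.Quotient.mk_surjective).trans ?_
  rw [CommRingCat.hom_ofHom, Ideal.mk_ker, Ideal.map_pow]
  refine congrArg (· ^ (n + 1)) ?_
  refine Eq.trans ?_ (AdicBase.specMap_ker_ideal (CommRingCat.ofHom (Ideal.Quotient.mk I))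
    Ideal.Quotient.mk_surjective).symm
  rw [CommRingCat.hom_ofHom, Ideal.mk_ker]

variable {𝔛 : FSch.Sys.{u}} (h : 𝔛.IsFormal) (f : 𝔛 ⟶ 𝔜) (V)

/-- The preimage of the open. -/
abbrev preU : (𝔛.X 0).Opens := (f : FSch.Hom 𝔛 𝔜).app 0 ⁻¹ᵁ V

variable {V}

/-- The restricted morphism to the formal spectrum. -/
def fV : XU 𝔛 h (preU 𝔜 V f) ⟶ FSch.spf (O 𝔜 hY.1 V) (J 𝔜 hY.1 V) :=
  FSch.Hom.restrictOpen f h hY.1 V ≫ gV 𝔜 hY hV

theorem fV_app (k : ℕ) : ((fV 𝔜 hY hV h f : FSch.Hom _ _).app k) =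
    ((f : FSch.Hom 𝔛 𝔜).app k).resLE (𝔜.lvU hY.1 k V) (𝔛.lvU h k (preU 𝔜 V f))
      (FSch.Hom.lvU_preimage f h hY.1 k V).ge ≫ gk 𝔜 hY hV k := rfl

theorem isAdicHom_restrict (hf : FSch.IsAdicHom f) : FSch.IsAdicHom (FSch.Hom.restrictOpen f h hY.1 V) := fun n => by
  have h1 := (isAdicHom_restrictOpenι 𝔛 h (preU 𝔜 V f) n).paste_vert (hf n)
  refine IsPullback.of_bot (v₂₁ := (𝔜.restrictOpenι hY.1 V : FSch.Hom _ _).app n)
    (v₂₂ := (𝔜.restrictOpenι hY.1 V : FSch.Hom _ _).app (n + 1)) (h₃₁ := 𝔜.ι n) ?_ ?_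
    (isAdicHom_restrictOpenι 𝔜 hY.1 V n)
  · have e : ∀ m, (FSch.Hom.restrictOpen f h hY.1 V : FSch.Hom _ _).app m ≫
        (𝔜.restrictOpenι hY.1 V : FSch.Hom _ _).app m =
        (𝔛.restrictOpenι h (preU 𝔜 V f) : FSch.Hom _ _).app m ≫ (f : FSch.Hom 𝔛 𝔜).app m := fun m => by
      simp
    rw [e, e]
    exact h1
  · exact ((FSch.Hom.restrictOpen f h hY.1 V : FSch.Hom _ _).comm n).symm

theorem isAdicHom_fV (hf : FSch.IsAdicHom f) : FSch.IsAdicHom (fV 𝔜 hY hV h f) := fun n => by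
  haveI := isIso_gk 𝔜 hY hV n
  haveI := isIso_gk 𝔜 hY hV (n + 1)
  haveI : IsIso ((gV 𝔜 hY hV : FSch.Hom _ _).app n) := isIso_gk 𝔜 hY hV n
  haveI : IsIso ((gV 𝔜 hY hV : FSch.Hom _ _).app (n + 1)) := isIso_gk 𝔜 hY hV (n + 1)
  exact (isAdicHom_restrict 𝔜 hY h f hf n).paste_vert (IsPullback.of_vert_isIso ⟨gk_comm 𝔜 hY hV n⟩)

theorem isProper_fV (hf : IsProper ((f : FSch.Hom 𝔛 𝔜).app 0)) :
    IsProper ((fV 𝔜 hY hV h f : FSch.Hom _ _).app 0) := by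
  haveI := hf
  haveI := isIso_gk 𝔜 hY hV 0
  haveI : IsProper (((f : FSch.Hom 𝔛 𝔜).app 0).resLE (𝔜.lvU hY.1 0 V) (𝔛.lvU h 0 (preU 𝔜 V f))
      (FSch.Hom.lvU_preimage f h hY.1 0 V).ge) :=
    MorphismProperty.of_isPullback (P := @IsProper)
      (isPullback_resLE ((f : FSch.Hom 𝔛 𝔜).app 0) (FSch.Hom.lvU_preimage f h hY.1 0 V).symm).flip hf
  rw [fV_app]
  infer_instance

theorem appLE_toSpecΓ_comp {X : Scheme.{u}} {U : X.Opens} {R : CommRingCat.{u}} (φ : R ⟶ Γ(X, U)) (W : U.toScheme.Opens)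
    (x : R) :
    (U.toSpecΓ ≫ Spec.map φ).appLE ⊤ W le_top ((Scheme.ΓSpecIso R).inv x) =
      X.presheaf.map (homOfLE (U.ι_image_le W)).op (φ x) := by
  have h2 : (U.toSpecΓ ≫ Spec.map φ).appLE ⊤ W le_top =
      (Spec.map φ).appTop ≫ U.toSpecΓ.appTop ≫ U.toScheme.presheaf.map (homOfLE le_top).op := by
    rw [Scheme.Hom.appLE, ← Category.assoc, ← Scheme.Hom.comp_appTop]

  rw [h2]
  show U.toScheme.presheaf.map _ (U.toSpecΓ.appTop ((Spec.map φ).appTop ((Scheme.ΓSpecIso R).inv x))) = _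
  rw [show (Spec.map φ).appTop ((Scheme.ΓSpecIso R).inv x) = (Scheme.ΓSpecIso Γ(X, U)).inv (φ x) from
    (ConcreteCategory.congr_hom (Scheme.ΓSpecIso_inv_naturality φ) x).symm, Scheme.Opens.toSpecΓ_appTop]
  show U.toScheme.presheaf.map _ (U.topIso.inv ((Scheme.ΓSpecIso Γ(X, U)).hom ((Scheme.ΓSpecIso Γ(X, U)).inv (φ x)))) = _
  rw [show (Scheme.ΓSpecIso Γ(X, U)).hom ((Scheme.ΓSpecIso Γ(X, U)).inv (φ x)) = φ x from
    ConcreteCategory.congr_hom (Scheme.ΓSpecIso Γ(X, U)).inv_hom_id (φ x)]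
  show (X.presheaf.map _ ≫ X.presheaf.map _) _ = _
  rw [← Functor.map_comp]
  rfl

/-- The scalars of the formal spectrum are the restrictions of the functions of the base. -/
theorem ΓU_fV (a : O 𝔜 hY.1 V) (W : ((XU 𝔛 h (preU 𝔜 V f)).X 0).Opens) :
    ΓU (fV 𝔜 hY hV h f) (hU 𝔛 h (preU 𝔜 V f)) W a =
      β 𝔛 h (preU 𝔜 V f) W
        (resO 𝔛 h (im_le 𝔛 h (preU 𝔜 V f) W) ((FSch.Hom.sharp f h hY.1).hom.app (op V) a)) := by
  refine pR_ext (XU 𝔛 h (preU 𝔜 V f)) (hU 𝔛 h (preU 𝔜 V f)) fun k => ?_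
  rw [pR_ΓU, pR_β, pR_resO]
  have h1 : pR 𝔛 h k (preU 𝔜 V f) ((FSch.Hom.sharp f h hY.1).hom.app (op V) a) =
      ((f : FSch.Hom 𝔛 𝔜).app k).appLE (𝔜.lvU hY.1 k V) (𝔛.lvU h k (preU 𝔜 V f))
        (FSch.Hom.lvU_preimage f h hY.1 k V).ge (pR 𝔜 hY.1 k V a) :=
    ConcreteCategory.congr_hom (congrArg (fun (t : 𝔜.Osh hY.1 ⟶ _) => t.hom.app (op V))
      (FSch.Hom.sharp_proj f h hY.1 k)) a
  refine Eq.trans ?_ (congrArg (fun z => ((jn 𝔛 h (preU 𝔜 V f) k).appLE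
    (𝔛.lvU h k (im 𝔛 h (preU 𝔜 V f) W)) ((XU 𝔛 h (preU 𝔜 V f)).lvU (hU 𝔛 h (preU 𝔜 V f)) k W)
    (lvU_im 𝔛 h (preU 𝔜 V f) k W).le).hom ((𝔛.X k).presheaf.map
      (homOfLE (lvU_mono 𝔛 h k (im_le 𝔛 h (preU 𝔜 V f) W))).op z)) h1.symm)
  have hp : pA (fV 𝔜 hY hV h f) k =
      (𝔛.lvU h k (preU 𝔜 V f)).toSpecΓ ≫ Spec.map (CommRingCat.ofHom (pR 𝔜 hY.1 k V) ≫
        ((f : FSch.Hom 𝔛 𝔜).app k).appLE (𝔜.lvU hY.1 k V) (𝔛.lvU h k (preU 𝔜 V f))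
          (FSch.Hom.lvU_preimage f h hY.1 k V).ge) := by
    rw [pA, fV_app, gk, ← Category.assoc, resLE_toSpecΓ, Category.assoc, Category.assoc]
    refine congrArg (_ ≫ ·) ?_
    show Spec.map _ ≫ Spec.map _ ≫ Spec.map _ = Spec.map _
    rw [← Spec.map_comp, ← Spec.map_comp]
    rfl
  refine (ConcreteCategory.congr_hom (congrArg (fun (t : _ ⟶ Spec (CommRingCat.of (O 𝔜 hY.1 V))) =>
    t.appLE ⊤ ((XU 𝔛 h (preU 𝔜 V f)).lvU (hU 𝔛 h (preU 𝔜 V f)) k W) le_top) hp) _).trans ?_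
  refine (appLE_toSpecΓ_comp _ _ a).trans ?_
  show _ = ((𝔛.X k).presheaf.map _ ≫ (jn 𝔛 h (preU 𝔜 V f) k).appLE _ _ _) _
  rw [Scheme.Hom.map_appLE, Scheme.Opens.ι_appLE]
  rfl

end Groth.L17.FSheaf.Restr
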