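import Groth.Agent.L17.RpushSect
import Groth.Agent.L17.FSheaf.GrLim
import Groth.Agent.L17.AcyclicThen
import Groth.Agent.L17.ExactThen
import Groth.Agent.L09.CohColim.Push
import Groth.Agent.L17.ThickLevels
import Groth.Agent.L17.ProperCoh

/-!
# Higher direct images of modules on the levels of a formal scheme
-/

set_option autoImplicit false
set_option linter.style.haveILetI false
set_option linter.unusedSectionVars false
set_option backward.isDefEq.respectTransparency false
set_option backward.isDefEq.respectTransparency.types false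

universe u

open CategoryTheory CategoryTheory.Limits AlgebraicGeometry TopologicalSpace Opposite

noncomputable section

namespace Groth.L17.FSheaf.RpushF

open Groth.L17 Groth.L17.RpushSect

variable {𝔛 𝔜 : FSch.Sys.{u}}

theorem isLocallySurjective_push {h : 𝔛.IsFormal} (k : ℕ) {G G' : (𝔛.X k).Modules} (g : G ⟶ G') [Epi g] :
    Epi ((FSch.levelMor 𝔛 h k).push.map g) := by
  haveI := Groth.L15.KFlatSite.preservesColimits_toSheaf (𝔛.X k).ringCatSheaf
  haveI : Sheaf.IsLocallySurjective ((SheafOfModules.toSheaf.{u} _).map g) :=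
    (Sheaf.isLocallySurjective_iff_epi' _ _).2 inferInstance
  haveI : Sheaf.IsLocallySurjective ((SheafOfModules.toSheaf.{u} _).map ((FSch.levelMor 𝔛 h k).push.map g)) := by
    refine (TopCat.Presheaf.isLocallySurjective_iff (X := (𝔛.X 0).toTopCat) _).2 fun W t x hx => ?_
    let y := 𝔛.levelHomeo h k x
    have hy : 𝔛.gInv h k y = x := (𝔛.levelHomeo h k).symm_apply_apply x
    obtain ⟨V, ι, ⟨s, hs⟩, hyV⟩ := (TopCat.Presheaf.isLocallySurjective_iff (X := (𝔛.X k).toTopCat) _).1
      (show Sheaf.IsLocallySurjective ((SheafOfModules.toSheaf.{u} (𝔛.X k).ringCatSheaf).map g) from inferInstance)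
      (𝔛.lvU h k W) t y (by show 𝔛.gInv h k y ∈ W; rwa [hy])
    let W' : (𝔛.X 0).Opens :=
      ⟨𝔛.levelHomeo h k ⁻¹' V.1, V.2.preimage (𝔛.levelHomeo h k).continuous⟩
    have e : 𝔛.lvU h k W' = V := Opens.ext (Set.ext fun z => by
      show (𝔛.levelHomeo h k ((𝔛.levelHomeo h k).symm z) ∈ V.1) ↔ z ∈ V.1
      rw [Homeomorph.apply_symm_apply])
    have hW' : W' ≤ W := fun z hz => by
      have h1 : 𝔛.levelHomeo h k z ∈ 𝔛.lvU h k W := ι hz
      change (𝔛.levelHomeo h k).symm (𝔛.levelHomeo h k z) ∈ W at h1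
      rwa [Homeomorph.symm_apply_apply] at h1
    have hxW : x ∈ W' := hyV
    refine ⟨W', hW', ⟨G.val.map (homOfLE e.le).op s, ?_⟩, hxW⟩
    refine (PresheafOfModules.naturality_apply g.val (homOfLE e.le).op s).trans ?_
    refine (congrArg (G'.val.map (homOfLE e.le).op) hs).trans ?_
    exact (PresheafOfModules.map_comp_apply G'.val (homOfLE (show V ≤ 𝔛.lvU h k W from ι)).op (homOfLE e.le).op t).symm.trans rfl
  haveI : Epi ((SheafOfModules.toSheaf.{u} _).map ((FSch.levelMor 𝔛 h k).push.map g)) :=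
    (Sheaf.isLocallySurjective_iff_epi' _ _).1 inferInstance
  haveI : (SheafOfModules.toSheaf.{u} (ModSite.ringSh (𝔛.Osh h))).Faithful := inferInstance
  exact (SheafOfModules.toSheaf.{u} _).epi_of_epi_map inferInstance

theorem preservesFiniteColimits_push {h : 𝔛.IsFormal} (k : ℕ) :
    PreservesFiniteColimits (FSch.levelMor 𝔛 h k).push := by
  haveI : (FSch.levelMor 𝔛 h k).push.PreservesEpimorphisms := ⟨fun g _ => isLocallySurjective_push k g⟩
  haveI : PreservesFiniteLimits (FSch.levelMor 𝔛 h k).push := inferInstance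
  haveI : (FSch.levelMor 𝔛 h k).push.PreservesHomology :=
    Functor.preservesHomology_of_preservesEpis_and_kernels _
  exact Functor.preservesFiniteColimits_of_preservesHomology _

/-- The inclusions of opens. -/
def lvNatF (f : 𝔛 ⟶ 𝔜) (h : 𝔛.IsFormal) (h' : 𝔜.IsFormal) (k : ℕ) :
    Opens.map ((f : FSch.Hom 𝔛 𝔜).app 0).base ⋙ Opens.map (𝔛.gInv h k) ⟶
      Opens.map (𝔜.gInv h' k) ⋙ Opens.map ((f : FSch.Hom 𝔛 𝔜).app k).base where
  app U := homOfLE (FSch.Hom.lvU_preimage f h h' k U).ge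
  naturality _ _ _ := Subsingleton.elim _ _

/-- Direct images of modules on the levels, on either side. -/
def pushLevel (f : 𝔛 ⟶ 𝔜) (h : 𝔛.IsFormal) (h' : 𝔜.IsFormal) (k : ℕ) :
    Scheme.Modules.pushforward ((f : FSch.Hom 𝔛 𝔜).app k) ⋙ (FSch.levelMor 𝔜 h' k).push ⟶
      (FSch.levelMor 𝔛 h k).push ⋙ FSch.pushF f h h' :=
  haveI := Functor.isContinuous_comp (Opens.map (𝔜.gInv h' k)) (Opens.map ((f : FSch.Hom 𝔛 𝔜).app k).base)
    (Opens.grothendieckTopology (𝔜.X 0).carrier) (Opens.grothendieckTopology (𝔜.X k).carrier)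
    (Opens.grothendieckTopology (𝔛.X k).carrier)
  haveI := Functor.isContinuous_comp (Opens.map ((f : FSch.Hom 𝔛 𝔜).app 0).base) (Opens.map (𝔛.gInv h k))
    (Opens.grothendieckTopology (𝔜.X 0).carrier) (Opens.grothendieckTopology (𝔛.X 0).carrier)
    (Opens.grothendieckTopology (𝔛.X k).carrier)
  (SheafOfModules.pushforwardComp (FSch.levelMor 𝔜 h' k).sharpR
      ((f : FSch.Hom 𝔛 𝔜).app k).toRingCatSheafHom).hom ≫
    SheafOfModules.pushforwardNatTrans _ (lvNatF f h h' k) ≫
    (SheafOfModules.pushforwardCongr (by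
      apply Sheaf.hom_ext
      ext U x
      have h1 := ConcreteCategory.congr_hom (congrArg (fun (t : 𝔜.Osh h' ⟶ _) => t.hom.app U)
        (FSch.Hom.sharp_proj f h h' k)) (show (𝔜.Osh h').obj.obj U from x)
      exact h1.symm)).hom ≫
    (SheafOfModules.pushforwardComp (FSch.homMor f h h').sharpR (FSch.levelMor 𝔛 h k).sharpR).inv

theorem isIso_pushLevel (f : 𝔛 ⟶ 𝔜) (h : 𝔛.IsFormal) (h' : 𝔜.IsFormal) (k : ℕ) :
    IsIso (pushLevel f h h' k) := by
  haveI : ∀ U, IsIso ((lvNatF f h h' k).app U) := fun U =>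
    ⟨homOfLE (FSch.Hom.lvU_preimage f h h' k U).le, Subsingleton.elim _ _, Subsingleton.elim _ _⟩
  have key : ∀ G, IsIso ((pushLevel f h h' k).app G) := by
    intro G
    haveI : (SheafOfModules.toSheaf.{u} (ModSite.ringSh (𝔜.Osh h'))).ReflectsIsomorphisms := inferInstance
    refine @isIso_of_reflects_iso _ _ _ _ _ _ _ (SheafOfModules.toSheaf.{u} _) ?_ _
    suffices ∀ U, IsIso (((SheafOfModules.toSheaf.{u} _).map ((pushLevel f h h' k).app G)).hom.app U) by
      haveI := NatIso.isIso_of_isIso_app ((SheafOfModules.toSheaf.{u} _).map ((pushLevel f h h' k).app G)).hom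
      haveI : IsIso ((sheafToPresheaf (Opens.grothendieckTopology ↥(𝔜.X 0)) AddCommGrpCat.{u}).map
          ((SheafOfModules.toSheaf.{u} _).map ((pushLevel f h h' k).app G))) := this
      exact isIso_of_fully_faithful (sheafToPresheaf _ _) _
    intro U
    exact inferInstanceAs (IsIso (G.presheaf.map ((lvNatF f h h' k).app U.unop).op))
  exact NatIso.isIso_of_isIso_app _

variable (f : 𝔛 ⟶ 𝔜) (h : 𝔛.IsFormal) (h' : 𝔜.IsFormal) [HasInjectiveResolutions (FSch.ModF 𝔛 h)]

/-- Injectives of the levels are acyclic for direct images. -/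
theorem isZero_Rpush_push_injective (k : ℕ) (I : (𝔛.X k).Modules) [Injective I] (q : ℕ) (hq : 0 < q) :
    IsZero ((FSch.RpushF f h h' q).obj ((FSch.levelMor 𝔛 h k).push.obj I)) := by
  obtain ⟨m, rfl⟩ : ∃ m, q = m + 1 := ⟨q - 1, by omega⟩
  refine isZero_Rpush_of_acyclic (φ := FSch.homMor f h h') _ fun W x => ?_
  haveI : Injective (show ModSite.Mod (𝔛.X k).sheaf from I) := ‹Injective I›
  haveI : Subsingleton (Abelian.Ext ((Groth.L10.SiteFr.fr (Opens.grothendieckTopology (𝔛.X 0))).obj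
      (Groth.L10.SiteFr.rep (Opens.grothendieckTopology (𝔛.X 0)) W))
      (ModSite.toAb ((FSch.levelMor 𝔛 h k).push.obj I)) (m + 1)) :=
    Groth.L10.InjTA.isTotallyAcyclic_push (𝔛.X k).sheaf (FSch.levelMor 𝔛 h k) I (Groth.L10.SiteFr.rep _ W) m
  have h1 : Subsingleton (HU (X := (𝔛.X 0).toTopCat) W
      ((SheafOfModules.toSheaf _).obj ((FSch.levelMor 𝔛 h k).push.obj I)) (m + 1)) :=
    (Groth.L10.SiteFr.extFsRep (J := Opens.grothendieckTopology (𝔛.X 0)) W _ (m + 1)).toEquiv.subsingleton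
  exact @Subsingleton.elim _ h1 _ _

/-- Higher direct images of the direct images from the levels. -/
theorem nonempty_rpushF_push_iso (k : ℕ) [HasInjectiveResolutions (𝔛.X k).Modules] (G : (𝔛.X k).Modules) (q : ℕ) :
    Nonempty ((FSch.RpushF f h h' q).obj ((FSch.levelMor 𝔛 h k).push.obj G) ≅
      (FSch.levelMor 𝔜 h' k).push.obj ((Coh.Rpush ((f : FSch.Hom 𝔛 𝔜).app k) q).obj G)) := by
  letI := HasDerivedCategory.standard (FSch.ModF 𝔛 h)
  haveI := isIso_pushLevel f h h' k
  haveI := preservesFiniteColimits_push (h := h) k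
  haveI := preservesFiniteColimits_push (h := h') k
  haveI : PreservesFiniteLimits (FSch.levelMor 𝔛 h k).push := inferInstance
  haveI : PreservesFiniteLimits (FSch.pushF f h h') := inferInstance
  haveI : PreservesFiniteLimits (FSch.levelMor 𝔜 h' k).push := inferInstance
  haveI := PushQCoh.additive_push ((f : FSch.Hom 𝔛 𝔜).app k)
  haveI : Functor.Additive ((FSch.levelMor 𝔜 h' k).push : (𝔜.X k).Modules ⥤ FSch.ModF 𝔜 h') :=
    ⟨fun {_ _ _ _} => rfl⟩
  haveI : ((FSch.levelMor 𝔛 h k).push ⋙ FSch.pushF f h h').Additive := inferInstance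
  obtain ⟨e₁⟩ := GrothSS.nonempty_rightDerived_exact_comp (FSch.levelMor 𝔛 h k).push (FSch.pushF f h h')
    (fun I hI p hp => isZero_Rpush_push_injective f h h' k I p hp) G q
  obtain ⟨e₂⟩ := Groth.L09.CohColim.nonempty_rightDerived_comp_natIso
    (Scheme.Modules.pushforward ((f : FSch.Hom 𝔛 𝔜).app k)) (FSch.levelMor 𝔜 h' k).push q
  exact ⟨e₁.symm ≪≫ (Groth.L10.SiteCoh.rightDerivedCongr (asIso (pushLevel f h h' k)) q).symm.app G ≪≫ e₂.app G⟩

/-- The direct images of quasi-coherent modules of the levels: their higher direct images have no cohomology on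
affine opens. -/
theorem hu_rpushF_push_eq_zero (hY : 𝔜.IsLocNoethFormal) (hf : FSch.IsProperHom f) (k : ℕ)
    (G : (𝔛.X k).Modules) [Coh.IsQCoh G] (q : ℕ) {V : (𝔜.X 0).Opens} (hV : IsAffineOpen V) (m : ℕ)
    (x : HU (X := (𝔜.X 0).toTopCat) V
      ((SheafOfModules.toSheaf _).obj ((FSch.RpushF f h hY.1 q).obj ((FSch.levelMor 𝔛 h k).push.obj G))) (m + 1)) :
    x = 0 := by
  haveI := PushQCoh.hasInjectiveResolutions (𝔛.X k)
  haveI := hf.2
  haveI := Groth.L17.ThickLevels.isProper_app f hY.1 hY.2.1 hf.1 k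
  obtain ⟨e⟩ := nonempty_rpushF_push_iso f h hY.1 k G q
  haveI := PushQCoh.isQCoh_Rpush ((f : FSch.Hom 𝔛 𝔜).app k) G q
  let e' := (SheafOfModules.toSheaf _).mapIso e
  have h0 := GrQuot.acyclicOn_push hY.1 k ((Coh.Rpush ((f : FSch.Hom 𝔛 𝔜).app k) q).obj G) V hV m
    (huMap e'.hom x)
  have h1 : huMap e'.inv (huMap e'.hom x) = x := by
    simp [huMap]
  rw [← h1, h0]
  simp [huMap]

/-- The canonical map is bijective for direct images of quasi-coherent modules of the levels. -/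
theorem bijective_ΦV_push (hY : 𝔜.IsLocNoethFormal) (hf : FSch.IsProperHom f) (k : ℕ)
    (G : (𝔛.X k).Modules) [Coh.IsQCoh G] (q : ℕ) {V : (𝔜.X 0).Opens} (hV : IsAffineOpen V) :
    Function.Bijective ((ΦV (FSch.homMor f h hY.1) q V).app ((FSch.levelMor 𝔛 h k).push.obj G)) :=
  bijective_ΦV _ q V _ fun p m x => hu_rpushF_push_eq_zero f h hY hf k G p hV m x

end Groth.L17.FSheaf.RpushF
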