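import Groth.Agent.L17.FSheaf.RestrictSpf
import Groth.Agent.L17.FSheaf.RpushLevel
import Groth.Agent.L17.FSheaf.GrLim
import Groth.Agent.L17.ExtExactEndo
import Groth.Agent.L17.OpenTransfer

/-!
# Cohomology over the preimage of an affine open, on the restricted formal scheme
-/

set_option autoImplicit false
set_option linter.style.haveILetI false
set_option linter.unusedSectionVars false
set_option backward.isDefEq.respectTransparency false
set_option backward.isDefEq.respectTransparency.types false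

universe u

open CategoryTheory CategoryTheory.Limits AlgebraicGeometry TopologicalSpace Opposite Abelian

noncomputable section

namespace Groth.L17.FSheaf.GrQuot

open Groth.L17.FSheaf Groth.L17.FSheaf.AdicBase

variable {A : Type u} [CommRing A] [IsNoetherianRing A] {I : Ideal A} {𝔛 : FSch.Sys.{u}}
  {f : 𝔛 ⟶ FSch.spf A I} {hX : 𝔛.IsLocNoethFormal} {𝔉 : FSch.ModF 𝔛 hX.1} (D : Data f hX 𝔉)

/-- A quotient with the kernels of a reduction is the reduction. -/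
theorem Data.exists_iso_of_spec (hf : FSch.IsAdicHom f) (h𝔉 : FSch.IsCohF 𝔛 hX.1 𝔉) (T : ℕ → FSch.ModF 𝔛 hX.1)
    (v : ∀ k, 𝔉 ⟶ T k)
    (hv : ∀ k, ∀ U : (𝔛.X 0).Opens, IsAffineOpen U →
      Function.Surjective ((v k).val.app (op U)).hom ∧ ∀ x, ((v k).val.app (op U)).hom x = 0 ↔
        x ∈ J 𝔛 hX.1 U ^ (k + 1) • (⊤ : Submodule (O 𝔛 hX.1 U) (SF 𝔛 hX.1 𝔉 U))) :
    ∃ θ : ∀ k, D.Q (k + 1) ≅ T k, ∀ k, D.π (k + 1) ≫ (θ k).hom = v k := by
  have hJ : ∀ {U : (𝔛.X 0).Opens}, IsAffineOpen U → ∀ k,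
      J 𝔛 hX.1 U ^ (k + 1) = (I ^ (k + 1)).map (ΓU f hX.1 U) := fun hU k => by
    rw [J_eq f hX hf hU, Ideal.map_pow]
  have hkill : ∀ k, ∀ a ∈ I ^ (k + 1), sc f hX a 𝔉 ≫ v k = 0 := by
    intro k a ha
    refine hom_ext_basis (B := {V | IsAffineOpen (V : (𝔛.X 0).Opens)}) (𝔛.X 0).isBasis_affineOpens _ _
      fun U hU x => ?_
    refine ((hv k U hU).2 (ΓU f hX.1 U a • x)).2 ?_
    rw [hJ hU k]
    exact Submodule.smul_mem_smul (Ideal.mem_map_of_mem _ ha) Submodule.mem_top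
  let ψ := fun k => D.desc (k + 1) (v k) (hkill k)
  have hψ : ∀ k, D.π (k + 1) ≫ ψ k = v k := fun k => D.π_desc _ _ _
  have hc : ∀ k (U : (𝔛.X 0).Opens) x, ((ψ k).val.app (op U)).hom (((D.π (k + 1)).val.app (op U)).hom x) =
      ((v k).val.app (op U)).hom x := fun k U x =>
    LinearMap.congr_fun (congrArg (fun t => ((t : 𝔉 ⟶ _).val.app (op U)).hom) (hψ k)) x
  have hiso : ∀ k, IsIso (ψ k) := by
    intro k
    haveI : Epi (ψ k) := epi_of_surjective_basis (B := {V | IsAffineOpen (V : (𝔛.X 0).Opens)})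
      (𝔛.X 0).isBasis_affineOpens _ fun U hU z => by
        obtain ⟨x, hx⟩ := (hv k U hU).1 z
        exact ⟨((D.π (k + 1)).val.app (op U)).hom x, (hc k U x).trans hx⟩
    haveI : Mono (ψ k) := by
      refine ⟨fun a b hab => hom_ext_basis (B := {V | IsAffineOpen (V : (𝔛.X 0).Opens)})
        (𝔛.X 0).isBasis_affineOpens a b fun U hU m => ?_⟩
      have hz := LinearMap.congr_fun
        (congrArg (fun t => ((t : _ ⟶ T k).val.app (op U)).hom) hab) m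
      change ((ψ k).val.app (op U)).hom ((a.val.app (op U)).hom m) =
        ((ψ k).val.app (op U)).hom ((b.val.app (op U)).hom m) at hz
      obtain ⟨x₁, hx₁⟩ := D.surjective h𝔉 (k + 1) hU ((a.val.app (op U)).hom m)
      obtain ⟨x₂, hx₂⟩ := D.surjective h𝔉 (k + 1) hU ((b.val.app (op U)).hom m)
      rw [← hx₁, ← hx₂, hc, hc, ← sub_eq_zero, ← map_sub, (hv k U hU).2, hJ hU k] at hz
      have h0 := app_eq_zero_of_mem (D.π (k + 1)) (D.kills (k + 1)) hz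
      rw [map_sub, sub_eq_zero] at h0
      exact hx₁.symm.trans (h0.trans hx₂)
    exact isIso_of_mono_of_epi _
  exact ⟨fun k => @asIso _ _ _ _ (ψ k) (hiso k), hψ⟩

end Groth.L17.FSheaf.GrQuot

namespace Groth.L17.FSheaf.RpushF

open Groth.L17 Groth.L17.RpushSect Groth.L17.FSheaf Groth.L17.FSheaf.AdicBase Groth.L17.FSheaf.Restr
open Groth.L17.FSheaf.GrQuot (sc sc_comm)
open Groth.L10.SiteCoh (rightDerivedCongr)

variable {𝔛 𝔜 : FSch.Sys.{u}} (hX : 𝔛.IsLocNoethFormal) (hY : 𝔜.IsLocNoethFormal) (f : 𝔛 ⟶ 𝔜)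
  {V : (𝔜.X 0).Opens} (hV : IsAffineOpen V) [IsNoetherianRing (O 𝔜 hY.1 V)]

/-- The restricted formal scheme. -/
abbrev XV : FSch.Sys.{u} := XU 𝔛 hX.1 (preU 𝔜 V f)

theorem hXV : (XV hX f (V := V)).IsLocNoethFormal := hUN 𝔛 (preU 𝔜 V f) hX

/-- The top open of the restricted space. -/
abbrev topV : ((XV hX f (V := V)).X 0).Opens := ⊤

theorem im_top : im 𝔛 hX.1 (preU 𝔜 V f) ⊤ = preU 𝔜 V f := by
  refine (Scheme.Hom.image_top_eq_opensRange _).trans ?_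
  rw [Scheme.Opens.opensRange_ι, lvU_zero_eq]

/-- Scalars on restricted modules. -/
def μ (a : O 𝔜 hY.1 V) : ρT 𝔛 hX.1 (preU 𝔜 V f) ⟶ ρT 𝔛 hX.1 (preU 𝔜 V f) where
  app M := (SheafOfModules.toSheaf _).map (sc (fV 𝔜 hY hV hX.1 f) (hXV hX f) a ((ρ 𝔛 hX.1 (preU 𝔜 V f)).obj M))
  naturality M N g := by
    show (SheafOfModules.toSheaf _).map _ ≫ (SheafOfModules.toSheaf _).map _ =
      (SheafOfModules.toSheaf _).map _ ≫ (SheafOfModules.toSheaf _).map _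
    rw [← Functor.map_comp, ← Functor.map_comp, sc_comm]

/-- Multiplication by a function on the open. -/
def secSmul (a : O 𝔜 hY.1 V) : secM (𝔜.Osh hY.1) V ⟶ secM (𝔜.Osh hY.1) V where
  app M := AddCommGrpCat.ofHom (DistribSMul.toAddMonoidHom (M.val.obj (op V)) a)
  naturality M N g := by
    ext x
    exact ((g.val.app (op V)).hom.map_smul a x).symm

/-- Sections over the preimage as sections of the restriction. -/
def secU : FSch.pushF f hX.1 hY.1 ⋙ secM (𝔜.Osh hY.1) V ≅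
    ρT 𝔛 hX.1 (preU 𝔜 V f) ⋙ preadditiveCoyoneda.obj (op (zFree (X := ((XV hX f (V := V)).X 0).toTopCat) ⊤)) :=
  (show FSch.pushF f hX.1 hY.1 ⋙ secM (𝔜.Osh hY.1) V ≅ secM (𝔛.Osh hX.1) (im 𝔛 hX.1 (preU 𝔜 V f) ⊤) from
    { hom := secRes (𝔛.Osh hX.1) (V := preU 𝔜 V f) (im_top hX f).le
      inv := secRes (𝔛.Osh hX.1) (V' := preU 𝔜 V f) (im_top hX f).ge
      hom_inv_id := by
        ext M x
        exact (res_res (R := ModSite.ringSh (𝔛.Osh hX.1)) M _ _ _).trans (res_self M _ _)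
      inv_hom_id := by
        ext M x
        exact (res_res (R := ModSite.ringSh (𝔛.Osh hX.1)) M _ _ _).trans (res_self M _ _) }) ≪≫
  Functor.isoWhiskerLeft (ρ 𝔛 hX.1 (preU 𝔜 V f))
    (secIsoCoy ((XV hX f (V := V)).Osh (hU 𝔛 hX.1 (preU 𝔜 V f))) ⊤)

theorem res_smul_μ (a : O 𝔜 hY.1 V) (M : FSch.ModF 𝔛 hX.1) (x : M.val.obj (op (preU 𝔜 V f))) :
    ((μ hX hY f hV a).app M).hom.app (op ⊤)
        (show ((ρ 𝔛 hX.1 (preU 𝔜 V f)).obj M).val.obj (op ⊤) from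
          res (R := ModSite.ringSh (𝔛.Osh hX.1)) M (im_top hX f).le x) =
      (show ((ρ 𝔛 hX.1 (preU 𝔜 V f)).obj M).val.obj (op ⊤) from
        res (R := ModSite.ringSh (𝔛.Osh hX.1)) M (im_top hX f).le
          ((show O 𝔛 hX.1 (preU 𝔜 V f) from (FSch.Hom.sharp f hX.1 hY.1).hom.app (op V) a) • x)) := by
  refine Eq.trans ?_ (res_smul (R := ModSite.ringSh (𝔛.Osh hX.1)) M _ _ _).symm
  refine Eq.trans ?_ (smul_β 𝔛 hX.1 (preU 𝔜 V f) M ⊤ _ _).symm
  exact congrArg (fun b : O (XV hX f (V := V)) (hU 𝔛 hX.1 (preU 𝔜 V f)) ⊤ => b •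
    (show ((ρ 𝔛 hX.1 (preU 𝔜 V f)).obj M).val.obj (op ⊤) from
      res (R := ModSite.ringSh (𝔛.Osh hX.1)) M (im_top hX f).le x)) (ΓU_fV 𝔜 hY hV hX.1 f a ⊤)

theorem zAddEquiv_symm_eq {X : TopCat.{u}} {U : Opens X} {F : AbSheaf X} (φ : F ⟶ F)
    {y z : F.obj.obj (op U)} (h : φ.hom.app (op U) z = y) :
    (zAddEquiv U F).symm y = (zAddEquiv U F).symm z ≫ φ := by
  apply (zAddEquiv U F).injective
  rw [AddEquiv.apply_symm_apply]
  exact h.symm.trans ((congrArg (φ.hom.app (op U)) ((zAddEquiv U F).apply_symm_apply z)).symm.trans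
    (zEquiv_comp U _ φ).symm)

theorem secU_smul (a : O 𝔜 hY.1 V) :
    Functor.whiskerLeft (FSch.pushF f hX.1 hY.1) (secSmul hY a) ≫ (secU hX hY f).hom =
      (secU hX hY f).hom ≫ Functor.whiskerRight (μ hX hY f hV a)
        (preadditiveCoyoneda.obj (op (zFree (X := ((XV hX f (V := V)).X 0).toTopCat) ⊤))) := by
  refine NatTrans.ext (funext fun M => AddCommGrpCat.hom_ext (AddMonoidHom.ext fun x => ?_))
  exact zAddEquiv_symm_eq ((μ hX hY f hV a).app M) (res_smul_μ hX hY f hV a M x)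

theorem acyclic_ρT (I : FSch.ModF 𝔛 hX.1) [Injective I] (m : ℕ) :
    Subsingleton (Ext (zFree (X := ((XV hX f (V := V)).X 0).toTopCat) ⊤)
      ((ρT 𝔛 hX.1 (preU 𝔜 V f)).obj I) (m + 1)) := by
  haveI h1 := subsingleton_hu_of_injective (Y := (𝔛.X 0).toTopCat) (𝔛.Osh hX.1) I
    (j₀ 𝔛 hX.1 (preU 𝔜 V f) ''ᵁ ⊤) m
  obtain ⟨e⟩ := nonempty_hu_image (j₀ 𝔛 hX.1 (preU 𝔜 V f)) ⊤ ((SheafOfModules.toSheaf _).obj I) (m + 1)
  exact @Function.Surjective.subsingleton _ _ _ h1 e.surjective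

variable [HasInjectiveResolutions (FSch.ModF 𝔛 hX.1)] (q : ℕ)

/-- Cohomology over the preimage as cohomology of the restriction. -/
def eH (M : FSch.ModF 𝔛 hX.1) :
    (PU (FSch.homMor f hX.1 hY.1) q V).obj M ≃+ Sheaf.H ((ρT 𝔛 hX.1 (preU 𝔜 V f)).obj M) q :=
  haveI := (preservesFinite_ρT 𝔛 hX.1 (preU 𝔜 V f)).1
  haveI := (preservesFinite_ρT 𝔛 hX.1 (preU 𝔜 V f)).2
  ((rightDerivedCongr (secU hX hY f) q).app M).addCommGroupIsoToAddEquiv.trans
    ((ExtExact.equiv (ρT 𝔛 hX.1 (preU 𝔜 V f)) (zFree (X := ((XV hX f (V := V)).X 0).toTopCat) ⊤)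
      (fun I hI m => acyclic_ρT hX f I m) M q).trans
      (hTopEquiv (X := ((XV hX f (V := V)).X 0).toTopCat) _ q).symm)

theorem hTopEquiv_map {X : TopCat.{u}} {F G : AbSheaf X} (a : F ⟶ G) {m : ℕ} (x : Sheaf.H F m) :
    hTopEquiv (X := X) G m (Sheaf.H.map a m x) = (hTopEquiv (X := X) F m x).comp (Ext.mk₀ a) (add_zero m) :=
  (Ext.comp_assoc_of_third_deg_zero _ _ _ (zero_add m)).symm

theorem eH_natural {M N : FSch.ModF 𝔛 hX.1} (g : M ⟶ N) (x : (PU (FSch.homMor f hX.1 hY.1) q V).obj M) :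
    eH hX hY f q N ((PU (FSch.homMor f hX.1 hY.1) q V).map g x) =
      Sheaf.H.map ((ρT 𝔛 hX.1 (preU 𝔜 V f)).map g) q (eH hX hY f q M x) := by
  haveI := (preservesFinite_ρT 𝔛 hX.1 (preU 𝔜 V f)).1
  haveI := (preservesFinite_ρT 𝔛 hX.1 (preU 𝔜 V f)).2
  refine (hTopEquiv (X := ((XV hX f (V := V)).X 0).toTopCat) ((ρT 𝔛 hX.1 (preU 𝔜 V f)).obj N) q).injective ?_
  refine Eq.trans ?_ (hTopEquiv_map ((ρT 𝔛 hX.1 (preU 𝔜 V f)).map g) _).symm
  simp only [eH, AddEquiv.trans_apply]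
  refine (AddEquiv.apply_symm_apply _ _).trans ?_
  refine Eq.trans ?_ (congrArg (fun r => Ext.comp r (Ext.mk₀ _) (add_zero q))
    (AddEquiv.apply_symm_apply _ _)).symm
  refine Eq.trans ?_ (ExtExact.equiv_naturality (ρT 𝔛 hX.1 (preU 𝔜 V f)) _ (fun I hI m => acyclic_ρT hX f I m) g q _)
  congr 1
  exact ConcreteCategory.congr_hom ((rightDerivedCongr (secU (V := V) hX hY f) q).hom.naturality g) x

/-- The scalars. -/
abbrev puSmul (a : O 𝔜 hY.1 V) : PU (FSch.homMor f hX.1 hY.1) q V ⟶ PU (FSch.homMor f hX.1 hY.1) q V :=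
  NatTrans.rightDerived (Functor.whiskerLeft (FSch.pushF f hX.1 hY.1) (secSmul hY a)) q

theorem eH_smul (a : O 𝔜 hY.1 V) (M : FSch.ModF 𝔛 hX.1) (x : (PU (FSch.homMor f hX.1 hY.1) q V).obj M) :
    eH hX hY f q M ((puSmul hX hY f q a).app M x) =
      Sheaf.H.map ((μ hX hY f hV a).app M) q (eH hX hY f q M x) := by
  haveI := (preservesFinite_ρT 𝔛 hX.1 (preU 𝔜 V f)).1
  haveI := (preservesFinite_ρT 𝔛 hX.1 (preU 𝔜 V f)).2
  refine (hTopEquiv (X := ((XV hX f (V := V)).X 0).toTopCat) ((ρT 𝔛 hX.1 (preU 𝔜 V f)).obj M) q).injective ?_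
  refine Eq.trans ?_ (hTopEquiv_map ((μ hX hY f hV a).app M) _).symm
  simp only [eH, AddEquiv.trans_apply]
  refine (AddEquiv.apply_symm_apply _ _).trans ?_
  refine Eq.trans ?_ (congrArg (fun r => Ext.comp r (Ext.mk₀ _) (add_zero q))
    (AddEquiv.apply_symm_apply _ _)).symm
  refine Eq.trans ?_ (ExtExact.equiv_endo (ρT 𝔛 hX.1 (preU 𝔜 V f)) _ (μ hX hY f hV a) (fun I hI m => acyclic_ρT hX f I m) M q _)
  congr 1
  have h := congrArg (fun t => (NatTrans.rightDerived t q).app M) (secU_smul hX hY f hV a)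
  simp only [NatTrans.rightDerived_comp, NatTrans.comp_app] at h
  exact ConcreteCategory.congr_hom h x

theorem ΦV_smul (a : O 𝔜 hY.1 V) (M : FSch.ModF 𝔛 hX.1) (x : (PU (FSch.homMor f hX.1 hY.1) q V).obj M) :
    (ΦV (FSch.homMor f hX.1 hY.1) q V).app M ((puSmul hX hY f q a).app M x) =
      (show ((FSch.RpushF f hX.1 hY.1 q).obj M).val.obj (op V) from
        a • (show ((FSch.RpushF f hX.1 hY.1 q).obj M).val.obj (op V) from
          (ΦV (FSch.homMor f hX.1 hY.1) q V).app M x)) :=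
  ConcreteCategory.congr_hom (HomologyCompare.Φ_natTrans (secM (𝔜.Osh hY.1) V) (FSch.homMor f hX.1 hY.1).push q
    (secSmul hY a) M) x

end Groth.L17.FSheaf.RpushF
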