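import Groth.Agent.L17.FSheaf.RpushLim

/-!
# The higher direct image of a coherent module is the limit of those of its levels
-/

set_option autoImplicit false
set_option linter.style.haveILetI false
set_option linter.unusedSectionVars false
set_option backward.isDefEq.respectTransparency false
set_option backward.isDefEq.respectTransparency.types false

universe u

open CategoryTheory CategoryTheory.Limits AlgebraicGeometry TopologicalSpace Opposite

noncomputable section

namespace Groth.L17.FSheaf.RpushF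

open Groth.L17.FSheaf

/-- A morphism to a limit which is an isomorphism on sections over a basis. -/
theorem exists_iso_limit_of_basis {Y : TopCat.{u}} {R : Sheaf (Opens.grothendieckTopology Y) RingCat.{u}}
    {B : Set (Opens Y)} (hB : Opens.IsBasis B) (G : ℕ → SheafOfModules.{u} R) (t : ∀ k, G (k + 1) ⟶ G k)
    (M : SheafOfModules.{u} R) (p : ∀ k, M ⟶ G k) (hp : ∀ k, p (k + 1) ≫ t k = p k)
    (hinj : ∀ W ∈ B, ∀ y : M.val.obj (op W), (∀ k, ((p k).val.app (op W)).hom y = 0) → y = 0)
    (hsurj : ∀ W ∈ B, ∀ z : ∀ k, (G k).val.obj (op W),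
      (∀ k, ((t k).val.app (op W)).hom (z (k + 1)) = z k) → ∃ y, ∀ k, ((p k).val.app (op W)).hom y = z k) :
    ∃ e : M ≅ limit (Functor.ofOpSequence (X := G) t),
      ∀ k : ℕ, e.hom ≫ limit.π (Functor.ofOpSequence (X := G) t) (op k) = p k := by
  let S := Functor.ofOpSequence (X := G) t
  let c : Cone S := ⟨M, NatTrans.ofOpSequence (F := (Functor.const ℕᵒᵖ).obj M) p fun k =>
    (Category.id_comp _).trans ((hp k).symm.trans (congrArg (p (k + 1) ≫ ·)
      (Functor.ofOpSequence_map_homOfLE_succ t k).symm))⟩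
  let g : M ⟶ limit S := limit.lift S c
  have hg : ∀ k, g ≫ limit.π S (op k) = p k := fun k => limit.lift_π c (op k)
  have hgW : ∀ k (W : Opens Y) (y : M.val.obj (op W)),
      ((limit.π S (op k)).val.app (op W)).hom ((g.val.app (op W)).hom y) = ((p k).val.app (op W)).hom y :=
    fun k W y => LinearMap.congr_fun (congrArg (fun a => ((a : M ⟶ G k).val.app (op W)).hom) (hg k)) y
  have hext : ∀ (W : Opens Y) (a b : (limit S).val.obj (op W)),
      (∀ k, ((limit.π S (op k)).val.app (op W)).hom a = ((limit.π S (op k)).val.app (op W)).hom b) → a = b :=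
    fun W a b h => Concrete.isLimit_ext _ (isLimitOfPreserves (SheafOfModules.evaluation.{u} R (op W))
      (limit.isLimit S)) a b fun ⟨n⟩ => h n
  haveI : Epi g := epi_of_surjective_basis (B := B) hB _ fun W hW z => by
    obtain ⟨y, hy⟩ := hsurj W hW (fun k => ((limit.π S (op k)).val.app (op W)).hom z) fun k => by
      have h1 : limit.π S (op (k + 1)) ≫ t k = limit.π S (op k) :=
        (congrArg (limit.π S (op (k + 1)) ≫ ·) (Functor.ofOpSequence_map_homOfLE_succ t k).symm).trans
          (limit.w S (homOfLE (Nat.le_add_right k 1)).op)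
      exact LinearMap.congr_fun (congrArg (fun a => ((a : limit S ⟶ G k).val.app (op W)).hom) h1) z
    exact ⟨y, hext W _ _ fun k => (hgW k W y).trans (hy k)⟩
  haveI : Mono g := ⟨fun a b hab => hom_ext_basis hB a b fun W hW m => by
    have h1 := LinearMap.congr_fun (congrArg (fun s => ((s : _ ⟶ limit S).val.app (op W)).hom) hab) m
    refine sub_eq_zero.1 (hinj W hW _ fun k => ?_)
    rw [map_sub, sub_eq_zero, ← hgW, ← hgW]
    exact congrArg ((limit.π S (op k)).val.app (op W)).hom h1⟩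
  haveI : IsIso g := isIso_of_mono_of_epi g
  exact ⟨asIso g, hg⟩

variable {𝔛 𝔜 : FSch.Sys.{u}} (hX : 𝔛.IsLocNoethFormal) (hY : 𝔜.IsLocNoethFormal) (f : 𝔛 ⟶ 𝔜)
  (𝔉 : FSch.ModF 𝔛 hX.1) (h𝔉 : FSch.IsCohF 𝔛 hX.1 𝔉) (hf : FSch.IsProperHom f)
  [HasInjectiveResolutions (FSch.ModF 𝔛 hX.1)] (q : ℕ)

include h𝔉 hf in
theorem exists_rpush_iso_limit :
    ∃ e : (RQ hX hY f q).obj 𝔉 ≅ limit (Functor.ofOpSequence
        (X := fun k => (RQ hX hY f q).obj (Gk hX 𝔉 k)) (fun k => (RQ hX hY f q).map (tk hX 𝔉 k))),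
      ∀ k : ℕ, e.hom ≫ limit.π (Functor.ofOpSequence
        (X := fun k => (RQ hX hY f q).obj (Gk hX 𝔉 k)) (fun k => (RQ hX hY f q).map (tk hX 𝔉 k))) (op k) =
        (RQ hX hY f q).map (πk hX 𝔉 k) := by
  refine exists_iso_limit_of_basis (B := {W | IsAffineOpen (W : (𝔜.X 0).Opens)}) (𝔜.X 0).isBasis_affineOpens
    _ _ _ _ (fun k => ?_) (fun W hW => ?_) fun W hW => ?_
  · rw [← Functor.map_comp, FSch.unit_levelTrans]
  · exact (sect_lim hX hY f 𝔉 h𝔉 hf q hW).1
  · exact (sect_lim hX hY f 𝔉 h𝔉 hf q hW).2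

end Groth.L17.FSheaf.RpushF
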