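import Groth.Agent.L17.FSheaf.RpushAffine

/-!
# Higher direct images of coherent modules on formal schemes and their levels, on affine opens
-/

set_option autoImplicit false
set_option linter.style.haveILetI false
set_option linter.unusedSectionVars false
set_option backward.isDefEq.respectTransparency false
set_option backward.isDefEq.respectTransparency.types false

universe u

open CategoryTheory CategoryTheory.Limits AlgebraicGeometry TopologicalSpace Opposite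

noncomputable section

namespace Groth.L17.FSheaf.RpushF

open Groth.L17 Groth.L17.RpushSect Groth.L17.FSheaf Groth.L17.FSheaf.Restr
open Groth.L17.FSheaf.GrQuot (Data TF hF hF_comp hF_id)

variable {𝔛 𝔜 : FSch.Sys.{u}} (hX : 𝔛.IsLocNoethFormal) (hY : 𝔜.IsLocNoethFormal) (f : 𝔛 ⟶ 𝔜)
  (𝔉 : FSch.ModF 𝔛 hX.1)

/-- The direct images of the levels. -/
abbrev Gk (k : ℕ) : FSch.ModF 𝔛 hX.1 :=
  (FSch.levelMor 𝔛 hX.1 k).push.obj ((FSch.levelMor 𝔛 hX.1 k).pull.obj 𝔉)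

/-- The projections to the levels. -/
abbrev πk (k : ℕ) : 𝔉 ⟶ Gk hX 𝔉 k := (FSch.levelMor 𝔛 hX.1 k).adj.unit.app 𝔉

/-- The transition maps of the levels. -/
abbrev tk (k : ℕ) : Gk hX 𝔉 (k + 1) ⟶ Gk hX 𝔉 k := FSch.levelTrans 𝔛 hX.1 𝔉 k

/-- The composite transition maps of the levels. -/
def trG {i j : ℕ} (h : i ≤ j) : Gk hX 𝔉 j ⟶ Gk hX 𝔉 i :=
  (Functor.ofOpSequence (X := Gk hX 𝔉) (tk hX 𝔉)).map (homOfLE h).op

theorem trG_succ (k : ℕ) : trG hX 𝔉 k.le_succ = tk hX 𝔉 k :=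
  Functor.ofOpSequence_map_homOfLE_succ _ k

theorem trG_self (i : ℕ) : trG hX 𝔉 (le_refl i) = 𝟙 _ :=
  (Functor.ofOpSequence (X := Gk hX 𝔉) (tk hX 𝔉)).map_id (op i)

theorem trG_comp {i j l : ℕ} (h : i ≤ j) (h' : j ≤ l) : trG hX 𝔉 h' ≫ trG hX 𝔉 h = trG hX 𝔉 (h.trans h') :=
  ((Functor.ofOpSequence (X := Gk hX 𝔉) (tk hX 𝔉)).map_comp (homOfLE h').op (homOfLE h).op).symm

theorem πk_trG {i j : ℕ} (h : i ≤ j) : πk hX 𝔉 j ≫ trG hX 𝔉 h = πk hX 𝔉 i := by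
  induction j, h using Nat.le_induction with
  | base => rw [trG_self, Category.comp_id]
  | succ j hij ih =>
    rw [← trG_comp hX 𝔉 hij j.le_succ, ← Category.assoc, trG_succ]
    exact (congrArg (· ≫ trG hX 𝔉 hij) (FSch.unit_levelTrans 𝔛 hX.1 𝔉 j)).trans ih

variable {V : (𝔜.X 0).Opens} (hV : IsAffineOpen V) [IsNoetherianRing (O 𝔜 hY.1 V)]

/-- The restriction functor over the open. -/
abbrev ρV : FSch.ModF 𝔛 hX.1 ⥤ FSch.ModF (XV hX f (V := V)) (hXV hX f (V := V)).1 := ρ 𝔛 hX.1 (preU 𝔜 V f)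

variable (h𝔉 : FSch.IsCohF 𝔛 hX.1 𝔉) (hf : FSch.IsProperHom f)

include h𝔉 hf in
/-- The restricted levels are the reductions of the restricted module. -/
theorem exists_comparison :
    ∃ (D : Data (fV 𝔜 hY hV hX.1 f) (hXV hX f) ((ρV hX f (V := V)).obj 𝔉))
      (θ : ∀ k, D.Q (k + 1) ≅ (ρV hX f (V := V)).obj (Gk hX 𝔉 k)),
      (∀ k, D.π (k + 1) ≫ (θ k).hom = (ρV hX f (V := V)).map (πk hX 𝔉 k)) ∧
      ∀ (i j : ℕ) (h : i ≤ j), D.tr (Nat.succ_le_succ h) ≫ (θ i).hom =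
        (θ j).hom ≫ (ρV hX f (V := V)).map (trG hX 𝔉 h) := by
  have hadic := isAdicHom_fV 𝔜 hY hV hX.1 f hf.1
  have hcoh : FSch.IsCohF (XV hX f (V := V)) (hXV hX f (V := V)).1 ((ρV hX f (V := V)).obj 𝔉) :=
    isCohF_ρ 𝔛 (preU 𝔜 V f) hX h𝔉
  obtain ⟨D⟩ := GrQuot.nonempty_data (fV 𝔜 hY hV hX.1 f) (hXV hX f) hadic _ hcoh
  obtain ⟨θ, hθ⟩ := D.exists_iso_of_spec hadic hcoh (fun k => (ρV hX f (V := V)).obj (Gk hX 𝔉 k))
    (fun k => (ρV hX f (V := V)).map (πk hX 𝔉 k))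
    (fun k W hW => unit_spec 𝔛 (preU 𝔜 V f) hX h𝔉 hW k)
  refine ⟨D, θ, hθ, fun i j h => ?_⟩
  haveI := D.epi (j + 1)
  rw [← cancel_epi (D.π (j + 1)), reassoc_of% D.π_tr (Nat.succ_le_succ h), hθ, ← Category.assoc, hθ,
    ← Functor.map_comp, πk_trG]

variable [HasInjectiveResolutions (FSch.ModF 𝔛 hX.1)] (q : ℕ)

/-- Classes over the preimage of the open. -/
abbrev PV (M : FSch.ModF 𝔛 hX.1) : Type u := (PU (FSch.homMor f hX.1 hY.1) q V).obj M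

/-- Functoriality of the classes. -/
abbrev pmap {M N : FSch.ModF 𝔛 hX.1} (g : M ⟶ N) (x : PV hX hY f q (V := V) M) : PV hX hY f q (V := V) N :=
  (PU (FSch.homMor f hX.1 hY.1) q V).map g x

theorem eH_pmap {M N : FSch.ModF 𝔛 hX.1} (g : M ⟶ N) (x : PV hX hY f q (V := V) M) :
    eH hX hY f q N (pmap hX hY f q g x) = hF ((ρV hX f (V := V)).map g) q (eH hX hY f q M x) :=
  eH_natural hX hY f q g x

include h𝔉 hf hV in
/-- Classes over the preimage of an affine open are the limit of the classes on the levels. -/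
theorem pu_lim :
    (∀ x : PV hX hY f q (V := V) 𝔉, (∀ k, pmap hX hY f q (πk hX 𝔉 k) x = 0) → x = 0) ∧
    ∀ y : ∀ k, PV hX hY f q (V := V) (Gk hX 𝔉 k), (∀ k, pmap hX hY f q (tk hX 𝔉 k) (y (k + 1)) = y k) →
      ∃ x, ∀ k, pmap hX hY f q (πk hX 𝔉 k) x = y k := by
  haveI := (O_spec 𝔜 hY hV).2.1
  obtain ⟨D, θ, hθ, hθt⟩ := exists_comparison hX hY f 𝔉 hV h𝔉 hf
  have hadic := isAdicHom_fV 𝔜 hY hV hX.1 f hf.1
  have hproper := isProper_fV 𝔜 hY hV hX.1 f hf.2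
  have hcoh : FSch.IsCohF (XV hX f (V := V)) (hXV hX f (V := V)).1 ((ρV hX f (V := V)).obj 𝔉) :=
    isCohF_ρ 𝔛 (preU 𝔜 V f) hX h𝔉
  obtain ⟨θ', hθ', hθt'⟩ := D.exists_levelIso hadic hcoh
  let c : ∀ k, Gk (hXV hX f (V := V)) ((ρV hX f (V := V)).obj 𝔉) k ≅ (ρV hX f (V := V)).obj (Gk hX 𝔉 k) :=
    fun k => (θ' k).symm ≪≫ θ k
  have hc : ∀ k, πk (hXV hX f (V := V)) ((ρV hX f (V := V)).obj 𝔉) k ≫ (c k).hom =
      (ρV hX f (V := V)).map (πk hX 𝔉 k) := fun k => by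
    show _ ≫ (θ' k).inv ≫ (θ k).hom = _
    rw [← Category.assoc]
    exact (congrArg (· ≫ (θ k).hom) ((Iso.comp_inv_eq (θ' k)).2 (hθ' k).symm)).trans (hθ k)
  have hct : ∀ k, (c (k + 1)).inv ≫ tk (hXV hX f (V := V)) ((ρV hX f (V := V)).obj 𝔉) k =
      (ρV hX f (V := V)).map (tk hX 𝔉 k) ≫ (c k).inv := fun k => by
    show ((θ (k + 1)).inv ≫ (θ' (k + 1)).hom) ≫ _ = _ ≫ ((θ k).inv ≫ (θ' k).hom)
    rw [Category.assoc, hθt' k, ← Category.assoc, ← Category.assoc]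
    refine congrArg (· ≫ _) ?_
    rw [Iso.inv_comp_eq, ← Category.assoc, Iso.eq_comp_inv, ← trG_succ]
    exact hθt k (k + 1) k.le_succ
  obtain ⟨h1, h2⟩ := GrQuot.hF_levels_bijective (hX := hXV hX f (V := V)) hcoh hadic hproper q
  refine ⟨fun x hx => (eH hX hY f q 𝔉).injective ?_, fun y hy => ?_⟩
  · rw [map_zero]
    refine h1 _ fun k => ?_
    have h3 : hF ((ρV hX f (V := V)).map (πk hX 𝔉 k)) q (eH hX hY f q 𝔉 x) = 0 := by
      rw [← eH_pmap, hx k, map_zero]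
    show hF (πk (hXV hX f (V := V)) ((ρV hX f (V := V)).obj 𝔉) k) q _ = 0
    rw [← (Iso.comp_inv_eq (c k)).2 (hc k).symm, hF_comp, h3, map_zero]
  · obtain ⟨x', hx'⟩ := h2 (fun k => hF (c k).inv q (eH hX hY f q _ (y k))) fun k => by
      show hF (tk (hXV hX f (V := V)) _ k) q (hF (c (k + 1)).inv q _) = _
      rw [← hF_comp, hct k, hF_comp, ← eH_pmap, hy k]
    refine ⟨(eH hX hY f q 𝔉).symm x', fun k => (eH hX hY f q (Gk hX 𝔉 k)).injective ?_⟩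
    rw [eH_pmap, AddEquiv.apply_symm_apply, ← hc k, hF_comp]
    refine (congrArg (hF (c k).hom q) (hx' k)).trans ?_
    rw [← hF_comp, Iso.inv_hom_id, hF_id]

include h𝔉 hf hV in
/-- The images of the classes on the levels are stable, uniformly. -/
theorem pu_stable :
    ∃ r, ∀ (i l : ℕ) (hil : i + r ≤ l) (y : PV hX hY f q (V := V) (Gk hX 𝔉 (i + r))),
      ∃ y', pmap hX hY f q (trG hX 𝔉 ((Nat.le_add_right i r).trans hil)) y' =
        pmap hX hY f q (trG hX 𝔉 (Nat.le_add_right i r)) y := by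
  haveI := (O_spec 𝔜 hY hV).2.1
  obtain ⟨D, θ, -, hθt⟩ := exists_comparison hX hY f 𝔉 hV h𝔉 hf
  obtain ⟨r, hr⟩ := D.exists_range_stable (isAdicHom_fV 𝔜 hY hV hX.1 f hf.1)
    (isCohF_ρ 𝔛 (preU 𝔜 V f) hX h𝔉) (isProper_fV 𝔜 hY hV hX.1 f hf.2) q
  refine ⟨r, fun i l hil y => ?_⟩
  let y₀ : Sheaf.H ((TF (hXV hX f (V := V)).1).obj (D.Q (i + r + 1))) q :=
    hF (θ (i + r)).inv q (eH hX hY f q _ y)
  obtain ⟨y₁, hy₁⟩ := hr (i + 1) (l + 1) (by omega) (hF (D.tr (show i + 1 + r ≤ i + r + 1 by omega)) q y₀)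
  refine ⟨(eH hX hY f q (Gk hX 𝔉 l)).symm (hF (θ l).hom q y₁),
    (eH hX hY f q (Gk hX 𝔉 i)).injective ?_⟩
  rw [eH_pmap, eH_pmap, AddEquiv.apply_symm_apply, ← hF_comp, ← hθt, hF_comp]
  refine (congrArg (hF (θ i).hom q) (hy₁.trans (show _ = hF (D.tr (Nat.succ_le_succ (Nat.le_add_right i r))) q y₀
    from by rw [← hF_comp, D.tr_comp]))).trans ?_
  rw [← hF_comp, hθt i (i + r) (Nat.le_add_right i r), hF_comp]
  refine congrArg (hF _ q) ?_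
  show hF (θ (i + r)).hom q (hF (θ (i + r)).inv q _) = _
  rw [← hF_comp, Iso.inv_hom_id, hF_id]

/-- The higher direct image. -/
abbrev RQ : FSch.ModF 𝔛 hX.1 ⥤ FSch.ModF 𝔜 hY.1 := FSch.RpushF f hX.1 hY.1 q

/-- The comparison map. -/
abbrev Φs (M : FSch.ModF 𝔛 hX.1) (x : PV hX hY f q (V := V) M) : SF 𝔜 hY.1 ((RQ hX hY f q).obj M) V :=
  (ΦV (FSch.homMor f hX.1 hY.1) q V).app M x

/-- The induced maps on sections. -/
abbrev rmap {M N : FSch.ModF 𝔛 hX.1} (g : M ⟶ N) (W : (𝔜.X 0).Opens) :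
    SF 𝔜 hY.1 ((RQ hX hY f q).obj M) W →ₗ[O 𝔜 hY.1 W] SF 𝔜 hY.1 ((RQ hX hY f q).obj N) W :=
  (((RQ hX hY f q).map g).val.app (op W)).hom

theorem Φs_pmap {M N : FSch.ModF 𝔛 hX.1} (g : M ⟶ N) (x : PV hX hY f q (V := V) M) :
    Φs hX hY f q N (pmap hX hY f q g x) = rmap hX hY f q g V (Φs hX hY f q M x) :=
  ConcreteCategory.congr_hom ((ΦV (FSch.homMor f hX.1 hY.1) q V).naturality g) x

theorem rmap_comp {M N P : FSch.ModF 𝔛 hX.1} (g : M ⟶ N) (g' : N ⟶ P) (W : (𝔜.X 0).Opens)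
    (x : SF 𝔜 hY.1 ((RQ hX hY f q).obj M) W) :
    rmap hX hY f q g' W (rmap hX hY f q g W x) = rmap hX hY f q (g ≫ g') W x := by
  show _ = (((RQ hX hY f q).map (g ≫ g')).val.app (op W)).hom x
  rw [Functor.map_comp]
  rfl

theorem rmap_res {M N : FSch.ModF 𝔛 hX.1} (g : M ⟶ N) {W W' : (𝔜.X 0).Opens} (hW : W' ≤ W)
    (x : SF 𝔜 hY.1 ((RQ hX hY f q).obj M) W) :
    rmap hX hY f q g W' (res (R := ModSite.ringSh (𝔜.Osh hY.1)) ((RQ hX hY f q).obj M) hW x) =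
      res (R := ModSite.ringSh (𝔜.Osh hY.1)) ((RQ hX hY f q).obj N) hW (rmap hX hY f q g W x) :=
  PresheafOfModules.naturality_apply ((RQ hX hY f q).map g).val (homOfLE hW).op x

include h𝔉 hf hV in
theorem bijective_Φs_level (k : ℕ) : Function.Bijective (Φs hX hY f q (V := V) (Gk hX 𝔉 k)) :=
  haveI : Coh.IsQCoh ((FSch.levelMor 𝔛 hX.1 k).pull.obj 𝔉) := (isCoh_canonSys 𝔛 hX 𝔉 h𝔉 k).1
  bijective_ΦV_push f hX.1 hY hf k _ q hV

include h𝔉 hf in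
/-- Sections of the higher direct image over an affine open are the limit over the levels. -/
theorem sect_lim {W : (𝔜.X 0).Opens} (hW : IsAffineOpen W) :
    (∀ y : SF 𝔜 hY.1 ((RQ hX hY f q).obj 𝔉) W, (∀ k, rmap hX hY f q (πk hX 𝔉 k) W y = 0) → y = 0) ∧
    ∀ z : ∀ k, SF 𝔜 hY.1 ((RQ hX hY f q).obj (Gk hX 𝔉 k)) W,
      (∀ k, rmap hX hY f q (tk hX 𝔉 k) W (z (k + 1)) = z k) →
        ∃ y, ∀ k, rmap hX hY f q (πk hX 𝔉 k) W y = z k := by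
  refine ⟨fun y hy => eq_of_locally (R := ModSite.ringSh (𝔜.Osh hY.1)) _ _ _ fun x hx => ?_, fun z hz => ?_⟩
  · obtain ⟨V₁, hV₁, hxV₁, p, hp⟩ := exists_local_preimage (FSch.homMor f hX.1 hY.1) q 𝔉 y x hx
    obtain ⟨V₂, hV₂, hxV₂, hV₂₁⟩ := Opens.isBasis_iff_nbhd.1 (𝔜.X 0).isBasis_affineOpens hxV₁
    haveI := (O_spec 𝔜 hY hV₂).1
    refine ⟨V₂, hV₂₁.trans hV₁, hxV₂, ?_⟩
    have h1 := (ΦV_res (FSch.homMor f hX.1 hY.1) q hV₂₁ 𝔉 p).trans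
      ((congrArg (res (R := ModSite.ringSh (𝔜.Osh hY.1)) _ hV₂₁) hp).trans (res_res _ _ _ _))
    rw [res_zero, ← h1]
    refine (congrArg (fun t => (ΦV (FSch.homMor f hX.1 hY.1) q V₂).app 𝔉 t) ?_).trans (map_zero _)
    refine (pu_lim hX hY f 𝔉 hV₂ h𝔉 hf q).1 _ fun k =>
      (bijective_Φs_level hX hY f 𝔉 hV₂ h𝔉 hf q k).1 ?_
    rw [Φs_pmap]
    refine Eq.trans ?_ (map_zero _).symm
    refine (congrArg (rmap hX hY f q (πk hX 𝔉 k) V₂) h1).trans ?_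
    rw [rmap_res, hy k, res_zero]
  · haveI := (O_spec 𝔜 hY hW).1
    choose w hw using fun k => (bijective_Φs_level hX hY f 𝔉 hW h𝔉 hf q k).2 (z k)
    obtain ⟨x, hx⟩ := (pu_lim hX hY f 𝔉 hW h𝔉 hf q).2 w fun k =>
      (bijective_Φs_level hX hY f 𝔉 hW h𝔉 hf q k).1 (by rw [Φs_pmap, hw, hw, hz])
    exact ⟨Φs hX hY f q 𝔉 x, fun k => by rw [← Φs_pmap, hx k, hw k]⟩

include h𝔉 hf in
/-- The images in the sections of the levels over an affine open are stable. -/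
theorem sect_stable {W : (𝔜.X 0).Opens} (hW : IsAffineOpen W) :
    ∃ r, ∀ (i l : ℕ) (hil : i + r ≤ l) (y : SF 𝔜 hY.1 ((RQ hX hY f q).obj (Gk hX 𝔉 (i + r))) W),
      ∃ y', rmap hX hY f q (trG hX 𝔉 ((Nat.le_add_right i r).trans hil)) W y' =
        rmap hX hY f q (trG hX 𝔉 (Nat.le_add_right i r)) W y := by
  haveI := (O_spec 𝔜 hY hW).1
  obtain ⟨r, hr⟩ := pu_stable hX hY f 𝔉 hW h𝔉 hf q
  refine ⟨r, fun i l hil y => ?_⟩
  obtain ⟨x, rfl⟩ := (bijective_Φs_level hX hY f 𝔉 hW h𝔉 hf q (i + r)).2 y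
  obtain ⟨x', hx'⟩ := hr i l hil x
  exact ⟨Φs hX hY f q _ x', by rw [← Φs_pmap, ← Φs_pmap, hx']⟩

end Groth.L17.FSheaf.RpushF
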